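import Cfsg.Agent.H66.Subfield.LongRoot
import Cfsg.Agent.H52.TableB2

/-!
`c ∈ F` for type `B₂`.
-/

set_option autoImplicit false
set_option linter.unusedSectionVars false

open Cfsg.Lie H52
open scoped MatrixGroups

namespace H66.Subfield

variable {K : Type*} [Field K] [Fintype K] (O : Ov chevB2 K)

namespace Ov

include O

theorem card_three_mem (hF : Nat.card O.F = 3) :
    (3 : K) = 0 ∧ ∀ z ∈ O.F, z = 0 ∨ z = 1 ∨ z = -1 := by
  classical
  have h3 : Fintype.card O.F = 3 := by rw [← Nat.card_eq_fintype_card]; exact hF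
  refine ⟨?_, fun z hz => ?_⟩
  · have h4 := FiniteField.cast_card_eq_zero O.F
    rw [h3] at h4
    have := congrArg O.F.subtype h4
    rwa [map_natCast, map_zero, Nat.cast_ofNat] at this
  · have h4 := FiniteField.pow_card (⟨z, hz⟩ : O.F)
    rw [h3] at h4
    have h5 : z ^ 3 = z := congrArg Subtype.val h4
    rcases mul_eq_zero.1 (show z * (z ^ 2 - 1) = 0 by linear_combination h5) with h6 | h6
    · exact Or.inl h6
    · exact Or.inr (sq_eq_one_iff.1 (sub_eq_zero.1 h6))

theorem b2_word (r s : ℕ) (hr : r < 8) (hs : s < 8) (h1 : s ≠ r) (h2 : s ≠ chevB2.neg r) (t u : K)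
    (W : List (ℕ × ℤ × ℕ × ℕ)) (hW : chevB2.commTerms r s = W) :
    rt chevB2 s u * rt chevB2 r t = rt chevB2 r t * rt chevB2 s u *
      wordRt chevB2 (W.map fun c => (c.1, (c.2.1 : K) * (-t) ^ c.2.2.1 * u ^ c.2.2.2)) := by
  rw [O.C.hC.comm_rt (by simpa [show chevB2.nroots = 8 by decide] using hr)
    (by simpa [show chevB2.nroots = 8 by decide] using hs) h1 h2 t u, ← hW]
  rfl

/-- Case of two elements. -/
theorem b2_two (h2 : (2 : K) = 0) {g : GL chevB2.Idx K} (hg : g ∈ O.H)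
    (hc : vc chevB2 (vec g) 0 ≠ 0) : vc chevB2 (vec g) 0 ∈ O.F := by
  classical
  have hN : chevB2.nroots = 8 := by decide
  have hneg : ∀ x : K, -x = x := fun x => two_neg h2 x
  obtain ⟨u, hu, -, hconj⟩ := exists_frame O.hl O.C (O.hH hg) hc
  set c := vc chevB2 (vec g) 0
  have htop : ∀ z : K, u * rt chevB2 7 z * u⁻¹ = rt chevB2 7 z :=
    (pos_top O.hl O.C (radQ_le_pos O.hl O.C hu)).2
  -- commuting pairs
  have comm : ∀ r s : ℕ, r < 8 → s < 8 → s ≠ r → s ≠ chevB2.neg r → chevB2.commTerms r s = [] → ∀ t z : K,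
      rt chevB2 s z * rt chevB2 r t = rt chevB2 r t * rt chevB2 s z := by
    intro r s a b h1 h3 h4 t z
    rw [O.b2_word r s a b h1 h3 t z [] h4]
    simp [wordRt]
  have c46 := comm 4 6 (by decide) (by decide) (by decide) (by decide) (by decide)
  have c67 := comm 6 7 (by decide) (by decide) (by decide) (by decide) (by decide)
  have c47 := comm 4 7 (by decide) (by decide) (by decide) (by decide) (by decide)
  have c65 : ∀ t z : K, rt chevB2 6 z * rt chevB2 5 t = rt chevB2 5 t * rt chevB2 6 z := by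
    intro t z
    rw [O.b2_word 5 6 (by decide) (by decide) (by decide) (by decide) t z [(7, 2, 1, 1)] (by decide)]
    simp [wordRt, h2, O.C.hC.rt_zero]
  have c57 := comm 5 7 (by decide) (by decide) (by decide) (by decide) (by decide)
  have key : (∀ z : K, u * rt chevB2 6 z * u⁻¹ = rt chevB2 6 z) ∧ ∃ μ : K, ∀ d : K,
      u * rt chevB2 4 d * u⁻¹ = rt chevB2 4 d * rt chevB2 6 (μ * d) * rt chevB2 7 (μ ^ 2 * d) := by
    clear hconj htop
    induction hu using Subgroup.closure_induction with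
    | mem y hy =>
      obtain ⟨s, t, hs, rfl⟩ := hy
      have hs' : s = 5 ∨ s = 6 ∨ s = 7 := by
        have : ∀ r < 8, inQ chevB2 r = true → r = 5 ∨ r = 6 ∨ r = 7 := by decide
        exact this s (by simpa [hN] using (inQ_iff.1 hs).2.1) hs
      rcases hs' with rfl | rfl | rfl
      · refine ⟨fun z => by rw [← c65, mul_inv_cancel_right], t, fun d => ?_⟩
        have h := O.b2_word 5 4 (by decide) (by decide) (by decide) (by decide) t d
          [(6, -1, 1, 1), (7, -1, 2, 1)] (by decide)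
        simp [wordRt, hneg] at h
        calc rt chevB2 5 t * rt chevB2 4 d * (rt chevB2 5 t)⁻¹
            = rt chevB2 4 d * rt chevB2 5 t * (rt chevB2 6 (t * d) * rt chevB2 7 (t ^ 2 * d))⁻¹ *
                (rt chevB2 5 t)⁻¹ := by rw [h]; group
          _ = rt chevB2 4 d * (rt chevB2 5 t * (rt chevB2 7 (t ^ 2 * d) * rt chevB2 6 (t * d)) *
                (rt chevB2 5 t)⁻¹) := by
              rw [mul_inv_rev, O.C.hC.rt_inv, O.C.hC.rt_inv, hneg, hneg]; group
          _ = _ := by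
              rw [c67, show ∀ a b : GL chevB2.Idx K, rt chevB2 5 t * (a * b) * (rt chevB2 5 t)⁻¹ =
                rt chevB2 5 t * a * (rt chevB2 5 t)⁻¹ * (rt chevB2 5 t * b * (rt chevB2 5 t)⁻¹) from
                fun a b => by group, ← c65, ← c57, mul_inv_cancel_right, mul_inv_cancel_right]
              simp only [mul_assoc]
      · refine ⟨fun z => by rw [O.C.hC.rt_mul, add_comm t z, ← O.C.hC.rt_mul, mul_inv_cancel_right], 0,
          fun d => ?_⟩
        rw [c46 d t, mul_inv_cancel_right]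
        simp [O.C.hC.rt_zero]
      · refine ⟨fun z => by rw [c67, mul_inv_cancel_right], 0, fun d => ?_⟩
        rw [c47 d t, mul_inv_cancel_right]
        simp [O.C.hC.rt_zero]
    | one => exact ⟨fun z => by simp, 0, fun d => by simp [O.C.hC.rt_zero]⟩
    | mul a b ha hb iha ihb =>
      obtain ⟨A6, A, hA⟩ := iha
      obtain ⟨B6, B, hB⟩ := ihb
      refine ⟨fun z => ?_, A + B, fun d => ?_⟩
      · rw [show a * b * rt chevB2 6 z * (a * b)⁻¹ = a * (b * rt chevB2 6 z * b⁻¹) * a⁻¹ by group, B6, A6]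
      · have ha7 := (pos_top O.hl O.C (radQ_le_pos O.hl O.C ha)).2 (B ^ 2 * d)
        rw [show a * b * rt chevB2 4 d * (a * b)⁻¹ = a * (b * rt chevB2 4 d * b⁻¹) * a⁻¹ by group, hB,
          show a * (rt chevB2 4 d * rt chevB2 6 (B * d) * rt chevB2 7 (B ^ 2 * d)) * a⁻¹ =
            a * rt chevB2 4 d * a⁻¹ * (a * rt chevB2 6 (B * d) * a⁻¹) * (a * rt chevB2 7 (B ^ 2 * d) * a⁻¹) by group,
          hA, A6, show a * rt chevB2 7 (B ^ 2 * d) * a⁻¹ = rt chevB2 7 (B ^ 2 * d) from ha7]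
        rw [show (A + B) ^ 2 * d = A ^ 2 * d + B ^ 2 * d by linear_combination (A * B * d) * h2,
          show (A + B) * d = A * d + B * d by ring, ← O.C.hC.rt_mul, ← O.C.hC.rt_mul]
        simp only [mul_assoc]
        rw [← mul_assoc (rt chevB2 7 (A ^ 2 * d)), c67, mul_assoc]
    | inv a ha iha =>
      obtain ⟨A6, A, hA⟩ := iha
      have hai : ∀ z, a⁻¹ * rt chevB2 6 z * a = rt chevB2 6 z := fun z => by
        conv_lhs => rw [← A6 z]
        group
      refine ⟨fun z => by rw [inv_inv]; exact hai z, A, fun d => ?_⟩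
      have h7 : a⁻¹ * rt chevB2 7 (A ^ 2 * d) * a = rt chevB2 7 (A ^ 2 * d) := by
        have := (pos_top O.hl O.C (radQ_le_pos O.hl O.C (inv_mem ha))).2 (A ^ 2 * d)
        rwa [inv_inv] at this
      have h1 : rt chevB2 4 d = a⁻¹ * (a * rt chevB2 4 d * a⁻¹) * a := by group
      rw [hA, show a⁻¹ * (rt chevB2 4 d * rt chevB2 6 (A * d) * rt chevB2 7 (A ^ 2 * d)) * a =
        a⁻¹ * rt chevB2 4 d * a * (a⁻¹ * rt chevB2 6 (A * d) * a) * (a⁻¹ * rt chevB2 7 (A ^ 2 * d) * a) by group,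
        hai, h7, ← mul_inv_eq_iff_eq_mul, ← mul_inv_eq_iff_eq_mul, O.C.hC.rt_inv, O.C.hC.rt_inv, hneg, hneg,
        mul_assoc, c67, ← mul_assoc] at h1
      rw [inv_inv, ← h1]
  obtain ⟨h6, μ, h4⟩ := key
  let H' : Subgroup (GL chevB2.Idx K) := O.H.comap (MulAut.conj u).toMonoidHom
  have hmem : ∀ x, x ∈ H' ↔ u * x * u⁻¹ ∈ O.H := fun x => Iff.rfl
  have a7 : rt chevB2 7 (1 : K) ∈ H' := by rw [hmem, htop]; exact O.hone 7 (by decide)
  have a0 : rt chevB2 0 c ∈ H' := by
    rw [hmem]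
    have := hconj 1
    rw [mul_one] at this
    rw [← this]
    exact mul_mem (mul_mem hg (O.hone _ O.top_lt)) (inv_mem hg)
  have a6 : rt chevB2 6 (1 : K) ∈ H' := by rw [hmem, h6]; exact O.hone 6 (by decide)
  have hw : rt chevB2 2 c * rt chevB2 4 c ∈ H' := by
    have h := O.b2_word 0 6 (by decide) (by decide) (by decide) (by decide) c (1 : K)
      [(2, -1, 1, 1), (4, 1, 1, 2)] (by decide)
    simp [wordRt, hneg] at h
    rw [← inv_mul_eq_iff_eq_mul] at h
    rw [← h]
    exact mul_mem (inv_mem (mul_mem a0 a6)) (mul_mem a6 a0)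
  have c24 := comm 2 4 (by decide) (by decide) (by decide) (by decide) (by decide)
  have hw' : rt chevB2 6 c * rt chevB2 4 (c * c) ∈ H' := by
    have h := O.b2_word 7 2 (by decide) (by decide) (by decide) (by decide) (1 : K) c
      [(6, -1, 1, 1), (4, -1, 1, 2)] (by decide)
    simp [wordRt, hneg] at h
    have e : rt chevB2 2 c * rt chevB2 4 c * rt chevB2 7 1 =
        rt chevB2 7 1 * (rt chevB2 2 c * rt chevB2 4 c) * (rt chevB2 6 c * rt chevB2 4 (c * c)) := by
      rw [mul_assoc, ← c47 c, ← mul_assoc, h, ← pow_two]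
      simp only [mul_assoc]
      rw [O.C.hC.rt_mul, ← mul_assoc (rt chevB2 4 c), ← c46 c c, mul_assoc (rt chevB2 6 c), O.C.hC.rt_mul, add_comm c]
    rw [← inv_mul_eq_iff_eq_mul] at e
    rw [← e]
    exact mul_mem (inv_mem (mul_mem a7 hw)) (mul_mem hw a7)
  set d := c * c with hd
  have hh : rt chevB2 4 d * rt chevB2 6 (c + μ * d) * rt chevB2 7 (μ ^ 2 * d) ∈ O.H := by
    have := (hmem _).1 hw'
    rwa [show u * (rt chevB2 6 c * rt chevB2 4 d) * u⁻¹ = u * rt chevB2 6 c * u⁻¹ * (u * rt chevB2 4 d * u⁻¹) by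
      group, h6, h4, ← mul_assoc, ← mul_assoc, c46 d c, mul_assoc (rt chevB2 4 d), O.C.hC.rt_mul] at this
  have h5 := O.hone 5 (by decide)
  have hz : rt chevB2 6 d * rt chevB2 7 d ∈ O.H := by
    have h := O.b2_word 5 4 (by decide) (by decide) (by decide) (by decide) (1 : K) d
      [(6, -1, 1, 1), (7, -1, 2, 1)] (by decide)
    simp [wordRt, hneg] at h
    set E := rt chevB2 6 (c + μ * d) * rt chevB2 7 (μ ^ 2 * d)
    have e1 : E * rt chevB2 5 1 = rt chevB2 5 1 * E := by
      simp only [E]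
      rw [mul_assoc, c57, ← mul_assoc, c65, mul_assoc]
    have e2 : E * (rt chevB2 6 d * rt chevB2 7 d) = rt chevB2 6 d * rt chevB2 7 d * E := by
      have hcm : ∀ z : K, Commute (rt chevB2 6 z) E := fun z => by
        refine Commute.mul_right ?_ ?_
        · show _ * _ = _ * _
          rw [O.C.hC.rt_mul, O.C.hC.rt_mul, add_comm]
        · exact (c67 z _).symm
      have hcm' : ∀ z : K, Commute (rt chevB2 7 z) E := fun z => by
        refine Commute.mul_right (c67 _ z) ?_
        show _ * _ = _ * _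
        rw [O.C.hC.rt_mul, O.C.hC.rt_mul, add_comm]
      exact ((hcm d).mul_left (hcm' d)).eq.symm
    rw [mul_assoc] at hh
    have e : rt chevB2 4 d * E * rt chevB2 5 1 =
        rt chevB2 5 1 * (rt chevB2 4 d * E) * (rt chevB2 6 d * rt chevB2 7 d) := by
      rw [mul_assoc, e1, ← mul_assoc, h]
      simp only [mul_assoc] at e2 ⊢
      rw [e2]
    rw [← inv_mul_eq_iff_eq_mul] at e
    rw [← e]
    exact mul_mem (inv_mem (mul_mem h5 hh)) (mul_mem hh h5)
  -- reflect by the short fundamental root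
  have hz' : rt chevB2 7 d * rt chevB2 4 d ∈ O.H := by
    let i : Fin chevB2.rank := ⟨0, by decide⟩
    have hn := O.nw_mem [i]
    obtain ⟨e6, he6, -, hc6⟩ := nw_act (K := K) O.C [i] ⟨6, by decide⟩
    obtain ⟨e7, he7, -, hc7⟩ := nw_act (K := K) O.C [i] ⟨7, by decide⟩
    have hone : ∀ {e : K}, e * e = 1 → e = 1 := fun {e} he => by
      rcases mul_self_eq_one_iff.1 he with rfl | rfl
      exacts [rfl, hneg 1]
    have w6 : (O.C.wperm [i] ⟨6, by decide⟩).val = 6 := by
      rw [O.C.wperm_cons, O.C.wperm_nil, mul_one, O.C.sigma_val]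
      decide
    have w7 : (O.C.wperm [i] ⟨7, by decide⟩).val = 4 := by
      rw [O.C.wperm_cons, O.C.wperm_nil, mul_one, O.C.sigma_val]
      decide
    have h1 := mul_mem (mul_mem hn hz) (inv_mem hn)
    rw [show ∀ n a b : GL chevB2.Idx K, n * (a * b) * n⁻¹ = n * a * n⁻¹ * (n * b * n⁻¹) from
      fun n a b => by group] at h1
    rw [show (6 : ℕ) = (⟨6, by decide⟩ : Fin chevB2.nroots).val from rfl, hc6] at h1
    rw [show (7 : ℕ) = (⟨7, by decide⟩ : Fin chevB2.nroots).val from rfl, hc7] at h1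
    rw [w6, w7, hone he6, hone he7, one_mul] at h1
    have h2' := mul_mem hz h1
    rwa [show rt chevB2 6 d * rt chevB2 7 d * (rt chevB2 6 d * rt chevB2 4 d) =
      rt chevB2 6 d * (rt chevB2 7 d * rt chevB2 6 d) * rt chevB2 4 d by simp only [mul_assoc], c67, ← mul_assoc,
      O.C.hC.rt_mul, show d + d = 0 by linear_combination d * h2, O.C.hC.rt_zero, one_mul] at h2'
  -- two commuting copies of SL₂
  let R4 : Subgroup (GL chevB2.Idx K) := chevB2.rootSubgroup K 4 ⊔ chevB2.rootSubgroup K 3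
  have hR : ∀ s : SL(2, K), ∀ n ∈ R4, O.phi s * n = n * O.phi s := by
    have hab : ∀ a ∈ [7, 0], ∀ b ∈ [4, 3],
        chevB2.rootSubgroup K a ≤ Subgroup.centralizer (chevB2.rootSubgroup K b : Set (GL chevB2.Idx K)) := by
      intro a ha b hb
      have hf : a < 8 ∧ b < 8 ∧ b ≠ a ∧ b ≠ chevB2.neg a ∧ chevB2.commTerms a b = [] := by
        have : ∀ a ∈ [7, 0], ∀ b ∈ [4, 3],
          a < 8 ∧ b < 8 ∧ b ≠ a ∧ b ≠ chevB2.neg a ∧ chevB2.commTerms a b = [] := by decide
        exact this a ha b hb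
      obtain ⟨ha8, hb8, h1, h3, h4'⟩ := hf
      rw [ChevalleyDatum.rootSubgroup, ChevalleyDatum.rootSubgroup, Subgroup.centralizer_closure,
        Subgroup.closure_le]
      rintro x ⟨t, ht⟩
      rw [O.C.hC.eq_rt ht, SetLike.mem_coe, Subgroup.mem_centralizer_iff]
      rintro y ⟨z, hz⟩
      rw [O.C.hC.eq_rt hz]
      exact comm a b ha8 hb8 h1 h3 h4' t z
    intro s n hn
    have hs : O.phi s ∈ chevB2.rootSubgroup K (chevB2.nroots - 1) ⊔ chevB2.rootSubgroup K 0 := by
      rw [← O.phi_range]; exact ⟨s, rfl⟩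
    have hle : chevB2.rootSubgroup K (chevB2.nroots - 1) ⊔ chevB2.rootSubgroup K 0 ≤
        Subgroup.centralizer (R4 : Set (GL chevB2.Idx K)) := by
      rw [Subgroup.le_centralizer_iff]
      refine sup_le ?_ ?_ <;> rw [Subgroup.le_centralizer_iff] <;>
        exact sup_le (hab 7 (by simp) _ (by simp)) (hab 0 (by simp) _ (by simp))
    exact (Subgroup.mem_centralizer_iff.1 (hle hs) n hn).symm
  let S : Subgroup SL(2, K) :=
    { carrier := {s | ∃ n ∈ R4, O.phi s * n ∈ O.H}
      one_mem' := ⟨1, one_mem _, by simp⟩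
      mul_mem' := by
        rintro s s' ⟨n, hn, hs⟩ ⟨n', hn', hs'⟩
        refine ⟨n * n', mul_mem hn hn', ?_⟩
        have := mul_mem hs hs'
        rw [map_mul, show O.phi s * O.phi s' * (n * n') = O.phi s * (O.phi s' * n) * n' by group, hR s' n hn]
        rwa [show O.phi s * (n * O.phi s') * n' = O.phi s * n * (O.phi s' * n') by group]
      inv_mem' := by
        rintro s ⟨n, hn, hs⟩
        refine ⟨n⁻¹, inv_mem hn, ?_⟩
        rw [hR _ _ (inv_mem hn), map_inv, ← mul_inv_rev]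
        exact inv_mem hs }
  have h4R : ∀ t : K, rt chevB2 4 t ∈ R4 := fun t =>
    Subgroup.mem_sup_left (Subgroup.subset_closure ⟨t, O.C.hC.coe_rt _ _⟩)
  have s1 : H37.upper2 (1 : K) ∈ S := ⟨1, one_mem _, by rw [mul_one, O.phi_up]; exact O.hone _ O.top_lt⟩
  have sl : H37.lower2 (1 : K) ∈ S := ⟨1, one_mem _, by rw [mul_one, O.phi_lo]; exact O.hone 0 (by decide)⟩
  have sd : d ∈ upPart S := ⟨rt chevB2 4 d, h4R d, by rw [O.phi_up]; exact hz'⟩
  obtain ⟨r, hr, hr2, h, ⟨n, hn, hh'⟩, hm⟩ := exists_diag h2 one_ne_zero s1 sl (mul_self_ne_zero.2 hc) sd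
  have hdF : d ∈ O.F := by
    rw [mem_F]
    have e : h * H37.upper2 (1 : K) = H37.upper2 d * h := by
      apply Subtype.ext
      rw [Matrix.SpecialLinearGroup.coe_mul, Matrix.SpecialLinearGroup.coe_mul, hm]
      ext i j
      fin_cases i <;> fin_cases j <;> simp [Matrix.mul_apply, Fin.sum_univ_two]
      all_goals field_simp
      all_goals linear_combination hr2
    have e' := congrArg O.phi e
    rw [map_mul, map_mul, O.phi_up, O.phi_up] at e'
    have := mul_mem (mul_mem hh' (O.hone _ O.top_lt)) (inv_mem hh')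
    have hn7 : n * rt chevB2 (chevB2.nroots - 1) (1 : K) = rt chevB2 (chevB2.nroots - 1) 1 * n := by
      rw [← O.phi_up]; exact (hR _ n hn).symm
    rwa [show O.phi h * n * rt chevB2 (chevB2.nroots - 1) 1 * (O.phi h * n)⁻¹ =
      O.phi h * (n * rt chevB2 (chevB2.nroots - 1) 1) * n⁻¹ * (O.phi h)⁻¹ by group, hn7,
      show O.phi h * (rt chevB2 (chevB2.nroots - 1) (1 : K) * n) * n⁻¹ * (O.phi h)⁻¹ =
      O.phi h * rt chevB2 (chevB2.nroots - 1) 1 * (O.phi h)⁻¹ by group, e', mul_inv_cancel_right] at this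
  -- squares are injective
  obtain ⟨k, hk⟩ : ∃ k, Fintype.card K = 2 * k := by
    obtain ⟨q, hq⟩ := CharP.exists K
    have hq2 : q = 2 := ((Nat.prime_dvd_prime_iff_eq ((CharP.char_is_prime_or_zero K q).resolve_right
      (CharP.char_ne_zero_of_finite K q)) Nat.prime_two).1 ((CharP.cast_eq_zero_iff K q 2).1 (by exact_mod_cast h2)))
    subst hq2
    obtain ⟨m, -, hm⟩ := FiniteField.card K 2
    exact ⟨2 ^ ((m : ℕ) - 1), by rw [hm, ← pow_succ']; congr 1; have := m.pos; omega⟩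
  have : c = d ^ k := by rw [hd, ← pow_two, ← pow_mul, ← hk, FiniteField.pow_card]
  rw [this]
  exact pow_mem hdF k

/-- Three elements: a rational parameter at `5` gives `c ∈ F`. -/
theorem b2_three_aux (hk : lowChk chevB2 = true) (h30 : (3 : K) = 0) {g : GL chevB2.Idx K} (hg : g ∈ O.H)
    (hc : vc chevB2 (vec g) 0 ≠ 0) (hsq : vc chevB2 (vec g) 0 ^ 2 = -1)
    (hT : vc chevB2 (vec g) (low chevB2 5) / vc chevB2 (vec g) 0 ∈ O.F) : vc chevB2 (vec g) 0 ∈ O.F := by
  classical
  have hN : chevB2.nroots = 8 := by decide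
  obtain ⟨u, hu, hvec, hconj⟩ := exists_frame O.hl O.C (O.hH hg) hc
  have hother : ∀ s, inQ chevB2 s = true → s ≠ 6 → s ≠ 5 → (chevB2.commTerms s 6).isEmpty = true := by
    have : ∀ s < 8, inQ chevB2 s = true → s ≠ 6 → s ≠ 5 → (chevB2.commTerms s 6).isEmpty = true := by decide
    intro s hs
    exact this s (by simpa [hN] using (inQ_iff.1 hs).2.1) hs
  obtain ⟨T, hT1, hT2⟩ := O.radQ_conj_of (β := 6) (γ := 5) hk (by decide) (by decide) (by decide)
    (C' := 2) (by decide) hother hu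
  set c := vc chevB2 (vec g) 0 with hcdef
  have hl5 : low chevB2 5 = 1 := by decide
  have hTF : T ∈ O.F := by
    rw [hvec, vc_smul, hT1, vc_bv _ (by rw [hl5]; decide), vc_bv _ (by decide), if_neg (by rw [hl5]; decide),
      if_pos rfl, zero_add, mul_one, mul_div_cancel_left₀ _ hc] at hT
    exact hT
  have htop : ∀ z : K, u * rt chevB2 7 z * u⁻¹ = rt chevB2 7 z :=
    (pos_top O.hl O.C (radQ_le_pos O.hl O.C hu)).2
  rw [show chevB2.nroots - 1 = 7 by decide] at hT2
  let H' : Subgroup (GL chevB2.Idx K) := O.H.comap (MulAut.conj u).toMonoidHom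
  have hmem : ∀ x, x ∈ H' ↔ u * x * u⁻¹ ∈ O.H := fun x => Iff.rfl
  have a7 : rt chevB2 7 (1 : K) ∈ H' := by rw [hmem, htop]; exact O.hone 7 (by decide)
  have a0 : rt chevB2 0 c ∈ H' := by
    rw [hmem]
    have := hconj 1
    rw [mul_one] at this
    rw [← this]
    exact mul_mem (mul_mem hg (O.hone _ O.top_lt)) (inv_mem hg)
  have a6 : rt chevB2 6 (1 : K) ∈ H' := by
    rw [hmem, hT2]
    exact mul_mem (O.hone 6 (by decide))
      (O.mem_F.1 (mul_mem (mul_mem (mul_mem (intCast_mem _ _) (intCast_mem _ _)) hTF) (one_mem _)))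
  have comm : ∀ r s : ℕ, r < 8 → s < 8 → s ≠ r → s ≠ chevB2.neg r → chevB2.commTerms r s = [] → ∀ t z : K,
      rt chevB2 s z * rt chevB2 r t = rt chevB2 r t * rt chevB2 s z := by
    intro r s a b h1 h3 h4 t z
    rw [O.b2_word r s a b h1 h3 t z [] h4]
    simp [wordRt]
  have c47 := comm 4 7 (by decide) (by decide) (by decide) (by decide) (by decide)
  have c24 := comm 2 4 (by decide) (by decide) (by decide) (by decide) (by decide)
  have c46 := comm 4 6 (by decide) (by decide) (by decide) (by decide) (by decide)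
  have hw : rt chevB2 2 c * rt chevB2 4 (-c) ∈ H' := by
    have h := O.b2_word 0 6 (by decide) (by decide) (by decide) (by decide) c (1 : K)
      [(2, -1, 1, 1), (4, 1, 1, 2)] (by decide)
    simp [wordRt] at h
    rw [← inv_mul_eq_iff_eq_mul] at h
    rw [← h]
    exact mul_mem (inv_mem (mul_mem a0 a6)) (mul_mem a6 a0)
  have hw' : rt chevB2 6 c * rt chevB2 4 (c * c) ∈ H' := by
    have h := O.b2_word 7 2 (by decide) (by decide) (by decide) (by decide) (1 : K) c
      [(6, -1, 1, 1), (4, -1, 1, 2)] (by decide)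
    simp [wordRt] at h
    have e : rt chevB2 2 c * rt chevB2 4 (-c) * rt chevB2 7 1 =
        rt chevB2 7 1 * (rt chevB2 2 c * rt chevB2 4 (-c)) * (rt chevB2 6 c * rt chevB2 4 (c * c)) := by
      rw [mul_assoc, ← c47 (-c), ← mul_assoc, h, ← pow_two]
      simp only [mul_assoc]
      rw [O.C.hC.rt_mul, ← mul_assoc (rt chevB2 4 (-c)), ← c46 (-c) c, mul_assoc (rt chevB2 6 c), O.C.hC.rt_mul,
        add_comm (-c)]
    rw [← inv_mul_eq_iff_eq_mul] at e
    rw [← e]
    exact mul_mem (inv_mem (mul_mem a7 hw)) (mul_mem hw a7)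
  have h4 : rt chevB2 4 (2 * (c * c)) ∈ H' := by
    have h := O.b2_word 2 6 (by decide) (by decide) (by decide) (by decide) c c
      [(4, -2, 1, 1)] (by decide)
    simp [wordRt] at h
    have e : rt chevB2 6 c * rt chevB2 4 (c * c) * (rt chevB2 2 c * rt chevB2 4 (-c)) =
        rt chevB2 2 c * rt chevB2 4 (-c) * (rt chevB2 6 c * rt chevB2 4 (c * c)) * rt chevB2 4 (2 * (c * c)) := by
      rw [show rt chevB2 6 c * rt chevB2 4 (c * c) * (rt chevB2 2 c * rt chevB2 4 (-c)) =
        rt chevB2 6 c * (rt chevB2 4 (c * c) * rt chevB2 2 c) * rt chevB2 4 (-c) by simp only [mul_assoc], c24,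
        ← mul_assoc, h]
      simp only [mul_assoc]
      rw [← mul_assoc (rt chevB2 4 (-c)), ← c46 (-c) c, mul_assoc]
      simp only [O.C.hC.rt_mul]
      ring_nf
    rw [← inv_mul_eq_iff_eq_mul] at e
    rw [← e]
    exact mul_mem (inv_mem (mul_mem hw hw')) (mul_mem hw' hw)
  have h6 : rt chevB2 6 c ∈ H' := by
    have h := mul_mem hw' h4
    rwa [mul_assoc, O.C.hC.rt_mul, show c * c + 2 * (c * c) = (0 : K) by linear_combination (c * c) * h30,
      O.C.hC.rt_zero, mul_one] at h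
  rw [hmem, hT2] at h6
  set a := ((2 : ℤ) : K) * (mlow chevB2 5 : K) * T * c
  have h := O.b2_word 5 6 (by decide) (by decide) (by decide) (by decide) (1 : K) c [(7, 2, 1, 1)] (by decide)
  simp [wordRt] at h
  have c57 := comm 5 7 (by decide) (by decide) (by decide) (by decide) (by decide)
  have c67 := comm 6 7 (by decide) (by decide) (by decide) (by decide) (by decide)
  have e : rt chevB2 6 c * rt chevB2 7 a * rt chevB2 5 1 =
      rt chevB2 5 1 * (rt chevB2 6 c * rt chevB2 7 a) * rt chevB2 7 (-(2 * c)) := by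
    rw [mul_assoc, c57 1 a, ← mul_assoc, h]
    simp only [mul_assoc, O.C.hC.rt_mul]
    ring_nf
  have h5 := O.hone 5 (by decide)
  have hz : rt chevB2 7 (-(2 * c)) ∈ O.H := by
    rw [← inv_mul_eq_iff_eq_mul] at e
    rw [← e]
    exact mul_mem (inv_mem (mul_mem h5 h6)) (mul_mem h6 h5)
  have hcF : -(2 * c) ∈ O.F := O.mem_F.2 hz
  rwa [show -(2 * c) = c by linear_combination (-c) * h30] at hcF

/-- Case of three elements. -/
theorem b2_three (hk : lowChk chevB2 = true) (hF : Nat.card O.F = 3) {g : GL chevB2.Idx K} (hg : g ∈ O.H)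
    (hc : vc chevB2 (vec g) 0 ≠ 0) (hsq : vc chevB2 (vec g) 0 ^ 2 = -1) : vc chevB2 (vec g) 0 ∈ O.F := by
  classical
  obtain ⟨h30, hFc⟩ := O.card_three_mem hF
  set c := vc chevB2 (vec g) 0 with hcdef
  have hN : chevB2.nroots = 8 := by decide
  let Sp : K → Prop := fun x => ∃ a ∈ O.F, ∃ b ∈ O.F, x = a + b * c
  have hSp : ∀ g' ∈ O.H, Sp (vc chevB2 (vec g') 0) := by
    intro g' hg'
    by_cases h0 : vc chevB2 (vec g') 0 = 0
    · exact ⟨0, zero_mem _, 0, zero_mem _, by rw [h0]; ring⟩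
    rcases O.c_cases hg' h0 with h | ⟨-, h⟩ | ⟨-, h⟩
    · exact ⟨_, h, 0, zero_mem _, by ring⟩
    · omega
    · rcases eq_or_eq_neg_of_sq_eq_sq _ c (h.trans hsq.symm) with e | e
      · exact ⟨0, zero_mem _, 1, one_mem _, by rw [e]; ring⟩
      · exact ⟨0, zero_mem _, -1, neg_mem (one_mem _), by rw [e]; ring⟩
  -- coordinates of translates
  have hrow : ∀ θ L : ℕ, θ < 8 → L < 8 → L ≠ θ → ∀ (s : K) (g' : GL chevB2.Idx K),
      vc chevB2 (vec (rt chevB2 θ s * g')) L = vc chevB2 (vec g') L + rowVal chevB2 (rowS chevB2 θ L) s (vec g') := by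
    intro θ L a b h s g'
    rw [vec_mul, row_apply O.C.hC (by omega) (by omega), if_neg h, add_zero]
  have hm1 : ∀ θ < 8, rt chevB2 θ (-1 : K) ∈ O.H := fun θ h => O.rt_neg_one (by omega)
  have hk1 : ∀ θ < 8, ∀ k ∈ O.F, rt chevB2 θ k ∈ O.H := fun θ h k hk => O.rt_mem (by omega) hk
  -- both short parameters lie in the span
  have hy : ∀ θ L L' : ℕ, ∀ m m' : ℤ, θ < 8 → (0 : ℕ) ≠ θ → rowS chevB2 θ 0 = [(L, 1, m), (L', 2, m')] →
      m.natAbs = 2 → Sp (vc chevB2 (vec g) L / c) := by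
    intro θ L L' m m' hθ hne hr hm
    obtain ⟨a1, ha1, b1, hb1, e1⟩ := hSp _ (mul_mem (hk1 θ hθ 1 (one_mem _)) hg)
    obtain ⟨a2, ha2, b2, hb2, e2⟩ := hSp _ (mul_mem (hm1 θ hθ) hg)
    rw [hrow θ 0 hθ (by omega) hne, hr] at e1 e2
    simp [rowVal] at e1 e2
    set y := vc chevB2 (vec g) L
    have key : (m : K) * 2 * y = (a1 - a2) + (b1 - b2) * c := by linear_combination e1 - e2
    have hm' : ∃ e ∈ O.F, e * ((m : K) * 2) = 1 := by
      rcases Int.natAbs_eq_iff.1 hm with rfl | rfl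
      · exact ⟨1, one_mem _, by push_cast; linear_combination h30⟩
      · exact ⟨-1, neg_mem (one_mem _), by push_cast; linear_combination h30⟩
    obtain ⟨e, he, he1⟩ := hm'
    have hy' : y = e * (a1 - a2) + e * (b1 - b2) * c := by linear_combination e * key - y * he1
    refine ⟨e * (b1 - b2), mul_mem he (sub_mem hb1 hb2), -(e * (a1 - a2)), neg_mem (mul_mem he (sub_mem ha1 ha2)), ?_⟩
    rw [div_eq_iff hc, hy']
    linear_combination (e * (a1 - a2)) * hsq
  have hl5 : low chevB2 5 = 1 := by decide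
  obtain ⟨a, ha, b, hb, e5⟩ := hy 2 1 3 (-2) (-1) (by decide) (by decide) (by decide) (by decide)
  obtain ⟨a', ha', b', hb', e6⟩ := hy 1 2 4 2 1 (by decide) (by decide) (by decide) (by decide)
  by_cases hb0 : b = 0
  · refine O.b2_three_aux hk h30 hg hc hsq ?_
    rw [hl5, e5, hb0, zero_mul, add_zero]
    exact ha
  -- first make the second parameter irrational, then cancel
  let k1 : K := if b' = 0 then 1 else 0
  have hk1F : k1 ∈ O.F := by
    simp only [k1]; split_ifs
    exacts [one_mem _, zero_mem _]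
  have hb'' : b' - k1 * b ≠ 0 := by
    simp only [k1]
    split_ifs with h
    · rw [h]; simpa using hb0
    · simpa using h
  set g1 := rt chevB2 4 k1 * g
  have hg1 : g1 ∈ O.H := mul_mem (hk1 4 (by decide) _ hk1F) hg
  have c1 : vc chevB2 (vec g1) 0 = c := by
    rw [hrow 4 0 (by decide) (by decide) (by decide), show rowS chevB2 4 0 = [] by decide]
    simp [rowVal, hcdef]
  have y1 : vc chevB2 (vec g1) 1 = vc chevB2 (vec g) 1 := by
    rw [hrow 4 1 (by decide) (by decide) (by decide), show rowS chevB2 4 1 = [] by decide]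
    simp [rowVal]
  have y2 : vc chevB2 (vec g1) 2 = vc chevB2 (vec g) 2 - k1 * vc chevB2 (vec g) 1 := by
    rw [hrow 4 2 (by decide) (by decide) (by decide), show rowS chevB2 4 2 = [(1, 1, -1)] by decide]
    simp [rowVal, sub_eq_add_neg]
  set k2 := b * (b' - k1 * b)⁻¹
  have hk2F : k2 ∈ O.F := mul_mem hb (inv_mem (sub_mem hb' (mul_mem hk1F hb)))
  set g2 := rt chevB2 3 k2 * g1
  have c2 : vc chevB2 (vec g2) 0 = c := by
    rw [hrow 3 0 (by decide) (by decide) (by decide), show rowS chevB2 3 0 = [] by decide]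
    simp [rowVal, c1]
  have z1 : vc chevB2 (vec g2) 1 = vc chevB2 (vec g1) 1 - k2 * vc chevB2 (vec g1) 2 := by
    rw [hrow 3 1 (by decide) (by decide) (by decide), show rowS chevB2 3 1 = [(2, 1, -1)] by decide]
    simp [rowVal, sub_eq_add_neg]
  have := O.b2_three_aux hk h30 (g := g2) (mul_mem (hk1 3 (by decide) _ hk2F) hg1) (by rw [c2]; exact hc)
    (by rw [c2]; exact hsq) ?_
  · rwa [c2] at this
  rw [c2, hl5, z1, y1, y2]
  have e5' := (div_eq_iff hc).1 e5
  have e6' := (div_eq_iff hc).1 e6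
  have hk2 : k2 * (b' - k1 * b) = b := inv_mul_cancel_right₀ hb'' b
  rw [show (vc chevB2 (vec g) 1 - k2 * (vc chevB2 (vec g) 2 - k1 * vc chevB2 (vec g) 1)) / c =
    a - k2 * (a' - k1 * a) by
      rw [div_eq_iff hc, e5', e6']
      linear_combination (-c * c) * hk2]
  exact sub_mem ha (mul_mem hk2F (sub_mem ha' (mul_mem hk1F ha)))

/-- `c ∈ F` in type `B₂`. -/
theorem c_mem_b2 (hk : lowChk chevB2 = true) {g : GL chevB2.Idx K} (hg : g ∈ O.H) :
    vc chevB2 (vec g) 0 ∈ O.F := by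
  by_cases hc : vc chevB2 (vec g) 0 = 0
  · rw [hc]; exact zero_mem _
  rcases O.c_cases hg hc with h | ⟨h2, -⟩ | ⟨hF, hsq⟩
  exacts [h, O.b2_two h2 hg hc, O.b2_three hk hF hg hc hsq]

end Ov

end H66.Subfield
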