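import Cfsg.Agent.H66.Subfield.LongRoot

/-!
The numerical facts about the seven data.
-/

set_option autoImplicit false
set_option maxRecDepth 100000

open Cfsg.Lie

namespace H66.Subfield

theorem lvlChk_G2 : lvlChk chevG2 = true := by decide +kernel
theorem lvlChk_B2 : lvlChk chevB2 = true := by decide +kernel
theorem lvlChk_D4 : lvlChk chevD4 = true := by decide +kernel
theorem lvlChk_F4 : lvlChk chevF4 = true := by decide +kernel
theorem lvlChk_E6 : lvlChk chevE6 = true := by decide +kernel
theorem lvlChk_E7 : lvlChk chevE7 = true := by decide +kernel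
theorem lvlChk_E8 : lvlChk chevE8 = true := by decide +kernel

theorem rootChk_G2 : rootChk chevG2 = true := by decide +kernel
theorem rootChk_B2 : rootChk chevB2 = true := by decide +kernel
theorem rootChk_D4 : rootChk chevD4 = true := by decide +kernel
theorem rootChk_F4 : rootChk chevF4 = true := by decide +kernel
theorem rootChk_E6 : rootChk chevE6 = true := by decide +kernel
theorem rootChk_E7 : rootChk chevE7 = true := by decide +kernel
theorem rootChk_E8 : rootChk chevE8 = true := by decide +kernel

theorem lowChk_G2 : lowChk chevG2 = true := by decide +kernel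
theorem lowChk_B2 : lowChk chevB2 = true := by decide +kernel
theorem lowChk_D4 : lowChk chevD4 = true := by decide +kernel
theorem lowChk_F4 : lowChk chevF4 = true := by decide +kernel
theorem lowChk_E6 : lowChk chevE6 = true := by decide +kernel
theorem lowChk_E7 : lowChk chevE7 = true := by decide +kernel
theorem lowChk_E8 : lowChk chevE8 = true := by decide +kernel

theorem pair_G2 : pairOK chevG2 10 6 = true := by decide +kernel
theorem tri_D4 : pairOK chevD4 21 15 = true ∧ pairOK chevD4 22 14 = true ∧ triOK chevD4 15 14 12 = true := by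
  decide +kernel
theorem tri_F4 : pairOK chevF4 45 26 = true ∧ pairOK chevF4 46 24 = true ∧ triOK chevF4 26 24 25 = true := by
  decide +kernel
theorem tri_E6 : pairOK chevE6 69 47 = true ∧ pairOK chevE6 70 46 = true ∧ triOK chevE6 47 46 39 = true := by
  decide +kernel
theorem tri_E7 : pairOK chevE7 123 94 = true ∧ pairOK chevE7 124 93 = true ∧ triOK chevE7 94 93 73 = true := by
  decide +kernel
theorem tri_E8 : pairOK chevE8 237 122 = true ∧ pairOK chevE8 238 120 = true ∧ triOK chevE8 122 120 121 = true := by
  decide +kernel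

/-- The common facts hold for the seven data. -/
theorem facts_of_mem {D : ChevalleyDatum}
    (hD : D ∈ [chevG2, chevB2, chevD4, chevF4, chevE6, chevE7, chevE8]) :
    lvlChk D = true ∧ rootChk D = true ∧ lowChk D = true := by
  simp only [List.mem_cons, List.not_mem_nil, or_false] at hD
  rcases hD with rfl | rfl | rfl | rfl | rfl | rfl | rfl
  exacts [⟨lvlChk_G2, rootChk_G2, lowChk_G2⟩, ⟨lvlChk_B2, rootChk_B2, lowChk_B2⟩,
    ⟨lvlChk_D4, rootChk_D4, lowChk_D4⟩, ⟨lvlChk_F4, rootChk_F4, lowChk_F4⟩,
    ⟨lvlChk_E6, rootChk_E6, lowChk_E6⟩, ⟨lvlChk_E7, rootChk_E7, lowChk_E7⟩,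
    ⟨lvlChk_E8, rootChk_E8, lowChk_E8⟩]

end H66.Subfield
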