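import Cfsg.Agent.H66.Subfield.Fields

/-!
The coordinates of level `-1` are additive on the radical; long coordinates are values of `c`; the basic dichotomy
for `c`.
-/

set_option autoImplicit false
set_option linter.unusedSectionVars false

open Cfsg.Lie H52
open scoped MatrixGroups

namespace H66.Subfield

/-- The index of `r - α` for a root `r` of level one. -/
def low (D : ChevalleyDatum) (r : ℕ) : ℕ := ((D.chainEntry r 0).headD (0, 0)).1

/-- The coefficient of `e_{r-α}` in `x_r(1) e_{-α}`. -/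
def mlow (D : ChevalleyDatum) (r : ℕ) : ℤ := ((D.chainEntry r 0).headD (0, 0)).2

/-- Checks for the coordinates of level `-1`. -/
def lowChk (D : ChevalleyDatum) : Bool :=
  (List.range' (D.nroots / 2) (D.nroots - D.nroots / 2)).all fun r =>
    (rowS D r 0).isEmpty && (!inQ1 D r ||
      (decide (low D r < D.nroots / 2) && decide ((mlow D r).natAbs = 1) && (isLong D (low D r) == isLong D r) &&
        (List.range' (D.nroots / 2) (D.nroots - D.nroots / 2)).all fun s =>
          !inQ D s || (rowS D s (low D r) == if s == r then [(0, 1, mlow D r)] else [])))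

variable {D : ChevalleyDatum} {K : Type*} [Field K]

section low

variable (hk : lowChk D = true)
include hk

theorem rowS_bot {r : ℕ} (h1 : D.nroots / 2 ≤ r) (h2 : r < D.nroots) : rowS D r 0 = [] := by
  simp only [lowChk, List.all_eq_true, List.mem_range'_1, Bool.and_eq_true, List.isEmpty_iff] at hk
  exact (hk r ⟨h1, by omega⟩).1

theorem low_spec {r : ℕ} (h : inQ1 D r = true) :
    low D r < D.nroots / 2 ∧ (mlow D r).natAbs = 1 ∧ isLong D (low D r) = isLong D r ∧
      ∀ s, inQ D s = true → rowS D s (low D r) = if s == r then [(0, 1, mlow D r)] else [] := by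
  simp only [lowChk, List.all_eq_true, List.mem_range'_1, Bool.and_eq_true, Bool.or_eq_true,
    Bool.not_eq_true', decide_eq_true_eq, beq_iff_eq] at hk
  obtain ⟨h1, h2, -⟩ := inQ1_iff.1 h
  rcases (hk r ⟨h1, by omega⟩).2 with h3 | ⟨⟨⟨h3, h4⟩, h5⟩, h6⟩
  · rw [h] at h3; exact absurd h3 (by decide)
  refine ⟨h3, h4, h5, fun s hs => ?_⟩
  obtain ⟨s1, s2, -⟩ := inQ_iff.1 hs
  rcases h6 s ⟨s1, by omega⟩ with h7 | h7
  · rw [hs] at h7; exact absurd h7 (by decide)
  · simpa using h7

variable (C : H54.Ctx D)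
include C

theorem radQ_bot {u : GL D.Idx K} (hu : u ∈ radQ D K) :
    ∀ w : D.Idx → K, vc D ((u : Matrix D.Idx D.Idx K).mulVec w) 0 = vc D w 0 := by
  induction hu using Subgroup.closure_induction with
  | mem y hy =>
    obtain ⟨r, t, hr, rfl⟩ := hy
    obtain ⟨h1, h2, -⟩ := inQ_iff.1 hr
    intro w
    have hN := C.hC.nroots_eq
    rw [row_apply C.hC h2 (by omega), rowS_bot hk h1 h2, if_neg (by omega)]
    simp [rowVal]
  | one => intro w; simp
  | mul a b _ _ iha ihb =>
    intro w; rw [Units.val_mul, ← Matrix.mulVec_mulVec, iha, ihb]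
  | inv a _ iha =>
    intro w
    conv_rhs => rw [show w = (a : Matrix D.Idx D.Idx K).mulVec ((a⁻¹ : GL D.Idx K).1.mulVec w) by
      rw [Matrix.mulVec_mulVec, ← Units.val_mul, mul_inv_cancel, Units.val_one, Matrix.one_mulVec], iha]

/-- The coordinate at `r - α` is additive on the radical. -/
theorem radQ_low {r : ℕ} (h : inQ1 D r = true) {u : GL D.Idx K} (hu : u ∈ radQ D K) :
    ∃ T : K, ∀ w : D.Idx → K, vc D ((u : Matrix D.Idx D.Idx K).mulVec w) (low D r) =
      vc D w (low D r) + T * vc D w 0 := by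
  obtain ⟨hj, -, -, hrow⟩ := low_spec hk h
  induction hu using Subgroup.closure_induction with
  | mem y hy =>
    obtain ⟨s, t, hs, rfl⟩ := hy
    obtain ⟨h1, h2, -⟩ := inQ_iff.1 hs
    refine ⟨if s == r then (mlow D r : K) * t else 0, fun w => ?_⟩
    rw [row_apply C.hC h2 (by omega), hrow s hs, if_neg (show ¬ low D r = s by omega), add_zero]
    split_ifs <;> simp [rowVal]
  | one => exact ⟨0, fun w => by simp⟩
  | mul a b ha hb iha ihb =>
    obtain ⟨A, hA⟩ := iha
    obtain ⟨B, hB⟩ := ihb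
    refine ⟨A + B, fun w => ?_⟩
    rw [Units.val_mul, ← Matrix.mulVec_mulVec, hA, hB, radQ_bot hk C hb]
    ring
  | inv a ha iha =>
    obtain ⟨A, hA⟩ := iha
    refine ⟨-A, fun w => ?_⟩
    have h1 := hA ((a⁻¹ : GL D.Idx K).1.mulVec w)
    rw [Matrix.mulVec_mulVec, ← Units.val_mul, mul_inv_cancel, Units.val_one, Matrix.one_mulVec,
      radQ_bot hk C (inv_mem ha)] at h1
    rw [h1]; ring

end low

theorem vc_smul (a : K) (v : D.Idx → K) (n : ℕ) : vc D (a • v) n = a * vc D v n := by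
  simp only [vc, Pi.smul_apply, smul_eq_mul]
  split_ifs <;> simp

theorem vc_bv {s : ℕ} (n : ℕ) (hn : n < D.nroots) : vc D (bv D K s) n = if n = s then 1 else 0 := by
  rw [vc, dif_pos hn]
  rfl

section nw

variable (C : H54.Ctx D)
include C

theorem vc_sig {i : Fin D.rank} (r : Fin D.nroots) (v : D.Idx → K) :
    vc D ((H53.nGL D (D.simple i.val) (1 : K)).1.mulVec v) (D.reflectRoot i.val r.val) =
      (C.T.eps i.val r.val : K) * vc D v r.val := by
  classical
  have hR := C.hC.reflect_lt i.isLt r.isLt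
  have hv : v = ∑ x : D.Idx, v x • bv D K (H52.code D x) := by
    funext y
    simp [bv, basisVec_code, Finset.sum_apply, Pi.single_apply]
  rw [H53.coe_nGL C.hC]
  conv_lhs => rw [hv, Matrix.mulVec_sum, Fintype.sum_sum_type]
  simp only [vc, hR, dite_true, Pi.add_apply, Finset.sum_apply, Matrix.mulVec_smul, Pi.smul_apply, smul_eq_mul]
  have h1 : ∀ j : Fin D.rank, (sig D K i.val).mulVec (bv D K (H52.code D (Sum.inl j : D.Idx)))
      (Sum.inr ⟨D.reflectRoot i.val r.val, hR⟩) = 0 := by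
    intro j
    show (sig D K i.val).mulVec (bv D K (D.nroots + j.val)) _ = 0
    rw [C.hC.sig_bv_h i.isLt j.isLt]
    have e1 : D.reflectRoot i.val r.val ≠ D.nroots + j.val := by omega
    have e2 : D.reflectRoot i.val r.val ≠ D.nroots + i.val := by omega
    simp [bv, basisVec, e1, e2]
  have h2 : ∀ s : Fin D.nroots, (sig D K i.val).mulVec (bv D K (H52.code D (Sum.inr s : D.Idx)))
      (Sum.inr ⟨D.reflectRoot i.val r.val, hR⟩) = if s = r then (C.T.eps i.val r.val : K) else 0 := by
    intro s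
    show (sig D K i.val).mulVec (bv D K s.val) _ = _
    rw [C.hC.sig_bv_root i.isLt s.isLt]
    by_cases e : s = r
    · subst e; simp [bv, basisVec]
    · have : D.reflectRoot i.val r.val ≠ D.reflectRoot i.val s.val := fun h =>
        e (Fin.ext (C.hC.reflect_inj i.isLt s.isLt r.isLt h.symm))
      simp [bv, basisVec, this, e]
  simp only [h1, h2, mul_zero, Finset.sum_const_zero, zero_add, mul_ite, Finset.sum_ite_eq',
    Finset.mem_univ, if_true]
  rw [dif_pos r.isLt, mul_comm]

theorem vc_nw (L : List (Fin D.rank)) (r : Fin D.nroots) :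
    ∃ e : K, e * e = 1 ∧ ∀ v : D.Idx → K,
      vc D ((H54.Ctx.nw D K L).1.mulVec v) (C.wperm L r).val = e * vc D v r.val := by
  induction L with
  | nil => exact ⟨1, by simp, fun v => by simp [H54.Ctx.nw_nil, H54.Ctx.wperm_nil]⟩
  | cons i L ih =>
    obtain ⟨e, he, h⟩ := ih
    refine ⟨(C.T.eps i.val (C.wperm L r).val : K) * e, ?_, fun v => ?_⟩
    · linear_combination (e * e) * H52.Checked.eps_cast_mul_self (T := C.T) (F := K) i.val (C.wperm L r).val + he
    · rw [H54.Ctx.nw_cons, Units.val_mul, ← Matrix.mulVec_mulVec, C.wperm_cons, Equiv.Perm.mul_apply,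
        C.sigma_val, vc_sig C (C.wperm L r), h, mul_assoc]

end nw

namespace Ov

variable [Fintype K] (O : Ov D K)
include O

theorem bot_long : isLong D 0 = true := by
  have := O.long_neg (long_top O.hl)
  rwa [O.neg_top] at this

/-- A long coordinate of the image of `e_α` is a value of `c`, up to sign. -/
theorem long_coord {g : GL D.Idx K} (hg : g ∈ O.H) {β : ℕ} (h : isLong D β = true) :
    ∃ g' ∈ O.H, ∃ e : K, e * e = 1 ∧ vc D (vec g') 0 = e * vc D (vec g) β := by
  obtain ⟨L, hL⟩ := O.exists_word_top h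
  obtain ⟨L0, hL0⟩ := O.exists_word_top O.bot_long
  obtain ⟨e, he, hv⟩ := vc_nw (K := K) O.C (L0 ++ L.reverse) ⟨β, isLong_lt h⟩
  have hw : (O.C.wperm (L0 ++ L.reverse) ⟨β, isLong_lt h⟩).val = 0 := by
    rw [O.C.wperm_append, Equiv.Perm.mul_apply, O.C.wperm_reverse,
      show (⟨β, isLong_lt h⟩ : Fin D.nroots) = O.C.wperm L ⟨D.nroots - 1, O.top_lt⟩ from Fin.ext hL.symm,
      Equiv.Perm.inv_def, Equiv.symm_apply_apply]
    exact hL0
  refine ⟨H54.Ctx.nw D K (L0 ++ L.reverse) * g, mul_mem (O.nw_mem _) hg, e, he, ?_⟩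
  rw [vec_mul, ← hw, hv]

/-- The basic dichotomy. -/
theorem c_cases {g : GL D.Idx K} (hg : g ∈ O.H) (hc : vc D (vec g) 0 ≠ 0) :
    vc D (vec g) 0 ∈ O.F ∨ ((2 : K) = 0 ∧ Nat.card O.F = 2) ∨ (Nat.card O.F = 3 ∧ vc D (vec g) 0 ^ 2 = -1) := by
  obtain ⟨u, hu, -, hconj⟩ := exists_frame O.hl O.C (O.hH hg) hc
  have htop : ∀ t : K, u * rt D (D.nroots - 1) t * u⁻¹ = rt D (D.nroots - 1) t :=
    (pos_top O.hl O.C (radQ_le_pos O.hl O.C hu)).2
  let S : Subgroup SL(2, K) := (O.H.comap (MulAut.conj u).toMonoidHom).comap O.phi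
  have hmem : ∀ s : SL(2, K), s ∈ S ↔ u * O.phi s * u⁻¹ ∈ O.H := fun s => Iff.rfl
  have hup : ∀ t, t ∈ upPart S ↔ t ∈ O.F := fun t => by
    rw [mem_upPart, hmem, O.phi_up, htop, mem_F]
  have hcard : Nat.card (upPart S) = Nat.card O.F :=
    Nat.card_congr (Equiv.subtypeEquivRight hup)
  have h1 : H37.upper2 (1 : K) ∈ S := (hup 1).2 (one_mem _)
  have hy : H37.lower2 (vc D (vec g) 0) ∈ S := by
    rw [hmem, O.phi_lo]
    have := hconj 1
    rw [mul_one] at this
    rw [← this]
    exact mul_mem (mul_mem hg (O.hone _ O.top_lt)) (inv_mem hg)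
  rw [← hup, ← hcard]
  exact c_mem h1 hc hy

end Ov

end H66.Subfield
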