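import Cfsg.Agent.H37.SL2Gen

/-!
A finite subgroup of `SL₂` containing `x(1)` and `y(c)`: the upper unipotent parameters form a field, which
contains `c` apart from two small cases.
-/

set_option autoImplicit false

namespace H66.Subfield

open H37 Matrix
open scoped MatrixGroups

variable {K : Type*} [Field K]

theorem up_mul (a b : K) : upper2 a * upper2 b = upper2 (a + b) := by
  ext i j; fin_cases i <;> fin_cases j <;> simp [Matrix.mul_apply, Fin.sum_univ_two, add_comm]

theorem lo_mul (a b : K) : lower2 a * lower2 b = lower2 (a + b) := by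
  ext i j; fin_cases i <;> fin_cases j <;> simp [Matrix.mul_apply, Fin.sum_univ_two, add_comm]

theorem up_zero : upper2 (0 : K) = 1 := by ext i j; fin_cases i <;> fin_cases j <;> simp

theorem up_inv (a : K) : (upper2 a)⁻¹ = upper2 (-a) :=
  inv_eq_of_mul_eq_one_right (by rw [up_mul, add_neg_cancel, up_zero])

theorem lo_inv (a : K) : (lower2 a)⁻¹ = lower2 (-a) :=
  inv_eq_of_mul_eq_one_right (by rw [lo_mul, add_neg_cancel]; ext i j; fin_cases i <;> fin_cases j <;> simp)

/-- The upper unipotent parameters of a subgroup. -/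
def upPart (S : Subgroup SL(2, K)) : AddSubgroup K where
  carrier := {t | upper2 t ∈ S}
  add_mem' {a b} ha hb := by
    change upper2 (a + b) ∈ S
    rw [← up_mul]; exact mul_mem ha hb
  zero_mem' := by change upper2 (0 : K) ∈ S; rw [up_zero]; exact one_mem S
  neg_mem' {a} ha := by
    change upper2 (-a) ∈ S
    rw [← up_inv]; exact inv_mem ha

theorem mem_upPart {S : Subgroup SL(2, K)} {t : K} : t ∈ upPart S ↔ upper2 t ∈ S := Iff.rfl

/-- Scaling the off-diagonal entries, `q ↦ a q`, `r ↦ r / a`. -/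
def scaleHom {L : Type*} [Field L] (f : L →+* K) {a : K} (ha : a ≠ 0) : SL(2, L) →* SL(2, K) where
  toFun g := ⟨!![f (g 0 0), a * f (g 0 1); f (g 1 0) / a, f (g 1 1)], by
    have h := g.2
    rw [Matrix.det_fin_two] at h
    rw [Matrix.det_fin_two_of, show a * f (g 0 1) * (f (g 1 0) / a) = f (g 0 1 * g 1 0) by
      rw [map_mul]; field_simp, ← map_mul, ← map_sub, h, map_one]⟩
  map_one' := by ext i j; fin_cases i <;> fin_cases j <;> simp
  map_mul' g h := by
    ext i j
    change !![f ((g * h) 0 0), a * f ((g * h) 0 1); f ((g * h) 1 0) / a, f ((g * h) 1 1)] i j =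
      (!![f (g 0 0), a * f (g 0 1); f (g 1 0) / a, f (g 1 1)] *
        !![f (h 0 0), a * f (h 0 1); f (h 1 0) / a, f (h 1 1)]) i j
    fin_cases i <;> fin_cases j <;> simp [Matrix.mul_apply, Fin.sum_univ_two] <;> field_simp

theorem scaleHom_coe {L : Type*} [Field L] (f : L →+* K) {a : K} (ha : a ≠ 0) (g : SL(2, L)) :
    (scaleHom f ha g : Matrix (Fin 2) (Fin 2) K) = !![f (g 0 0), a * f (g 0 1); f (g 1 0) / a, f (g 1 1)] := rfl

theorem scaleHom_up {L : Type*} [Field L] (f : L →+* K) {a : K} (ha : a ≠ 0) (t : L) :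
    scaleHom f ha (upper2 t) = upper2 (a * f t) := by
  ext i j; fin_cases i <;> fin_cases j <;> simp [scaleHom_coe]

theorem scaleHom_lo {L : Type*} [Field L] (f : L →+* K) {a : K} (ha : a ≠ 0) (t : L) :
    scaleHom f ha (lower2 t) = lower2 (f t / a) := by
  ext i j; fin_cases i <;> fin_cases j <;> simp [scaleHom_coe]

variable {S : Subgroup SL(2, K)} [Fintype K] {c : K}

/-- Dickson's generation theorem inside a subgroup. -/
theorem gen_odd (h2 : (2 : K) ≠ 0) {a : K} (ha : a ≠ 0) (hc : c ≠ 0) (hA : upper2 a ∈ S) (hy : lower2 c ∈ S)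
    (hex : ¬ (Nat.card ↥(Subfield.closure ({a * c} : Set K)) = 9 ∧ (a * c) ^ 2 = -1)) :
    ∀ t ∈ Subfield.closure ({a * c} : Set K), upper2 (t / c) ∈ S ∧ lower2 (c * t) ∈ S := by
  classical
  set L := Subfield.closure ({a * c} : Set K) with hL
  let lam : L := ⟨a * c, Subfield.subset_closure rfl⟩
  have h2' : (2 : L) ≠ 0 := fun e => h2 (by
    have := congrArg L.subtype e
    rwa [map_ofNat, map_zero] at this)
  have hgen : Subfield.closure ({lam} : Set L) = ⊤ := by
    refine eq_top_iff.2 fun x _ => ?_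
    have : L ≤ (Subfield.closure ({lam} : Set L)).map L.subtype := by
      refine Subfield.closure_le.2 ?_
      rintro y rfl
      exact ⟨lam, Subfield.subset_closure rfl, rfl⟩
    obtain ⟨z, hz, hzx⟩ := this x.2
    rwa [← Subtype.ext (a1 := z) (a2 := x) hzx]
  have htop := two_unipotents_eq_top h2' (lam := lam)
    (fun e => mul_ne_zero ha hc (congrArg Subtype.val e)) hgen (by
      rintro ⟨h9, hsq⟩
      refine hex ⟨by rw [Nat.card_eq_fintype_card]; exact h9, ?_⟩
      have := congrArg Subtype.val hsq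
      simpa [lam] using this)
  have hle : twoUnip lam ≤ S.comap (scaleHom L.subtype (inv_ne_zero hc)) := by
    rw [twoUnip, Subgroup.closure_le]
    rintro g (rfl | rfl)
    · rw [SetLike.mem_coe, Subgroup.mem_comap, scaleHom_lo]
      simpa using hy
    · rw [SetLike.mem_coe, Subgroup.mem_comap, scaleHom_up]
      show upper2 (c⁻¹ * (a * c)) ∈ S
      rwa [mul_comm c⁻¹, mul_inv_cancel_right₀ hc]
  intro t ht
  constructor
  · have := hle (htop ▸ Subgroup.mem_top (upper2 (⟨t, ht⟩ : L)))
    rw [Subgroup.mem_comap, scaleHom_up] at this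
    simpa [div_eq_inv_mul] using this
  · have := hle (htop ▸ Subgroup.mem_top (lower2 (⟨t, ht⟩ : L)))
    rw [Subgroup.mem_comap, scaleHom_lo] at this
    simpa [mul_comm] using this

theorem card_closure_eq_nine {x : K} (hx : x ^ 2 = -1)
    (h : Nat.card ↥(Subfield.closure ({x} : Set K)) = 9) : (3 : K) = 0 := by
  classical
  let L := Subfield.closure ({x} : Set K)
  have h9 : ((Fintype.card L : ℕ) : L) = 0 := FiniteField.cast_card_eq_zero L
  rw [← Nat.card_eq_fintype_card, h] at h9
  have h9' : (3 : K) * 3 = 0 := by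
    have := congrArg L.subtype h9
    rw [map_natCast, map_zero] at this
    rw [← this]
    norm_num
  exact mul_self_eq_zero.1 h9'

section odd

variable (h2 : (2 : K) ≠ 0) (h1 : upper2 (1 : K) ∈ S) (hc : c ≠ 0) (hy : lower2 c ∈ S)
include h2 h1 hc hy

/-- With `y(1)`, every parameter generates a field of parameters. -/
theorem unit_closure_le (hl : lower2 (1 : K) ∈ S) {a : K} (hA : a ∈ upPart S) :
    ∀ t ∈ Subfield.closure ({a} : Set K), upper2 t ∈ S ∧ lower2 t ∈ S := by
  have main : ∀ b : K, b ∈ upPart S → b ≠ 0 → ¬ (Nat.card ↥(Subfield.closure ({b} : Set K)) = 9 ∧ b ^ 2 = -1) →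
      ∀ t ∈ Subfield.closure ({b} : Set K), upper2 t ∈ S ∧ lower2 t ∈ S := by
    intro b hb hb0 hex t ht
    have := gen_odd h2 hb0 one_ne_zero hb hl (by rwa [mul_one]) t (by rwa [mul_one])
    simpa using this
  intro t ht
  by_cases ha : a = 0
  · subst ha
    have hle : Subfield.closure ({(0 : K)} : Set K) ≤ Subfield.closure ({(1 : K)} : Set K) :=
      (Subfield.closure_le).2 (by rintro x rfl; exact zero_mem _)
    exact main 1 h1 one_ne_zero (fun ⟨_, e⟩ => h2 (by linear_combination e)) t (hle ht)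
  by_cases hex : Nat.card ↥(Subfield.closure ({a} : Set K)) = 9 ∧ a ^ 2 = -1
  · have h3 := card_closure_eq_nine hex.2 hex.1
    have hb : a + 1 ∈ upPart S := add_mem hA h1
    have hle : Subfield.closure ({a} : Set K) ≤ Subfield.closure ({a + 1} : Set K) :=
      (Subfield.closure_le).2 (by
        rintro x rfl
        have := sub_mem (Subfield.subset_closure (Set.mem_singleton (x + 1))) (one_mem (Subfield.closure {x + 1}))
        simpa using this)
    refine main (a + 1) hb (fun e => h2 ?_) (fun ⟨_, e⟩ => ?_) t (hle ht)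
    · have : a = -1 := eq_neg_of_add_eq_zero_left e
      rw [this] at hex
      linear_combination hex.2
    · have h2a : 2 * a = -1 := by linear_combination e - hex.2
      have : (5 : K) = 0 := by linear_combination 4 * hex.2 - (2 * a - 1) * h2a
      exact one_ne_zero (α := K) (by linear_combination 2 * h3 - this)
  · exact main a hA ha hex t ht

theorem odd_c_mem : (Nat.card (upPart S) = 3 ∧ c ^ 2 = -1) ∨ c ∈ upPart S := by
  classical
  by_cases hex : Nat.card ↥(Subfield.closure ({c} : Set K)) = 9 ∧ c ^ 2 = -1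
  · have h3 := card_closure_eq_nine hex.2 hex.1
    by_cases hgood : ∃ a ∈ upPart S, a ≠ 0 ∧ (a * c) ^ 2 ≠ -1
    · obtain ⟨a, ha, ha0, hne⟩ := hgood
      have := (gen_odd h2 ha0 hc ha hy (fun e => hne e.2) 1 (one_mem _)).1
      right
      have hci : (1 : K) / c = -c := by
        rw [div_eq_iff hc]; linear_combination hex.2
      rw [hci] at this
      exact neg_mem_iff.1 (show -c ∈ upPart S from this)
    · push Not at hgood
      left
      refine ⟨?_, hex.2⟩
      have key : ∀ a ∈ upPart S, a = 0 ∨ a = 1 ∨ a = -1 := by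
        intro a ha
        by_cases ha0 : a = 0
        · exact Or.inl ha0
        · right
          refine eq_or_eq_neg_of_sq_eq_sq a 1 ?_
          have := hgood a ha ha0
          rw [mul_pow, hex.2] at this
          linear_combination -this
      have hset : ((upPart S : AddSubgroup K) : Set K) = ↑({0, 1, -1} : Finset K) := by
        ext a
        simp only [SetLike.mem_coe, Finset.coe_insert, Finset.coe_singleton, Set.mem_insert_iff,
          Set.mem_singleton_iff]
        refine ⟨key a, ?_⟩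
        rintro (rfl | rfl | rfl)
        exacts [zero_mem _, h1, neg_mem h1]
      show Nat.card ↥((upPart S : AddSubgroup K) : Set K) = 3
      rw [hset, Nat.card_coe_set_eq, Set.ncard_coe_finset]
      rw [Finset.card_insert_of_notMem, Finset.card_insert_of_notMem, Finset.card_singleton]
      · simp only [Finset.mem_singleton]
        exact fun e => h2 (by linear_combination e)
      · simp
  · right
    have := (gen_odd h2 one_ne_zero hc h1 hy (by rwa [one_mul]) (c * c)
      (by rw [one_mul]; exact mul_mem (Subfield.subset_closure rfl) (Subfield.subset_closure rfl))).1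
    rwa [mul_div_cancel_right₀ c hc] at this

omit hc hy in
theorem odd_mul_mem (hl : lower2 (1 : K) ∈ S) {a b : K} (ha : a ∈ upPart S) (hb : b ∈ upPart S) :
    a * b ∈ upPart S := by
  have key : ∀ {t y : K}, t ∈ upPart S → y ∈ upPart S → t ^ 2 * y ∈ upPart S := by
    intro t y ht hy'
    by_cases ht0 : t = 0
    · subst ht0; simp [zero_mem]
    have h := unit_closure_le h2 h1 one_ne_zero hl hl ht
    have hl' := (h (-t⁻¹) (neg_mem (inv_mem (Subfield.subset_closure rfl)))).2
    have hu := (h t (Subfield.subset_closure rfl)).1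
    have hm1 : upper2 (-1 : K) ∈ S := neg_mem (s := upPart S) h1
    have hd := mul_mem (mul_mem (mul_mem hu hl') hu) (mul_mem (mul_mem hm1 hl) hm1)
    have e : ∀ z : K, upper2 t * lower2 (-t⁻¹) * upper2 t * (upper2 (-1 : K) * lower2 1 * upper2 (-1)) * upper2 z =
        upper2 (t ^ 2 * z) * (upper2 t * lower2 (-t⁻¹) * upper2 t * (upper2 (-1 : K) * lower2 1 * upper2 (-1))) := by
      intro z
      ext i j
      fin_cases i <;> fin_cases j <;> simp [Matrix.mul_apply, Fin.sum_univ_two] <;> field_simp <;> ring_nf <;> simp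
    have := mul_mem (mul_mem hd hy') (inv_mem hd)
    rwa [e, mul_inv_cancel_right] at this
  have h4 := sub_mem (sub_mem (key (add_mem ha h1) hb) (key ha hb)) hb
  rw [show (a + 1) ^ 2 * b - a ^ 2 * b - b = 2 * (a * b) by ring] at h4
  obtain ⟨p, hp⟩ := CharP.exists K
  have hpp : p.Prime := (CharP.char_is_prime_or_zero K p).resolve_right (CharP.char_ne_zero_of_finite K p)
  have hodd : Odd p := hpp.odd_of_ne_two fun e => h2 (by subst e; exact_mod_cast CharP.cast_eq_zero K 2)
  obtain ⟨n, hn⟩ := hodd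
  have h5 := AddSubgroup.nsmul_mem _ h4 (n + 1)
  rwa [nsmul_eq_mul, ← mul_assoc, show ((n + 1 : ℕ) : K) * 2 = ((2 * n + 1 : ℕ) : K) + 1 by push_cast; ring,
    ← hn, CharP.cast_eq_zero, zero_add, one_mul] at h5

end odd

section even

variable (h2 : (2 : K) = 0)
include h2

theorem two_neg (x : K) : -x = x := by linear_combination (-x) * h2

omit [Fintype K] in
/-- A square root of one in `SL₂` in characteristic two. -/
theorem involution_form (M : SL(2, K)) (hM : M * M = 1) :
    M 1 1 = M 0 0 ∧ M 0 0 * M 0 0 + M 0 1 * M 1 0 = 1 := by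
  have e : ((M * M : SL(2, K)) : Matrix (Fin 2) (Fin 2) K) = 1 := by rw [hM]; rfl
  have e00 : M 0 0 * M 0 0 + M 0 1 * M 1 0 = 1 := by
    have := congrFun (congrFun e 0) 0
    simpa [Matrix.mul_apply, Fin.sum_univ_two] using this
  have e11 : M 1 0 * M 0 1 + M 1 1 * M 1 1 = 1 := by
    have := congrFun (congrFun e 1) 1
    simpa [Matrix.mul_apply, Fin.sum_univ_two] using this
  refine ⟨?_, e00⟩
  have : (M 1 1 - M 0 0) ^ 2 = 0 := by
    linear_combination e11 - e00 + (M 0 0 * M 0 0 - M 1 1 * M 0 0) * h2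
  exact sub_eq_zero.1 (pow_eq_zero_iff two_ne_zero |>.1 this)

/-- An involution in `S` exchanging `upper2 a` and `lower2 c`. -/
theorem exists_swap {a : K} (ha0 : a ≠ 0) (hc : c ≠ 0) (ha : upper2 a ∈ S) (hy : lower2 c ∈ S) :
    ∃ s : K, s ≠ 0 ∧ a = c * s ^ 2 ∧ ∃ g ∈ S, (g : Matrix (Fin 2) (Fin 2) K) = !![0, s; s⁻¹, 0] := by
  classical
  have hneg : ∀ x : K, -x = x := fun x => two_neg h2 x
  have hu2 : upper2 a * upper2 a = 1 := by
    rw [up_mul, show a + a = 0 by linear_combination a * h2, up_zero]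
  have hv2 : lower2 c * lower2 c = 1 := by
    rw [lo_mul, show c + c = 0 by linear_combination c * h2]
    ext i j; fin_cases i <;> fin_cases j <;> simp
  set u := upper2 a with hu
  set v := lower2 c with hv
  set D := u * v with hD
  have hcent : ∀ M : SL(2, K), M * M = 1 → M * D = D * M → M = 1 := by
    intro M hM hcomm
    obtain ⟨h11, hq⟩ := involution_form h2 M hM
    have e : ((M * D : SL(2, K)) : Matrix (Fin 2) (Fin 2) K) = ((D * M : SL(2, K)) : Matrix (Fin 2) (Fin 2) K) := by
      rw [hcomm]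
    have e01 := congrFun (congrFun e 0) 1
    have e00 := congrFun (congrFun e 0) 0
    simp [hD, hu, hv, Matrix.mul_apply, Fin.sum_univ_two, h11] at e01 e00
    have hy0 : M 0 1 = 0 := by
      have : a * c * M 0 1 = 0 := by linear_combination -e01
      simpa [ha0, hc] using this
    have hz0 : M 1 0 = 0 := by
      have : a * M 1 0 = 0 := by linear_combination -e00 + c * hy0
      simpa [ha0] using this
    have hx : M 0 0 = 1 := by
      have : (M 0 0 - 1) ^ 2 = 0 := by
        linear_combination hq - M 1 0 * hy0 + (1 - M 0 0) * h2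
      exact sub_eq_zero.1 (pow_eq_zero_iff two_ne_zero |>.1 this)
    ext i j
    fin_cases i <;> fin_cases j <;> simp [hy0, hz0, hx, h11]
  obtain ⟨i, hi⟩ : Odd (orderOf D) := by
    rw [← Nat.not_even_iff_odd]
    rintro ⟨k, hk⟩
    have hpos := orderOf_pos D
    have h1 : D ^ k = 1 := hcent _ (by rw [← pow_add, ← hk, pow_orderOf_eq_one])
      (Commute.pow_self D k).eq
    have := Nat.le_of_dvd (by omega) (orderOf_dvd_of_pow_eq_one h1)
    omega
  have hinv : u * D * u = D⁻¹ := by
    refine (inv_eq_of_mul_eq_one_right ?_).symm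
    calc u * v * (u * (u * v) * u) = u * v * ((u * u) * v * u) := by simp only [mul_assoc]
      _ = u * (v * v) * u := by rw [hu2, one_mul]; simp only [mul_assoc]
      _ = 1 := by rw [hv2, mul_one, hu2]
  have hconj : u * D ^ i * u = (D ^ i)⁻¹ := by
    have hui : u⁻¹ = u := inv_eq_of_mul_eq_one_right hu2
    have := conj_pow (i := i) (a := u) (b := D)
    rw [hui, hinv, inv_pow] at this
    exact this.symm
  set g := D ^ i * u with hg
  have hgS : g ∈ S := mul_mem (pow_mem (mul_mem ha hy) i) ha
  have hgg : g * g = 1 := by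
    calc D ^ i * u * (D ^ i * u) = D ^ i * (u * D ^ i * u) := by simp only [mul_assoc]
      _ = 1 := by rw [hconj, mul_inv_cancel]
  have hgu : g * u = v * g := by
    have hD1 : D * (D ^ i * D ^ i) = 1 := by
      rw [← pow_add, ← pow_succ']
      convert pow_orderOf_eq_one D using 2
      omega
    calc D ^ i * u * u = D ^ i := by rw [mul_assoc, hu2, mul_one]
      _ = (D * D ^ i)⁻¹ := eq_inv_of_mul_eq_one_right (by rw [mul_assoc, hD1])
      _ = (D ^ i)⁻¹ * D⁻¹ := _root_.mul_inv_rev _ _
      _ = u * D ^ i * u * (u * D * u) := by rw [hconj, hinv]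
      _ = u * D ^ i * (u * u) * D * u := by simp only [mul_assoc]
      _ = u * (D ^ i * D) * u := by rw [hu2]; simp only [mul_assoc, one_mul]
      _ = u * D * (D ^ i * u) := by rw [← pow_succ, pow_succ']; simp only [mul_assoc]
      _ = v * g := by rw [hD, ← mul_assoc u u v, hu2, one_mul]
  obtain ⟨h11, hq⟩ := involution_form h2 g hgg
  have e : ((g * u : SL(2, K)) : Matrix (Fin 2) (Fin 2) K) = ((v * g : SL(2, K)) : Matrix (Fin 2) (Fin 2) K) := by
    rw [hgu]
  have e01 := congrFun (congrFun e 0) 1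
  have e11 := congrFun (congrFun e 1) 1
  simp [hu, hv, Matrix.mul_apply, Fin.sum_univ_two, h11] at e01 e11
  have hx : g 0 0 = 0 := by
    simpa [ha0] using e01
  rw [hx, zero_mul, zero_add] at hq
  have hs : g 0 1 ≠ 0 := left_ne_zero_of_mul_eq_one hq
  have hz : g 1 0 = (g 0 1)⁻¹ := eq_inv_of_mul_eq_one_right hq
  refine ⟨g 0 1, hs, ?_, g, hgS, ?_⟩
  · have : g 1 0 * a = c * g 0 1 := by linear_combination e11
    linear_combination g 0 1 * this - a * hq
  · ext i j
    fin_cases i <;> fin_cases j <;> simp [hx, hz, h11]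

variable (hc : c ≠ 0) (h1 : upper2 (1 : K) ∈ S) (hy : lower2 c ∈ S)
include hc h1 hy

/-- The diagonal element with square `a`. -/
theorem exists_diag {a : K} (ha0 : a ≠ 0) (ha : a ∈ upPart S) :
    ∃ r : K, r ≠ 0 ∧ r ^ 2 = a ∧ ∃ g ∈ S, (g : Matrix (Fin 2) (Fin 2) K) = !![r, 0; 0, r⁻¹] := by
  obtain ⟨s, hs, hs2, g, hg, hgm⟩ := exists_swap h2 ha0 hc ha hy
  obtain ⟨t, ht, ht2, k, hk, hkm⟩ := exists_swap h2 one_ne_zero hc h1 hy
  refine ⟨s / t, div_ne_zero hs ht, ?_, g * k, mul_mem hg hk, ?_⟩
  · rw [div_pow, div_eq_iff (pow_ne_zero 2 ht)]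
    exact mul_left_cancel₀ hc (by linear_combination -hs2 + a * ht2)
  · rw [Matrix.SpecialLinearGroup.coe_mul, hgm, hkm]
    ext i j
    fin_cases i <;> fin_cases j <;> simp [Matrix.mul_apply, Fin.sum_univ_two, div_eq_mul_inv, mul_comm]

theorem even_mul_mem {a b : K} (ha : a ∈ upPart S) (hb : b ∈ upPart S) : a * b ∈ upPart S := by
  by_cases ha0 : a = 0
  · subst ha0; simp [zero_mem]
  obtain ⟨r, hr, hr2, g, hg, hgm⟩ := exists_diag h2 hc h1 hy ha0 ha
  have e : g * upper2 b = upper2 (a * b) * g := by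
    apply Subtype.ext
    rw [Matrix.SpecialLinearGroup.coe_mul, Matrix.SpecialLinearGroup.coe_mul, hgm]
    ext i j
    fin_cases i <;> fin_cases j <;> simp [Matrix.mul_apply, Fin.sum_univ_two, ← hr2]
    field_simp
  have := mul_mem (mul_mem hg hb) (inv_mem hg)
  rwa [e, mul_inv_cancel_right] at this

theorem even_c_mem {a : K} (ha : a ∈ upPart S) (ha0 : a ≠ 0) (ha1 : a ≠ 1) : c ∈ upPart S := by
  classical
  set w := upper2 c⁻¹
  have hw : w * w = 1 := by
    rw [up_mul, show c⁻¹ + c⁻¹ = 0 by linear_combination c⁻¹ * h2, up_zero]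
  let S' := S.map (MulAut.conj w).toMonoidHom
  have hS : ∀ {g : SL(2, K)}, g ∈ S → w * g * w ∈ S' := fun {g} hg =>
    ⟨g, hg, by simp [inv_eq_of_mul_eq_one_right hw]⟩
  have hup : ∀ x : K, x ∈ upPart S' ↔ x ∈ upPart S := by
    intro x
    have e : w * upper2 x * w = upper2 x := by
      rw [up_mul, up_mul, show c⁻¹ + x + c⁻¹ = x by linear_combination c⁻¹ * h2]
    constructor
    · rintro ⟨g, hg, hgx⟩
      have : g = w * upper2 x * w := by
        rw [← hgx]
        simp [inv_eq_of_mul_eq_one_right hw, mul_assoc, hw]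
        simp [← mul_assoc, hw]
      rw [e] at this
      rw [this] at hg
      exact hg
    · intro hx
      have := hS hx
      rwa [e] at this
  have h1' : upper2 (1 : K) ∈ S' := (hup 1).2 h1
  have hw' := hS hy
  have hl : lower2 (c ^ 2) ∈ S' := by
    have e0 : ((w * lower2 c * w : SL(2, K)) : Matrix (Fin 2) (Fin 2) K) = !![0, c⁻¹; c, 0] := by
      ext i j
      fin_cases i <;> fin_cases j <;> simp [w, Matrix.mul_apply, Fin.sum_univ_two, hc]
      all_goals linear_combination h2
    have e : w * lower2 c * w * upper2 1 = lower2 (c ^ 2) * (w * lower2 c * w) := by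
      apply Subtype.ext
      rw [Matrix.SpecialLinearGroup.coe_mul, Matrix.SpecialLinearGroup.coe_mul (lower2 _), e0]
      ext i j
      fin_cases i <;> fin_cases j <;> simp [Matrix.mul_apply, Fin.sum_univ_two]
      field_simp
    have := mul_mem (mul_mem hw' h1') (inv_mem hw')
    rwa [e, mul_inv_cancel_right] at this
  obtain ⟨r, hr, hr2, g, hg, hgm⟩ := exists_diag h2 hc h1 hy ha0 ha
  obtain ⟨r', hr', hr2', g', hg', hgm'⟩ := exists_diag h2 (pow_ne_zero 2 hc) h1' hl ha0 ((hup a).2 ha)
  have hrr : r' = r := by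
    have : (r' - r) ^ 2 = 0 := by linear_combination hr2' - hr2 + (r ^ 2 - r * r') * h2
    exact sub_eq_zero.1 (pow_eq_zero_iff two_ne_zero |>.1 this)
  subst hrr
  have hgg : g = g' := Subtype.ext (hgm.trans hgm'.symm)
  subst hgg
  have key : upper2 (c⁻¹ * (a + 1)) = w * g * w * g⁻¹ := by
    rw [eq_mul_inv_iff_mul_eq]
    apply Subtype.ext
    simp only [Matrix.SpecialLinearGroup.coe_mul, hgm]
    ext i j
    fin_cases i <;> fin_cases j <;> simp [w, Matrix.mul_apply, Fin.sum_univ_two]
    rw [← hr2]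
    field_simp
  have hz : c⁻¹ * (a + 1) ∈ upPart S := (hup _).1 (by
    change upper2 (c⁻¹ * (a + 1)) ∈ S'
    rw [key]; exact mul_mem (hS hg) (inv_mem hg'))
  have hmul : ∀ {x y : K}, x ∈ upPart S → y ∈ upPart S → x * y ∈ upPart S := fun hx hy' =>
    even_mul_mem h2 hc h1 hy hx hy'
  have hpow : ∀ {x : K}, x ∈ upPart S → ∀ n : ℕ, x ^ n ∈ upPart S := by
    intro x hx n
    induction n with
    | zero => rw [pow_zero]; exact h1
    | succ n ih => rw [pow_succ]; exact hmul ih hx
  have hinv : ∀ {x : K}, x ∈ upPart S → x⁻¹ ∈ upPart S := by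
    intro x hx
    by_cases hx0 : x = 0
    · subst hx0; simp [zero_mem]
    have : x⁻¹ = x ^ (Fintype.card K - 2) := by
      refine inv_eq_of_mul_eq_one_right ?_
      rw [← pow_succ', show Fintype.card K - 2 + 1 = Fintype.card K - 1 by
        have := Fintype.one_lt_card (α := K); omega, FiniteField.pow_card_sub_one_eq_one x hx0]
    rw [this]; exact hpow hx _
  have ha1' : a + 1 ≠ 0 := fun e => ha1 (by rw [eq_neg_of_add_eq_zero_left e, two_neg h2])
  have := hinv (hmul hz (hinv (add_mem ha h1)))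
  rwa [mul_inv_cancel_right₀ ha1', inv_inv] at this

end even

variable (h1 : upper2 (1 : K) ∈ S)
include h1

/-- The parameters of the upper unipotents are closed under products. -/
theorem upPart_mul (hl : lower2 (1 : K) ∈ S) {a b : K} (ha : a ∈ upPart S) (hb : b ∈ upPart S) :
    a * b ∈ upPart S := by
  by_cases h2 : (2 : K) = 0
  · exact even_mul_mem h2 one_ne_zero h1 hl ha hb
  · exact odd_mul_mem h2 h1 hl ha hb

/-- `c` is a parameter, apart from two small cases. -/
theorem c_mem (hc : c ≠ 0) (hy : lower2 c ∈ S) :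
    c ∈ upPart S ∨ ((2 : K) = 0 ∧ Nat.card (upPart S) = 2) ∨ (Nat.card (upPart S) = 3 ∧ c ^ 2 = -1) := by
  classical
  by_cases h2 : (2 : K) = 0
  · by_cases hex : ∃ a ∈ upPart S, a ≠ 0 ∧ a ≠ 1
    · obtain ⟨a, ha, ha0, ha1⟩ := hex
      exact Or.inl (even_c_mem h2 hc h1 hy ha ha0 ha1)
    · refine Or.inr (Or.inl ⟨h2, ?_⟩)
      push Not at hex
      have hset : ((upPart S : AddSubgroup K) : Set K) = {0, 1} := by
        ext x
        simp only [SetLike.mem_coe, Set.mem_insert_iff, Set.mem_singleton_iff]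
        refine ⟨fun hx => or_iff_not_imp_left.2 (hex x hx), ?_⟩
        rintro (rfl | rfl)
        exacts [zero_mem _, h1]
      show Nat.card ↥((upPart S : AddSubgroup K) : Set K) = 2
      rw [hset, Nat.card_coe_set_eq, Set.ncard_pair zero_ne_one]
  · rcases odd_c_mem h2 h1 hc hy with h | h
    exacts [Or.inr (Or.inr h), Or.inl h]

end H66.Subfield
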