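import Cfsg.Agent.H66.Subfield.Frame
import Cfsg.Agent.H66.Subfield.SL2
import Cfsg.Agent.H52.RankOne

/-!
The field of parameters of an overgroup of the elementary group over the prime field.
-/

set_option autoImplicit false
set_option linter.unusedSectionVars false

open Cfsg.Lie H52
open scoped MatrixGroups

namespace H66.Subfield

/-- Root facts: long roots rise to the highest root, short roots pair with a long root. -/
def rootChk (D : ChevalleyDatum) : Bool :=
  (List.range D.nroots).all fun r =>
    if isLong D r then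
      isLong D (D.neg r) && (r == D.nroots - 1 ||
        (List.range D.rank).any fun i => decide (r < D.reflectRoot i r) && isLong D (D.reflectRoot i r))
    else (List.range D.nroots).any fun β => isLong D β && decide ((pairInt D β r).natAbs = 1)

/-- A subgroup of a finite Chevalley group containing the root elements with parameter one. -/
structure Ov (D : ChevalleyDatum) (K : Type*) [Field K] where
  C : H54.Ctx D
  hl : lvlChk D = true
  hr : rootChk D = true
  H : Subgroup (GL D.Idx K)
  hH : H ≤ D.group K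
  hone : ∀ r < D.nroots, rt D r (1 : K) ∈ H

namespace Ov

variable {D : ChevalleyDatum} {K : Type*} [Field K] [Fintype K] (O : Ov D K)
include O

theorem hN : 2 ≤ D.nroots := two_le_nroots O.hl

theorem top_lt : D.nroots - 1 < D.nroots := by have := O.hN; omega

theorem neg_top : D.neg (D.nroots - 1) = 0 := by
  rw [O.C.hC.neg_eq O.top_lt]; omega

omit O in
theorem isLong_lt {r : ℕ} (h : isLong D r = true) : r < D.nroots := by
  simp only [isLong, Bool.and_eq_true, decide_eq_true_eq] at h; exact h.1

/-- The homomorphism from `SL₂` along `α`. -/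
theorem exists_phi : ∃ φ : SL(2, K) →* GL D.Idx K,
    (φ.range = D.rootSubgroup K (D.nroots - 1) ⊔ D.rootSubgroup K 0) ∧
    (∀ t, φ (H37.upper2 t) = rt D (D.nroots - 1) t) ∧ ∀ t, φ (H37.lower2 t) = rt D 0 t := by
  obtain ⟨φ, hr, hφ⟩ := O.C.hC.exists_sl2_hom (F := K) O.top_lt
  rw [O.neg_top] at hr
  refine ⟨φ, hr, fun t => ?_, fun t => ?_⟩
  · exact O.C.hC.eq_rt ((hφ _ t).1 rfl)
  · have := (hφ (H37.lower2 t) t).2 rfl
    rw [O.neg_top] at this
    exact O.C.hC.eq_rt this

noncomputable def phi : SL(2, K) →* GL D.Idx K := O.exists_phi.choose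

theorem phi_range : O.phi.range = D.rootSubgroup K (D.nroots - 1) ⊔ D.rootSubgroup K 0 :=
  O.exists_phi.choose_spec.1

theorem phi_up (t : K) : O.phi (H37.upper2 t) = rt D (D.nroots - 1) t := O.exists_phi.choose_spec.2.1 t

theorem phi_lo (t : K) : O.phi (H37.lower2 t) = rt D 0 t := O.exists_phi.choose_spec.2.2 t

theorem upPart_comap {t : K} : t ∈ upPart (O.H.comap O.phi) ↔ rt D (D.nroots - 1) t ∈ O.H := by
  rw [mem_upPart, Subgroup.mem_comap, O.phi_up]

theorem mul_par {a b : K} (ha : rt D (D.nroots - 1) a ∈ O.H) (hb : rt D (D.nroots - 1) b ∈ O.H) :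
    rt D (D.nroots - 1) (a * b) ∈ O.H := by
  rw [← upPart_comap] at *
  refine upPart_mul ?_ ?_ ha hb
  · rw [Subgroup.mem_comap, O.phi_up]; exact O.hone _ O.top_lt
  · rw [Subgroup.mem_comap, O.phi_lo]; exact O.hone _ (by have := O.hN; omega)

/-- The field of parameters. -/
noncomputable def F : Subfield K where
  carrier := {t | rt D (D.nroots - 1) t ∈ O.H}
  mul_mem' := O.mul_par
  one_mem' := O.hone _ O.top_lt
  add_mem' {a b} ha hb := by
    show rt D _ (a + b) ∈ O.H
    rw [← O.C.hC.rt_mul]; exact mul_mem ha hb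
  zero_mem' := by show rt D _ (0 : K) ∈ O.H; rw [O.C.hC.rt_zero]; exact one_mem _
  neg_mem' {a} ha := by
    show rt D _ (-a) ∈ O.H
    rw [← O.C.hC.rt_inv]; exact inv_mem ha
  inv_mem' a ha := by
    show rt D _ a⁻¹ ∈ O.H
    by_cases h0 : a = 0
    · subst h0; rw [inv_zero]; exact ha
    have hp : ∀ n : ℕ, rt D (D.nroots - 1) (a ^ n) ∈ O.H := by
      intro n
      induction n with
      | zero => rw [pow_zero]; exact O.hone _ O.top_lt
      | succ n ih => rw [pow_succ]; exact O.mul_par ih ha
    have : a⁻¹ = a ^ (Fintype.card K - 2) := by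
      refine inv_eq_of_mul_eq_one_right ?_
      rw [← pow_succ', show Fintype.card K - 2 + 1 = Fintype.card K - 1 by
        have := Fintype.one_lt_card (α := K); omega, FiniteField.pow_card_sub_one_eq_one a h0]
    rw [this]; exact hp _

theorem mem_F {t : K} : t ∈ O.F ↔ rt D (D.nroots - 1) t ∈ O.H := Iff.rfl

theorem upPart_eq {t : K} : t ∈ upPart (O.H.comap O.phi) ↔ t ∈ O.F := O.upPart_comap

theorem rt_neg_one {r : ℕ} (hr : r < D.nroots) : rt D r (-1 : K) ∈ O.H := by
  rw [← O.C.hC.rt_inv]; exact inv_mem (O.hone r hr)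

theorem nGL_mem {i : ℕ} (hi : i < D.rank) : H53.nGL D (D.simple i) (1 : K) ∈ O.H := by
  have hp := O.C.hC.simple_lt hi
  have : H53.nGL D (D.simple i) (1 : K) = nElt D (D.simple i) (1 : K) :=
    Units.ext (by rw [H53.coe_nGL O.C.hC, O.C.hC.coe_nElt])
  rw [this, H52.Checked.nElt_eq, inv_one]
  exact mul_mem (mul_mem (O.hone _ hp) (O.rt_neg_one (O.C.hC.neg_lt hp))) (O.hone _ hp)

theorem nw_mem (L : List (Fin D.rank)) : H54.Ctx.nw D K L ∈ O.H :=
  list_prod_mem fun g hg => by
    obtain ⟨i, -, rfl⟩ := List.mem_map.1 hg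
    exact O.nGL_mem i.isLt

theorem long_raise {r : ℕ} (h : isLong D r = true) (hne : r ≠ D.nroots - 1) :
    ∃ i < D.rank, r < D.reflectRoot i r ∧ isLong D (D.reflectRoot i r) = true := by
  have := O.hr
  simp only [rootChk, List.all_eq_true, List.mem_range] at this
  have h1 := this r (isLong_lt h)
  simp only [h, if_true, Bool.and_eq_true, Bool.or_eq_true, beq_iff_eq, List.any_eq_true, List.mem_range,
    decide_eq_true_eq] at h1
  exact h1.2.resolve_left hne

theorem long_neg {r : ℕ} (h : isLong D r = true) : isLong D (D.neg r) = true := by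
  have := O.hr
  simp only [rootChk, List.all_eq_true, List.mem_range] at this
  have h1 := this r (isLong_lt h)
  simp only [h, if_true, Bool.and_eq_true] at h1
  exact h1.1

theorem short_pair {r : ℕ} (hr : r < D.nroots) (h : isLong D r = false) :
    ∃ β, isLong D β = true ∧ (pairInt D β r).natAbs = 1 := by
  have := O.hr
  simp only [rootChk, List.all_eq_true, List.mem_range] at this
  have h1 := this r hr
  simp only [h, Bool.false_eq_true, if_false, List.any_eq_true, List.mem_range, Bool.and_eq_true,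
    decide_eq_true_eq] at h1
  obtain ⟨β, -, h2⟩ := h1
  exact ⟨β, h2⟩

/-- A long root is the image of the highest root. -/
theorem exists_word_top {β : ℕ} (h : isLong D β = true) :
    ∃ L : List (Fin D.rank), (O.C.wperm L ⟨D.nroots - 1, O.top_lt⟩).val = β := by
  induction hn : D.nroots - β using Nat.strong_induction_on generalizing β with
  | _ n ih =>
  by_cases hne : β = D.nroots - 1
  · exact ⟨[], by simp [H54.Ctx.wperm_nil, hne]⟩
  obtain ⟨i, hi, hlt, hl⟩ := O.long_raise h hne
  obtain ⟨L, hL⟩ := ih (D.nroots - D.reflectRoot i β) (by have := isLong_lt hl; omega) hl rfl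
  refine ⟨⟨i, hi⟩ :: L, ?_⟩
  rw [O.C.wperm_cons, Equiv.Perm.mul_apply, O.C.sigma_val, hL]
  exact O.C.hC.reflect_reflect hi (isLong_lt h)

theorem long_rt_iff {β : ℕ} (h : isLong D β = true) (t : K) : rt D β t ∈ O.H ↔ t ∈ O.F := by
  obtain ⟨L, hL⟩ := O.exists_word_top h
  obtain ⟨e, he, -, hconj⟩ := nw_act (K := K) O.C L ⟨D.nroots - 1, O.top_lt⟩
  have hn := O.nw_mem L
  have heF : e ∈ O.F := by
    rcases mul_self_eq_one_iff.1 he with rfl | rfl
    exacts [one_mem _, neg_mem (one_mem _)]
  have key : ∀ s : K, rt D β (e * s) ∈ O.H ↔ s ∈ O.F := by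
    intro s
    rw [mem_F, ← hL, ← hconj s]
    constructor
    · intro hh
      have := mul_mem (mul_mem (inv_mem hn) hh) hn
      rwa [show ∀ a b : GL D.Idx K, a⁻¹ * (a * b * a⁻¹) * a = b from fun a b => by group] at this
    · intro hh; exact mul_mem (mul_mem hn hh) (inv_mem hn)
  rw [show t = e * (e * t) by rw [← mul_assoc, he, one_mul], key, ← mul_assoc, he, one_mul]
  refine ⟨fun ht => ?_, fun ht => mul_mem heF ht⟩
  have := mul_mem heF ht
  rwa [← mul_assoc, he, one_mul] at this

theorem hElt_mem {β : ℕ} (h : isLong D β = true) {c : K} (hc : c ∈ O.F) : hElt D β c ∈ O.H := by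
  have hneg := O.long_neg h
  have hn : ∀ s ∈ O.F, nElt D β s ∈ O.H := by
    intro s hs
    rw [H52.Checked.nElt_eq]
    exact mul_mem (mul_mem ((O.long_rt_iff h s).2 hs) ((O.long_rt_iff hneg _).2 (neg_mem (inv_mem hs))))
      ((O.long_rt_iff h s).2 hs)
  rw [H52.Checked.hElt_eq]
  exact mul_mem (hn c hc) (hn _ (neg_mem (one_mem _)))

/-- Every root element with parameter in `F` lies in `H`. -/
theorem rt_mem {r : ℕ} (hr : r < D.nroots) {t : K} (ht : t ∈ O.F) : rt D r t ∈ O.H := by
  cases h : isLong D r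
  · by_cases h0 : t = 0
    · subst h0; rw [O.C.hC.rt_zero]; exact one_mem _
    obtain ⟨β, hβ, hp⟩ := O.short_pair hr h
    have hconj : ∀ c : Kˣ, (c : K) ∈ O.F → rt D r (((c ^ pairInt D β r : Kˣ) : K)) ∈ O.H := by
      intro c hc
      have h1 := mul_mem (mul_mem (O.hElt_mem hβ hc) (O.hone r hr)) (inv_mem (O.hElt_mem hβ hc))
      rw [O.C.hC.hElt_eq_dgR (isLong_lt hβ),
        O.C.hC.dgR_conj_rt (χ := fun s => c ^ pairInt D β s) ?_ hr, mul_one] at h1
      · exact h1
      · have : (fun s => c ^ pairInt D β s) = fun s => ∏ i : Fin D.rank, (c ^ crt D β i.val) ^ D.cartan i.val s := by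
          funext s
          rw [O.C.hC.pairInt_eq_sum, Finset.sum_range]
          generalize (Finset.univ : Finset (Fin D.rank)) = S
          classical
          induction S using Finset.induction_on with
          | empty => simp
          | insert a S ha ih => rw [Finset.sum_insert ha, Finset.prod_insert ha, zpow_add, ih, zpow_mul]
        rw [this]
        exact O.C.hC.isChar_torus _
    rcases Int.natAbs_eq_iff.1 hp with h1 | h1 <;> rw [h1] at hconj
    · simpa using hconj (Units.mk0 t h0) ht
    · simpa using hconj (Units.mk0 t⁻¹ (inv_ne_zero h0)) (inv_mem ht)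
  · exact (O.long_rt_iff h t).2 ht

end Ov

end H66.Subfield
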