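import Cfsg.Agent.H66.Subfield.Rat
import Cfsg.Agent.H54.ChevRigid

/-!
Subgroups of a finite Chevalley group containing the root elements with parameter one: all entries lie in the field
of parameters.
-/

set_option autoImplicit false
set_option linter.unusedSectionVars false
set_option maxRecDepth 100000

open Cfsg.Lie H52
open scoped MatrixGroups

namespace H66.Subfield

theorem linAll_B2 : linAll chevB2 2 = true := by decide +kernel
theorem linAll_F4 : linAll chevF4 2 = true := by decide +kernel
theorem linAll_G2 : linAll chevG2 3 = true := by decide +kernel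
theorem powAll_B2 : powAll chevB2 2 = true := by decide +kernel
theorem powAll_F4 : powAll chevF4 2 = true := by decide +kernel
theorem powAll_G2 : powAll chevG2 3 = true := by decide +kernel

/-- The long roots are stable under the fundamental reflections; they separate the short roots. -/
def stableChk (D : ChevalleyDatum) : Bool :=
  (List.range D.nroots).all fun r =>
    if isLong D r then (List.range D.rank).all fun i => isLong D (D.reflectRoot i r)
    else (List.range D.nroots).all fun r' => r' == r ||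
      (List.range D.nroots).any fun β => isLong D β && pairInt D β r != pairInt D β r'

theorem stable_of_mem {D : ChevalleyDatum}
    (hD : D ∈ [chevG2, chevB2, chevD4, chevF4, chevE6, chevE7, chevE8]) : stableChk D = true := by
  simp only [List.mem_cons, List.not_mem_nil, or_false] at hD
  rcases hD with rfl | rfl | rfl | rfl | rfl | rfl | rfl <;> decide +kernel

namespace Ov

variable {D : ChevalleyDatum} {K : Type*} [Field K] [Fintype K] (O : Ov D K)
include O

theorem cf_of_mem (hD : D ∈ [chevG2, chevB2, chevD4, chevF4, chevE6, chevE7, chevE8]) : O.CF := by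
  intro g hg
  simp only [List.mem_cons, List.not_mem_nil, or_false] at hD
  rcases hD with rfl | rfl | rfl | rfl | rfl | rfl | rfl
  · exact O.c_mem_g2 hg
  · exact O.c_mem_b2 lowChk_B2 hg
  · exact O.c_mem_long lowChk_D4 tri_D4.1 tri_D4.2.1 tri_D4.2.2 hg
  · exact O.c_mem_long lowChk_F4 tri_F4.1 tri_F4.2.1 tri_F4.2.2 hg
  · exact O.c_mem_long lowChk_E6 tri_E6.1 tri_E6.2.1 tri_E6.2.2 hg
  · exact O.c_mem_long lowChk_E7 tri_E7.1 tri_E7.2.1 tri_E7.2.2 hg
  · exact O.c_mem_long lowChk_E8 tri_E8.1 tri_E8.2.1 tri_E8.2.2 hg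

theorem g2_short_two (O : Ov chevG2 K) (h2 : (2 : K) = 0) {g : GL chevG2.Idx K} (hg : g ∈ O.H) :
    vc chevG2 (vec g) 2 ∈ O.F ∧ vc chevG2 (vec g) 3 ∈ O.F := by
  have hcF := O.cf_of_mem (by simp)
  have hN : chevG2.nroots = 12 := by decide
  have hrow : ∀ θ L : ℕ, θ < 12 → L < 12 → L ≠ θ → ∀ (g' : GL chevG2.Idx K),
      vc chevG2 (vec (rt chevG2 θ 1 * g')) L =
        vc chevG2 (vec g') L + rowVal chevG2 (rowS chevG2 θ L) 1 (vec g') := by
    intro θ L a b h g'
    rw [vec_mul, row_apply O.C.hC (by omega) (by omega), if_neg h, add_zero]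
  have hlong : ∀ g' ∈ O.H, ∀ L ∈ [0, 6, 10], vc chevG2 (vec g') L ∈ O.F := by
    intro g' hg' L hL
    have : ∀ L ∈ [0, 6, 10], isLong chevG2 L = true := by decide
    exact O.long_mem lowChk_G2 hcF hg' (this L hL)
  have hone : ∀ θ < 12, rt chevG2 θ (1 : K) ∈ O.H := fun θ h => O.hone θ (by omega)
  have h3K : ((3 : ℤ) : K) = 1 := by push_cast; linear_combination h2
  have hm3K : ((-3 : ℤ) : K) = 1 := by push_cast; linear_combination (-2 : K) * h2
  have hm1K : ((-1 : ℤ) : K) = 1 := by push_cast; linear_combination -h2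
  have h1K : ((1 : ℤ) : K) = 1 := Int.cast_one
  have hsum : ∀ g' ∈ O.H, vc chevG2 (vec g') 4 + vc chevG2 (vec g') 2 ∈ O.F ∧
      vc chevG2 (vec g') 7 + vc chevG2 (vec g') 3 ∈ O.F := by
    intro g' hg'
    have a := hlong _ (mul_mem (hone 8 (by decide)) hg') 6 (by simp)
    have b := hlong _ (mul_mem (hone 9 (by decide)) hg') 10 (by simp)
    rw [hrow 8 6 (by decide) (by decide) (by decide),
      show rowS chevG2 8 6 = [(0, 3, 1), (2, 2, -3), (4, 1, 3)] by decide] at a
    rw [hrow 9 10 (by decide) (by decide) (by decide),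
      show rowS chevG2 9 10 = [(0, 3, 1), (3, 2, 3), (7, 1, -3)] by decide] at b
    simp only [rowVal, List.map_cons, List.map_nil, List.sum_cons, List.sum_nil, h3K, hm3K, h1K, one_pow,
      one_mul, add_zero] at a b
    have a' := sub_mem (sub_mem a (hlong g' hg' 6 (by simp))) (hlong g' hg' 0 (by simp))
    have b' := sub_mem (sub_mem b (hlong g' hg' 10 (by simp))) (hlong g' hg' 0 (by simp))
    constructor
    · convert a' using 1; ring
    · convert b' using 1; ring
  obtain ⟨p1, p2⟩ := hsum g hg
  constructor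
  · have a := (hsum _ (mul_mem (hone 10 (by decide)) hg)).2
    rw [hrow 10 7 (by decide) (by decide) (by decide), show rowS chevG2 10 7 = [(2, 1, 1)] by decide,
      hrow 10 3 (by decide) (by decide) (by decide), show rowS chevG2 10 3 = [] by decide] at a
    simp only [rowVal, List.map_cons, List.map_nil, List.sum_cons, List.sum_nil, h1K, one_pow, one_mul,
      add_zero] at a
    convert sub_mem a p2 using 1
    ring
  · have a := (hsum _ (mul_mem (hone 6 (by decide)) hg)).1
    rw [hrow 6 4 (by decide) (by decide) (by decide), show rowS chevG2 6 4 = [(3, 1, -1)] by decide,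
      hrow 6 2 (by decide) (by decide) (by decide), show rowS chevG2 6 2 = [] by decide] at a
    simp only [rowVal, List.map_cons, List.map_nil, List.sum_cons, List.sum_nil, hm1K, one_pow, one_mul,
      add_zero] at a
    convert sub_mem a p1 using 1
    ring

theorem short_of_mem (hD : D ∈ [chevG2, chevB2, chevD4, chevF4, chevE6, chevE7, chevE8]) :
    ∀ g ∈ O.H, vc D (vec g) 0 ≠ 0 → ∀ r, inQ1 D r = true → isLong D r = false →
      vc D (vec g) (low D r) ∈ O.F := by
  intro g hg hc r hr hs
  have hk := (facts_of_mem hD).2.2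
  have hcF := O.cf_of_mem hD
  have hlt := (inQ1_iff.1 hr).2.1
  have hchar : ∀ (p : ℕ), p.Prime → (p : K) = 0 → CharP K p := by
    intro p hp h0
    obtain ⟨q, hq⟩ := CharP.exists K
    have : q = p := (Nat.prime_dvd_prime_iff_eq ((CharP.char_is_prime_or_zero K q).resolve_right
      (CharP.char_ne_zero_of_finite K q)) hp).1 ((CharP.cast_eq_zero_iff K q p).1 h0)
    exact this ▸ hq
  have two : ∀ {M : ℕ}, linAll D M = true → (M : K) ≠ 0 → (2 : K) ≠ 0 → vc D (vec g) (low D r) ∈ O.F :=
    fun h1 h3 h2 => O.lin_mem hk hcF h2 h3 h1 hg hr hs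
  have pw : ∀ (p : ℕ), p.Prime → (p : K) = 0 → powAll D p = true → vc D (vec g) (low D r) ∈ O.F := by
    intro p hp h0 hpow
    have := Fact.mk hp
    have := hchar p hp h0
    exact O.pow_mem' hk hcF hpow hg hc hr hs
  have noShort : ∀ {P : Prop}, shortMask D = 0 → P := fun {P} h => by
    simp [isLong, h, hlt] at hs
  simp only [List.mem_cons, List.not_mem_nil, or_false] at hD
  rcases hD with rfl | rfl | rfl | rfl | rfl | rfl | rfl
  · by_cases h2 : (2 : K) = 0
    · obtain ⟨a, b⟩ := O.g2_short_two O h2 hg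
      have : ∀ r < 12, inQ1 chevG2 r = true → isLong chevG2 r = false → low chevG2 r = 2 ∨ low chevG2 r = 3 := by
        decide
      rcases this r (by simpa [show chevG2.nroots = 12 by decide] using hlt) hr hs with e | e <;> rw [e]
      exacts [a, b]
    · by_cases h3 : ((3 : ℕ) : K) = 0
      · exact pw 3 Nat.prime_three h3 powAll_G2
      · exact two linAll_G2 h3 h2
  · by_cases h2 : ((2 : ℕ) : K) = 0
    · exact pw 2 Nat.prime_two h2 powAll_B2
    · exact two linAll_B2 h2 (by exact_mod_cast h2)
  · exact noShort (by decide)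
  · by_cases h2 : ((2 : ℕ) : K) = 0
    · exact pw 2 Nat.prime_two h2 powAll_F4
    · exact two linAll_F4 h2 (by exact_mod_cast h2)
  all_goals exact noShort (by decide)

theorem vec_mem (hD : D ∈ [chevG2, chevB2, chevD4, chevF4, chevE6, chevE7, chevE8]) {g : GL D.Idx K}
    (hg : g ∈ O.H) : ∀ x, vec g x ∈ O.F :=
  O.vec_rat (facts_of_mem hD).2.2 (O.cf_of_mem hD) (O.short_of_mem hD) hg

end Ov

section rigid

variable {D : ChevalleyDatum} {K : Type*} [Field K] (C : H54.Ctx D)

/-- `g` fixes the root vectors of the long roots. -/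
def FixLong (g : GL D.Idx K) : Prop :=
  ∀ s, isLong D s = true → (g : Matrix D.Idx D.Idx K).mulVec (bv D K s) = bv D K s

include C in
theorem wperm_long (hst : stableChk D = true) (L : List (Fin D.rank)) {s : Fin D.nroots}
    (hs : isLong D s.val = true) : isLong D (C.wperm L s).val = true := by
  simp only [stableChk, List.all_eq_true, List.mem_range] at hst
  induction L with
  | nil => simpa [H54.Ctx.wperm_nil] using hs
  | cons i L ih =>
    rw [C.wperm_cons, Equiv.Perm.mul_apply, C.sigma_val]
    have := hst _ (C.wperm L s).isLt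
    rw [if_pos ih] at this
    simp only [List.all_eq_true, List.mem_range] at this
    exact this i.val i.isLt

include C in
theorem wperm_pair (L : List (Fin D.rank)) (r s : Fin D.nroots) :
    pairInt D (C.wperm L r).val (C.wperm L s).val = pairInt D r.val s.val := by
  induction L with
  | nil => simp [H54.Ctx.wperm_nil]
  | cons i L ih =>
    rw [C.wperm_cons, Equiv.Perm.mul_apply, Equiv.Perm.mul_apply, C.sigma_val, C.sigma_val,
      C.hC.pairInt_reflect i.isLt (C.wperm L r).isLt (C.wperm L s).isLt, ih]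

include C in
/-- An element fixing all long root vectors lies in the Borel subgroup. -/
theorem borel_of_fixLong (hst : stableChk D = true) {g : GL D.Idx K} (hg : g ∈ D.group K) (hf : FixLong g) :
    g ∈ D.borelSubgroup K := by
  classical
  obtain ⟨u, hu, d, hd, L, v, hv, he⟩ := C.exists_nf hg
  have hN := C.hC.nroots_eq
  have hge : ∀ s : Fin D.nroots, isLong D s.val = true → s.val ≤ (C.wperm L s).val := by
    intro s hs
    obtain ⟨e, hee, hnv⟩ := vc_nw (K := K) C L s
    set t := C.wperm L s
    -- the coordinate at `t` of `n v e_s`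
    have hvs : vc D ((v : Matrix D.Idx D.Idx K).mulVec (bv D K s.val)) s.val = 1 := by
      rw [show (s.val : ℕ) = H52.code D (Sum.inr s : D.Idx) from rfl, vc_code, bv, basisVec_code,
        Matrix.mulVec_single_one, Matrix.col_apply]
      have := (C.hC.posUnipotent_le_uni (C.uinv_le _ hv)).1 (Sum.inr s) (Sum.inr s) (by omega)
      rwa [Matrix.sub_apply, sub_eq_zero, Matrix.one_apply_eq] at this
    have h1 : (H54.Ctx.nw D K L).1.mulVec ((v : Matrix D.Idx D.Idx K).mulVec (bv D K s.val)) =
        ((u * d)⁻¹ : GL D.Idx K).1.mulVec (bv D K s.val) := by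
      conv_rhs => rw [← hf s.val hs]
      rw [Matrix.mulVec_mulVec, Matrix.mulVec_mulVec, ← Units.val_mul, ← Units.val_mul, he]
      congr 2
      group
    have h2 : vc D (((u * d)⁻¹ : GL D.Idx K).1.mulVec (bv D K s.val)) t.val = e := by
      rw [← h1, hnv, hvs, mul_one]
    have he0 : e ≠ 0 := fun h => by rw [h] at hee; simp at hee
    rw [mul_inv_rev, Units.val_mul, ← Matrix.mulVec_mulVec, show (t.val : ℕ) = H52.code D (Sum.inr t : D.Idx) from rfl,
      vc_code] at h2
    obtain ⟨c, hc⟩ : ∃ c, H52.torus D c = d⁻¹ := by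
      have := inv_mem hd
      rw [C.hC.diagonalSubgroup_eq] at this
      exact this
    rw [← hc, torus_apply, coe_dgR, Matrix.mulVec_diagonal, bv,
      show basisVec D K s.val = Pi.single (Sum.inr s : D.Idx) 1 from basisVec_code (Sum.inr s : D.Idx),
      Matrix.mulVec_single_one, Matrix.col_apply] at h2
    by_contra hlt
    have hlev : lev D (Sum.inr t : D.Idx) < lev D (Sum.inr s : D.Idx) + 1 := by
      simp only [lev, Sum.elim_inr]
      split_ifs <;> omega
    have h3 := (C.hC.posUnipotent_le_uni (inv_mem hu)).1 (Sum.inr t) (Sum.inr s) hlev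
    rw [Matrix.sub_apply, sub_eq_zero, Matrix.one_apply_ne (fun e' => hlt (by
      have := congrArg Fin.val (Sum.inr_injective e'); omega))] at h3
    rw [h3, mul_zero] at h2
    exact he0 h2.symm
  have hfixL : ∀ s : Fin D.nroots, isLong D s.val = true → C.wperm L s = s := by
    intro s hs
    set w := C.wperm L
    have hl : ∀ k : ℕ, isLong D ((w ^ k) s).val = true := by
      intro k
      induction k with
      | zero => simpa using hs
      | succ k ih => rw [pow_succ', Equiv.Perm.mul_apply]; exact wperm_long C hst L ih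
    have hmono : ∀ k : ℕ, (w s).val ≤ ((w ^ (k + 1)) s).val := by
      intro k
      induction k with
      | zero => simp
      | succ k ih =>
        rw [pow_succ' w (k + 1), Equiv.Perm.mul_apply]
        exact le_trans ih (hge _ (hl _))
    obtain ⟨k, hk⟩ := Nat.exists_eq_succ_of_ne_zero (orderOf_pos w).ne'
    have h1 := hmono k
    rw [← Nat.succ_eq_add_one, ← hk, pow_orderOf_eq_one, Equiv.Perm.one_apply] at h1
    exact Fin.ext (le_antisymm h1 (hge s hs))
  have hfix : C.wperm L = 1 := by
    refine Equiv.ext fun r => ?_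
    rw [Equiv.Perm.one_apply]
    cases h : isLong D r.val
    · simp only [stableChk, List.all_eq_true, List.mem_range] at hst
      have := hst r.val r.isLt
      rw [h] at this
      simp only [Bool.false_eq_true, if_false, List.all_eq_true, List.mem_range, Bool.or_eq_true, beq_iff_eq,
        List.any_eq_true, Bool.and_eq_true, bne_iff_ne] at this
      rcases this _ (C.wperm L r).isLt with e | ⟨β, hβ, hl, hne⟩
      · exact Fin.ext e
      · exfalso
        apply hne
        have h1 := wperm_pair C L ⟨β, hβ⟩ r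
        rw [hfixL ⟨β, hβ⟩ hl] at h1
        exact h1.symm
    · exact hfixL r h
  have hv1 : v = 1 := by
    have : H54.Ctx.uinv D K (C.wperm L) = ⊥ := by
      rw [H54.Ctx.uinv, Subgroup.closure_eq_bot_iff]
      rintro g ⟨r, z, h1, h2, -⟩
      rw [hfix, Equiv.Perm.one_apply] at h2
      omega
    rwa [this, Subgroup.mem_bot] at hv
  rw [he, hv1, mul_one]
  exact mul_mem (mul_mem ((le_sup_left : _ ≤ D.borelSubgroup K) hu) ((le_sup_right : _ ≤ D.borelSubgroup K) hd))
    ((le_sup_right : _ ≤ D.borelSubgroup K) (C.nw_mem_diag hfix))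

include C in
/-- An element fixing all long root vectors lies in the torus. -/
theorem diag_of_fixLong (hst : stableChk D = true) {g : GL D.Idx K} (hg : g ∈ D.group K) (hf : FixLong g) :
    g ∈ D.diagonalSubgroup K := by
  obtain ⟨L₀, hL₀⟩ := C.exists_longest
  set n := H54.Ctx.nw D K L₀ with hn
  have h1 := borel_of_fixLong C hst hg hf
  have hf' : FixLong (n * g * n⁻¹) := by
    intro s hs
    have hs' := (show s < D.nroots by simp [isLong] at hs; exact hs.1)
    set r := C.wperm L₀.reverse ⟨s, hs'⟩ with hr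
    have hrl : isLong D r.val = true := wperm_long C hst _ (s := ⟨s, hs'⟩) hs
    obtain ⟨e, he, h, -⟩ := nw_act (K := K) C L₀ r
    have hrs : (C.wperm L₀ r).val = s := by
      rw [hr, C.wperm_reverse, Equiv.Perm.inv_def, Equiv.apply_symm_apply]
    rw [hrs, ← hn] at h
    have h' : (n⁻¹ : GL D.Idx K).1.mulVec (bv D K s) = e • bv D K r.val := by
      have : bv D K s = e • n.1.mulVec (bv D K r.val) := by rw [h, smul_smul, he, one_smul]
      rw [this, Matrix.mulVec_smul, Matrix.mulVec_mulVec, ← Units.val_mul, inv_mul_cancel, Units.val_one,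
        Matrix.one_mulVec]
    rw [Units.val_mul, Units.val_mul, ← Matrix.mulVec_mulVec, ← Matrix.mulVec_mulVec, h', Matrix.mulVec_smul,
      hf _ hrl, Matrix.mulVec_smul, h, smul_smul, he, one_smul]
  have h2 := borel_of_fixLong C hst (mul_mem (mul_mem (C.nw_mem L₀) hg) (inv_mem (C.nw_mem L₀))) hf'
  obtain ⟨u, hu, t, ht, rfl⟩ := C.mem_borel.1 h1
  have hmono : n ∈ D.monomialSubgroup K := by
    rw [hn, ← C.coe_nwG, H53.mem_monomial_iff C.hC C.W C.hok]
    exact C.nwG_mem_N L₀
  have hnt : n * t * n⁻¹ ∈ D.diagonalSubgroup K :=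
    (Subgroup.mem_normalizer_iff.1 (C.hC.monomial_le_normalizer hmono) t).1 ht
  have hnu : n * u * n⁻¹ ∈ D.borelSubgroup K ⊓ D.negUnipotent K := by
    refine Subgroup.mem_inf.2 ⟨?_, ?_⟩
    · have := mul_mem h2 (inv_mem ((le_sup_right : _ ≤ D.borelSubgroup K) hnt))
      rwa [show n * (u * t) * n⁻¹ * (n * t * n⁻¹)⁻¹ = n * u * n⁻¹ by group] at this
    · have hle : (D.posUnipotent K).map (MulAut.conj n).toMonoidHom ≤ D.negUnipotent K := by
        unfold ChevalleyDatum.posUnipotent
        rw [MonoidHom.map_closure, Subgroup.closure_le]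
        rintro _ ⟨y, ⟨r, z, hr, hy⟩, rfl⟩
        obtain ⟨hr1, hr2⟩ := (C.hC.isPosRoot_iff r).1 hr
        obtain ⟨e, -, he⟩ := C.nw_conj_rt (F := K) L₀ ⟨r, hr2⟩ z
        simp only [MulEquiv.coe_toMonoidHom, MulAut.conj_apply, C.hC.eq_rt hy, hn, SetLike.mem_coe] at he ⊢
        rw [he]
        exact C.hC.rt_mem_neg ((hL₀ ⟨r, hr2⟩).1 hr1) _
      exact hle ⟨u, hu, rfl⟩
  rw [C.hC.borel_inf_neg, Subgroup.mem_bot] at hnu
  have hu1 : u = 1 := by simpa using hnu
  rw [hu1, one_mul]
  exact ht

end rigid

theorem exists_frob {K : Type*} [Field K] [Fintype K] (F : Subfield K) :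
    ∃ σ : K ≃+* K, ∀ x, σ x = x ↔ x ∈ F := by
  classical
  obtain ⟨p, hp⟩ := CharP.exists K
  have := Fact.mk ((CharP.char_is_prime_or_zero K p).resolve_right (CharP.char_ne_zero_of_finite K p))
  have : CharP F p := F.subtype.charP F.subtype.injective p
  obtain ⟨n, -, hn⟩ := FiniteField.card F p
  refine ⟨RingEquiv.ofBijective (iterateFrobenius K p n)
    (Finite.injective_iff_bijective.1 (iterateFrobenius K p n).injective), fun x => ?_⟩
  show iterateFrobenius K p n x = x ↔ _
  rw [iterateFrobenius_def, ← hn]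
  constructor
  · intro hx
    set S := (Polynomial.X ^ Fintype.card F - Polynomial.X : Polynomial K).roots.toFinset
    have h1 : 1 < Fintype.card F := Fintype.one_lt_card
    have hne : (Polynomial.X ^ Fintype.card F - Polynomial.X : Polynomial K) ≠ 0 :=
      FiniteField.X_pow_card_sub_X_ne_zero K h1
    have hmem : ∀ y : K, y ∈ S ↔ y ^ Fintype.card F = y := fun y => by
      rw [Multiset.mem_toFinset, Polynomial.mem_roots hne]
      simp [sub_eq_zero]
    have hsub : (Finset.univ : Finset F).map ⟨Subtype.val, Subtype.val_injective⟩ ⊆ S := by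
      intro y hy
      obtain ⟨z, -, rfl⟩ := Finset.mem_map.1 hy
      rw [hmem]
      exact congrArg Subtype.val (FiniteField.pow_card z)
    have hcard : S.card ≤ Fintype.card F := by
      refine le_trans (Multiset.toFinset_card_le _) (le_trans (Polynomial.card_roots' _) ?_)
      rw [FiniteField.X_pow_card_sub_X_natDegree_eq K h1]
    have := (Finset.eq_of_subset_of_card_le hsub (by simpa using hcard)).symm ▸ (hmem x).2 hx
    obtain ⟨z, -, rfl⟩ := Finset.mem_map.1 this
    exact z.2
  · intro hx
    exact congrArg Subtype.val (FiniteField.pow_card (⟨x, hx⟩ : F))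

/-- All entries of the elements of `H` lie in `F`. -/
theorem Ov.entries_mem {D : ChevalleyDatum} {K : Type*} [Field K] [Fintype K] (O : Ov D K)
    (hD : D ∈ [chevG2, chevB2, chevD4, chevF4, chevE6, chevE7, chevE8]) {g : GL D.Idx K} (hg : g ∈ O.H)
    (i j : D.Idx) : (g : Matrix D.Idx D.Idx K) i j ∈ O.F := by
  classical
  obtain ⟨σ, hσ⟩ := exists_frob O.F
  set S := H54.glF D σ.toRingHom with hS
  have hSG : ∀ x ∈ D.group K, S x ∈ D.group K := fun x hx =>
    O.C.glF_group_le σ.toRingHom ⟨x, hx, rfl⟩
  have hst := stable_of_mem hD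
  have hdiag : ∀ h ∈ O.H, h⁻¹ * S h ∈ D.diagonalSubgroup K := by
    intro h hh
    refine diag_of_fixLong O.C hst (mul_mem (inv_mem (O.hH hh)) (hSG _ (O.hH hh))) fun s hs => ?_
    obtain ⟨L, hL⟩ := O.exists_word_top hs
    obtain ⟨e, he, hn1, -⟩ := nw_act (K := K) O.C L ⟨D.nroots - 1, O.top_lt⟩
    rw [hL] at hn1
    have heF : e ∈ O.F := by
      rcases mul_self_eq_one_iff.1 he with rfl | rfl
      exacts [one_mem _, neg_mem (one_mem _)]
    have hrat : ∀ x, (h : Matrix D.Idx D.Idx K).mulVec (bv D K s) x ∈ O.F := by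
      intro x
      have h1 : bv D K s = e • (H54.Ctx.nw D K L).1.mulVec (bv D K (D.nroots - 1)) := by
        rw [hn1, smul_smul, he, one_smul]
      rw [h1, Matrix.mulVec_smul, Matrix.mulVec_mulVec, ← Units.val_mul, Pi.smul_apply, smul_eq_mul]
      exact mul_mem heF (O.vec_mem hD (mul_mem hh (O.nw_mem L)) x)
    have hSv : (S h : Matrix D.Idx D.Idx K).mulVec (bv D K s) = (h : Matrix D.Idx D.Idx K).mulVec (bv D K s) := by
      funext x
      have h1 := (hσ _).2 (hrat x)
      rw [hS, H54.coe_glF]
      rw [Matrix.mulVec, dotProduct, map_sum] at h1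
      rw [Matrix.mulVec, dotProduct, Matrix.mulVec, dotProduct]
      conv_rhs => rw [← h1]
      refine Finset.sum_congr rfl fun y _ => ?_
      rw [map_mul, Matrix.map_apply]
      congr 1
      rcases y with y | y <;> simp only [bv, basisVec, Sum.elim_inl, Sum.elim_inr] <;> split_ifs <;> simp
    rw [Units.val_mul, ← Matrix.mulVec_mulVec, hSv, Matrix.mulVec_mulVec, ← Units.val_mul, inv_mul_cancel,
      Units.val_one, Matrix.one_mulVec]
  obtain ⟨c, hc⟩ : ∃ c, H52.torus D c = g⁻¹ * S g := by
    have := hdiag g hg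
    rw [O.C.hC.diagonalSubgroup_eq] at this
    exact this
  have hcomm : ∀ r < D.nroots, g⁻¹ * S g * rt D r (1 : K) = rt D r 1 * (g⁻¹ * S g) := by
    intro r hr
    set h := g * rt D r (1 : K) * g⁻¹
    have hh : h ∈ O.H := mul_mem (mul_mem hg (O.hone r hr)) (inv_mem hg)
    set χ : K := ((∏ i : Fin D.rank, c i ^ D.cartan i.val r : Kˣ) : K) with hχ
    have hconj : g⁻¹ * S g * rt D r (1 : K) * (g⁻¹ * S g)⁻¹ = rt D r χ := by
      rw [← hc, O.C.hC.torus_conj_rt c hr, mul_one]
    have hSh : h⁻¹ * S h = g * rt D r (χ - 1) * g⁻¹ := by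
      simp only [h, map_mul, map_inv, hS, O.C.glF_rt, map_one]
      rw [← hS, sub_eq_neg_add, ← O.C.hC.rt_mul, ← O.C.hC.rt_inv, ← hconj]
      group
    obtain ⟨c', hc'⟩ : ∃ c', H52.torus D c' = h⁻¹ * S h := by
      have := hdiag h hh
      rw [O.C.hC.diagonalSubgroup_eq] at this
      exact this
    obtain ⟨p, hp⟩ := CharP.exists K
    have := Fact.mk ((CharP.char_is_prime_or_zero K p).resolve_right (CharP.char_ne_zero_of_finite K p))
    have hpow : ∀ (m : ℕ), rt D r (χ - 1) ^ m = rt D r ((m : K) * (χ - 1)) := by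
      intro m
      induction m with
      | zero => simp [O.C.hC.rt_zero]
      | succ m ih => rw [pow_succ, ih, O.C.hC.rt_mul]; push_cast; ring_nf
    have h1 : H52.torus D c' ^ p = 1 := by
      rw [hc', hSh, conj_pow, hpow, CharP.cast_eq_zero, zero_mul, O.C.hC.rt_zero]
      group
    have h2 : H52.torus D c' = 1 := by
      rw [← map_pow, torus_apply] at h1
      rw [torus_apply]
      apply Units.ext
      have h3 := congrArg (fun g : GL D.Idx K => (g : Matrix D.Idx D.Idx K)) h1
      simp only [coe_dgR, Units.val_one] at h3 ⊢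
      rw [← Matrix.diagonal_one] at h3 ⊢
      congr 1
      funext x
      rcases x with j | s
      · rfl
      · have h4 : ((∏ i : Fin D.rank, (c' ^ p) i ^ D.cartan i.val s.val : Kˣ) : K) = 1 :=
          congrFun (Matrix.diagonal_injective h3) (Sum.inr s)
        simp only [Sum.elim_inr]
        have h5 : (∏ i : Fin D.rank, (c' ^ p) i ^ D.cartan i.val s.val : Kˣ) =
            (∏ i : Fin D.rank, c' i ^ D.cartan i.val s.val) ^ p := by
          rw [← Finset.prod_pow]
          refine Finset.prod_congr rfl fun i _ => ?_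
          rw [Pi.pow_apply, ← zpow_natCast, ← zpow_natCast, ← zpow_mul, ← zpow_mul, mul_comm]
        rw [h5, Units.val_pow_eq_pow_val] at h4
        have h6 : (((∏ i : Fin D.rank, c' i ^ D.cartan i.val s.val : Kˣ) : K) - 1) ^ p = 0 := by
          rw [sub_pow_char, h4, one_pow, sub_self]
        exact sub_eq_zero.1 ((pow_eq_zero_iff (Fact.out (p := p.Prime)).ne_zero).1 h6)
    rw [h2, hSh, eq_comm, mul_inv_eq_one, mul_eq_left] at hc'
    have h7 : χ - 1 = 0 := O.C.hC.rt_injective hr (hc'.trans (O.C.hC.rt_zero r).symm)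
    rw [sub_eq_zero.1 h7, mul_inv_eq_iff_eq_mul] at hconj
    exact hconj
  have hg1 := O.C.eq_one_of_commute (mul_mem (inv_mem (O.hH hg)) (hSG _ (O.hH hg))) hcomm
  rw [inv_mul_eq_one] at hg1
  rw [← hσ]
  conv_rhs => rw [hg1]
  rfl

end H66.Subfield
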