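import Cfsg.Agent.H54.ChevRigid
import Cfsg.Agent.H54.WordRefl

/-!
Coordinates of images of root elements, and the frame of a highest root vector: if the coordinate at `-α` of
`g e_α` is `c ≠ 0` then `g e_α = c u e_{-α}` and `g x_α(t) g⁻¹ = u x_{-α}(c t) u⁻¹` with `u` in the unipotent
radical `Q` of the parabolic of `α`.
-/

set_option autoImplicit false
set_option linter.unusedSectionVars false

open Cfsg.Lie H52
open scoped MatrixGroups

namespace H66.Subfield

variable (D : ChevalleyDatum) {K : Type*} [Field K]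

/-- The coordinate with code `n`. -/
def vc (v : D.Idx → K) (n : ℕ) : K :=
  if h : n < D.nroots then v (Sum.inr ⟨n, h⟩)
  else if h' : n - D.nroots < D.rank then v (Sum.inl ⟨n - D.nroots, h'⟩) else 0

theorem vc_code (v : D.Idx → K) (x : D.Idx) : vc D v (H52.code D x) = v x := by
  rcases x with m | s
  · have h1 : ¬ D.nroots + m.val < D.nroots := by omega
    have h2 : D.nroots + m.val - D.nroots < D.rank := by have := m.isLt; omega
    show vc D v (D.nroots + m.val) = _
    unfold vc
    rw [dif_neg h1, dif_pos h2]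
    congr 2
    exact Fin.ext (by simp)
  · show vc D v s.val = _
    unfold vc
    rw [dif_pos s.isLt]

/-- The entries (coordinate, exponent, coefficient) of the chain part of the row `L` of `x_r(t)`. -/
def rowS (r L : ℕ) : List (ℕ × ℕ × ℤ) :=
  ((D.chain.getD r #[]).toList.filter fun e => decide (e.1 < D.nroots) && e.1 != r && e.1 != D.neg r).flatMap
    fun e => ((e.2.toList.zipIdx).filter (fun q => q.1.1 = L)).map fun q => (e.1, q.2 + 1, q.1.2)

/-- The value of a row. -/
def rowVal (l : List (ℕ × ℕ × ℤ)) (t : K) (v : D.Idx → K) : K :=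
  (l.map fun e => (e.2.2 : K) * t ^ e.2.1 * vc D v e.1).sum

/-- The level of a root with respect to the highest root. -/
def lvl (r : ℕ) : ℤ := pairInt D (D.nroots - 1) r

/-- The short roots of `B₂`, `G₂`, `F₄`, as a bit mask. -/
def shortMask : ℕ :=
  if D.nroots = 8 then 102 else if D.nroots = 12 then 924 else
    if D.nroots = 48 ∧ D.rank = 4 then 19783560757128 else 0

/-- A long root. -/
def isLong (β : ℕ) : Bool := decide (β < D.nroots) && !((shortMask D).testBit β)

/-- A root of the radical. -/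
def inQ (r : ℕ) : Bool := decide (D.nroots / 2 ≤ r) && decide (r < D.nroots) && decide (1 ≤ lvl D r)

/-- A root of level one. -/
def inQ1 (r : ℕ) : Bool := decide (D.nroots / 2 ≤ r) && decide (r < D.nroots) && decide (lvl D r = 1)

/-- The basic facts about levels. -/
def lvlChk : Bool :=
  decide (2 ≤ D.nroots) && (isLong D (D.nroots - 1) && (rowS D (D.nroots - 1) (D.nroots - 1)).isEmpty) &&
    decide (lvl D (D.nroots - 1) = 2) &&
    (List.range' (D.nroots / 2) (D.nroots - D.nroots / 2)).all fun r =>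
      decide (0 ≤ lvl D r) && (r == D.nroots - 1 || decide (lvl D r ≤ 1))

/-- The radical. -/
noncomputable def radQ (K : Type*) [Field K] : Subgroup (GL D.Idx K) :=
  Subgroup.closure {g | ∃ (r : ℕ) (t : K), inQ D r = true ∧ g = H52.rt D r t}

/-- The positive unipotent part of the Levi complement. -/
noncomputable def levU (K : Type*) [Field K] : Subgroup (GL D.Idx K) :=
  Subgroup.closure {g | ∃ (r : ℕ) (t : K), D.nroots / 2 ≤ r ∧ r < D.nroots ∧ lvl D r = 0 ∧ g = H52.rt D r t}

/-- The highest root vector. -/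
def eTop (K : Type*) [Field K] : D.Idx → K := bv D K (D.nroots - 1)

/-- The image of the highest root vector. -/
def vec {D : ChevalleyDatum} (g : GL D.Idx K) : D.Idx → K :=
  (g : Matrix D.Idx D.Idx K).mulVec (eTop D K)

variable {D}

theorem row_apply {T : Tables} (hC : Checked D T) {r L : ℕ} (hr : r < D.nroots) (hL : L < D.nroots) (t : K)
    (v : D.Idx → K) :
    vc D ((rt D r t : GL D.Idx K).1.mulVec v) L = vc D v L + rowVal D (rowS D r L) t v +
      if L = r then -((∑ i : Fin D.rank, (D.cartan i.val r : K) * vc D v (D.nroots + i.val)) * t) -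
        t ^ 2 * vc D v (D.neg r) else 0 := by
  classical
  have hneg : D.neg r < D.nroots := hC.neg_lt hr
  have hne : D.neg r ≠ r := hC.neg_ne hr
  have hvi : ∀ i : Fin D.rank, vc D v (D.nroots + i.val) = v (Sum.inl i) := fun i => vc_code D v (Sum.inl i)
  have hvs : ∀ s : Fin D.nroots, vc D v s.val = v (Sum.inr s) := fun s => vc_code D v (Sum.inr s)
  rw [vc, dif_pos hL, hC.coe_rt, ChevalleyDatum.x, dif_pos hr, Matrix.mulVec, dotProduct, Fintype.sum_sum_type]
  have h1 : ∀ i : Fin D.rank, D.xMat K ⟨r, hr⟩ t (Sum.inr ⟨L, hL⟩) (Sum.inl i) * v (Sum.inl i) =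
      if L = r then -((D.cartan i.val r : K) * vc D v (D.nroots + i.val)) * t else 0 := by
    intro i
    simp only [ChevalleyDatum.xMat, Matrix.of_apply, Fin.mk.injEq, ChevalleyDatum.cartan]
    split_ifs
    · rw [hvi]; ring
    · simp
  have h2 : ∀ s : Fin D.nroots, D.xMat K ⟨r, hr⟩ t (Sum.inr ⟨L, hL⟩) (Sum.inr s) * v (Sum.inr s) =
      (if s.val = L then vc D v L else 0) +
      (if s.val = D.neg r ∧ L = r then -(t ^ 2) * vc D v (D.neg r) else 0) +
      (if s.val = r ∨ s.val = D.neg r then 0 else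
        ((D.chainCoeff r s.val L).map fun km => (km.2 : K) * t ^ km.1 * vc D v s.val).sum) := by
    intro s
    simp only [ChevalleyDatum.xMat, Matrix.of_apply, Fin.ext_iff]
    by_cases e1 : s.val = r
    · rw [if_pos e1, if_neg (fun e : s.val = D.neg r ∧ _ => hne (by omega)), if_pos (Or.inl e1)]
      by_cases e2 : L = r
      · rw [if_pos e2, if_pos (by omega), one_mul, ← hvs, add_zero, add_zero]; congr 1; omega
      · rw [if_neg e2, if_neg (by omega)]; simp
    · rw [if_neg e1]
      by_cases e3 : s.val = D.neg r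
      · have e3' : s.val = D.negIdx.getD r 0 := e3
        rw [if_pos e3', if_pos (Or.inr e3), add_zero]
        by_cases e4 : L = s.val
        · rw [if_pos e4, if_pos e4.symm, if_neg (by omega), one_mul, add_zero, ← hvs, e4]
        · rw [if_neg e4, if_neg (fun e : s.val = L => e4 e.symm), zero_add]
          by_cases e5 : L = r
          · rw [if_pos e5, if_pos ⟨e3, e5⟩, ← hvs, e3]
          · rw [if_neg e5, if_neg (fun e : s.val = D.neg r ∧ L = r => e5 e.2)]; simp
      · have e3' : ¬ s.val = D.negIdx.getD r 0 := e3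
        rw [if_neg e3', if_neg (fun e : s.val = D.neg r ∧ L = r => e3 e.1), add_zero,
          if_neg (not_or.2 ⟨e1, e3⟩),
          add_mul, ← List.sum_map_mul_right]
        congr 1
        · by_cases e4 : L = s.val
          · rw [if_pos e4, if_pos e4.symm, one_mul, ← hvs, e4]
          · rw [if_neg e4, if_neg (fun e : s.val = L => e4 e.symm), zero_mul]
        · simp only [hvs]
  simp only [h1, h2, Finset.sum_add_distrib]
  have hA : (∑ s : Fin D.nroots, if s.val = L then vc D v L else 0) = vc D v L := by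
    rw [Finset.sum_eq_single (⟨L, hL⟩ : Fin D.nroots) (fun b _ hb => if_neg (fun e => hb (Fin.ext e)))
      (fun h => absurd (Finset.mem_univ _) h), if_pos rfl]
  have hB : (∑ s : Fin D.nroots, if s.val = D.neg r ∧ L = r then -(t ^ 2) * vc D v (D.neg r) else 0) =
      if L = r then -(t ^ 2) * vc D v (D.neg r) else 0 := by
    rw [Finset.sum_eq_single (⟨D.neg r, hneg⟩ : Fin D.nroots)
      (fun b _ hb => if_neg (fun e => hb (Fin.ext e.1))) (fun h => absurd (Finset.mem_univ _) h)]
    simp
  have hD : (∑ s : Fin D.nroots, if s.val = r ∨ s.val = D.neg r then 0 else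
      ((D.chainCoeff r s.val L).map fun km => (km.2 : K) * t ^ km.1 * vc D v s.val).sum) =
      rowVal D (rowS D r L) t v := by
    simp only [rowVal, rowS, ChevalleyDatum.chainCoeff]
    induction (D.chain.getD r #[]).toList with
    | nil => simp
    | cons a l ih =>
      by_cases hok : a.1 < D.nroots ∧ a.1 ≠ r ∧ a.1 ≠ D.neg r
      · obtain ⟨k1, k2, k3⟩ := hok
        rw [List.filter_cons_of_pos (by simp [k1, k2, k3]), List.flatMap_cons, List.map_append, List.sum_append,
          ← ih, ← Finset.sum_erase_add _ _ (Finset.mem_univ (⟨a.1, k1⟩ : Fin D.nroots)),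
          ← Finset.sum_erase_add _ _ (Finset.mem_univ (⟨a.1, k1⟩ : Fin D.nroots))]
        rw [if_neg (by rintro (h | h) <;> contradiction), if_neg (by rintro (h | h) <;> contradiction),
          List.filter_cons_of_pos (by simp), List.flatMap_cons, List.map_append, List.sum_append,
          List.map_map, List.map_map]
        rw [Finset.sum_congr rfl fun b hb => by
          rw [List.filter_cons_of_neg (by
            have := Finset.ne_of_mem_erase hb
            simp only [ne_eq, Fin.ext_iff] at this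
            simp [Ne.symm this])]]
        simp only [Function.comp_def]
        ring
      · rw [List.filter_cons_of_neg (by simp; tauto), ← ih]
        refine Finset.sum_congr rfl fun b _ => ?_
        split_ifs with hb
        · rfl
        · rw [List.filter_cons_of_neg (by
            simp only [decide_eq_true_eq]
            intro e
            exact hok ⟨e ▸ b.isLt, e ▸ fun h => hb (Or.inl h), e ▸ fun h => hb (Or.inr h)⟩)]
  rw [hA, hB, hD]
  split_ifs with hLr
  · rw [Finset.sum_mul, ← Finset.sum_neg_distrib, Finset.sum_congr rfl fun i _ => (neg_mul _ t)]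
    ring
  · simp

theorem vec_mul (g h : GL D.Idx K) : vec (g * h) = (g : Matrix D.Idx D.Idx K).mulVec (vec h) := by
  rw [vec, vec, Matrix.mulVec_mulVec, ← Units.val_mul]

theorem inQ_iff {r : ℕ} : inQ D r = true ↔ D.nroots / 2 ≤ r ∧ r < D.nroots ∧ 1 ≤ lvl D r := by
  simp [inQ, and_assoc]

theorem inQ1_iff {r : ℕ} : inQ1 D r = true ↔ D.nroots / 2 ≤ r ∧ r < D.nroots ∧ lvl D r = 1 := by
  simp [inQ1, and_assoc]

theorem rt_mem_radQ {r : ℕ} (h : inQ D r = true) (t : K) : rt D r t ∈ radQ D K :=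
  Subgroup.subset_closure ⟨r, t, h, rfl⟩

section lvlfacts

variable (h : lvlChk D = true)
include h

theorem two_le_nroots : 2 ≤ D.nroots := by
  simp only [lvlChk, Bool.and_eq_true, decide_eq_true_eq] at h; exact h.1.1.1

theorem long_top : isLong D (D.nroots - 1) = true := by
  simp only [lvlChk, Bool.and_eq_true] at h; exact h.1.1.2.1

theorem rowS_top : rowS D (D.nroots - 1) (D.nroots - 1) = [] := by
  simp only [lvlChk, Bool.and_eq_true, List.isEmpty_iff] at h; exact h.1.1.2.2

theorem lvl_top : lvl D (D.nroots - 1) = 2 := by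
  simp only [lvlChk, Bool.and_eq_true, decide_eq_true_eq] at h; exact h.1.2

theorem top_inQ : inQ D (D.nroots - 1) = true := by
  have := two_le_nroots h
  rw [inQ_iff, lvl_top h]; omega

theorem lvl_spec {r : ℕ} (hr : D.nroots / 2 ≤ r) (hr' : r < D.nroots) :
    0 ≤ lvl D r ∧ (r ≠ D.nroots - 1 → lvl D r ≤ 1) := by
  simp only [lvlChk, Bool.and_eq_true, List.all_eq_true, Bool.or_eq_true, decide_eq_true_eq,
    beq_iff_eq, List.mem_range'_1] at h
  obtain ⟨h1, h2⟩ := h.2 r ⟨hr, by omega⟩
  exact ⟨h1, fun hn => h2.resolve_left hn⟩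

theorem lvl_zero_ne {r : ℕ} (h0 : lvl D r = 0) : r ≠ D.nroots - 1 := by
  rintro rfl; rw [lvl_top h] at h0; omega

theorem inQ_cases {r : ℕ} (hr : inQ D r = true) : r = D.nroots - 1 ∨ inQ1 D r = true := by
  obtain ⟨h1, h2, h3⟩ := inQ_iff.1 hr
  by_cases hn : r = D.nroots - 1
  · exact Or.inl hn
  · exact Or.inr (inQ1_iff.2 ⟨h1, h2, le_antisymm ((lvl_spec h h1 h2).2 hn) h3⟩)

variable (C : H54.Ctx D)
include C

theorem lvl_lin {x a b : ℕ} (i j : ℤ) (hx : x < D.nroots) (ha : a < D.nroots) (hb : b < D.nroots)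
    (hco : ∀ m < D.rank, C.T.co x m = i * C.T.co a m + j * C.T.co b m) :
    lvl D x = i * lvl D a + j * lvl D b ∧
      keyOf D.rank (C.T.co x) = i * keyOf D.rank (C.T.co a) + j * keyOf D.rank (C.T.co b) := by
  refine ⟨?_, ?_⟩
  · simp only [lvl, C.hC.pairInt_eq_sum, Finset.mul_sum, ← Finset.sum_add_distrib]
    refine Finset.sum_congr rfl fun m hm => ?_
    rw [C.hC.cartan_eq hx (Finset.mem_range.1 hm), C.hC.cartan_eq ha (Finset.mem_range.1 hm),
      C.hC.cartan_eq hb (Finset.mem_range.1 hm), Finset.mul_sum, Finset.mul_sum, Finset.mul_sum, Finset.mul_sum,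
      Finset.mul_sum, ← Finset.sum_add_distrib]
    exact Finset.sum_congr rfl fun n hn => by rw [hco n (Finset.mem_range.1 hn)]; ring
  · have h0 : ∀ l : ℕ, keyOf l (fun _ => (0 : ℤ)) = 0 := by
      intro l
      induction l with
      | zero => rfl
      | succ l ih =>
        simp only [keyOf, List.range_succ, List.foldl_append, List.foldl_cons, List.foldl_nil] at *
        rw [ih]; ring
    have e : keyOf D.rank (C.T.co x) = keyOf D.rank (fun m => (0 + i * C.T.co a m) + j * C.T.co b m) :=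
      H52.Checked.keyOf_congr D.rank _ _ fun m hm => by rw [hco m hm]; ring
    rw [e, H52.Checked.keyOf_add_smul D.rank (fun m => 0 + i * C.T.co a m) (C.T.co b) j,
      H52.Checked.keyOf_add_smul D.rank (fun _ => 0) (C.T.co a) i, h0]
    ring

theorem lvl_neg_root {x : ℕ} (hx : x < D.nroots) :
    lvl D (D.neg x) = -lvl D x ∧ keyOf D.rank (C.T.co (D.neg x)) = -keyOf D.rank (C.T.co x) := by
  have := lvl_lin h C (-1) 0 (C.hC.neg_lt hx) hx hx fun m hm => by rw [C.hC.co_neg hx hm]; ring
  simpa using this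

theorem inQ_comm {r : ℕ} (hr : D.nroots / 2 ≤ r) (hr' : r < D.nroots) (q : ℕ) (hq : inQ D q = true)
    (c : ℕ × ℤ × ℕ × ℕ) (hc : c ∈ D.commTerms r q) : inQ D c.1 = true := by
  obtain ⟨q1, q2, q3⟩ := inQ_iff.1 hq
  obtain ⟨hi, hj, hco⟩ := C.hC.commTerms_co hr' q2 c hc
  have hlt := C.hC.commTerms_lt c hc
  obtain ⟨hl, hk⟩ := lvl_lin h C _ _ hlt hr' q2 hco
  have hkr := (C.hC.key_pos_iff hr').2 hr
  have hkq := (C.hC.key_pos_iff q2).2 q1
  have hr0 := (lvl_spec h hr hr').1
  have hi' : (1 : ℤ) ≤ c.2.2.1 := by exact_mod_cast hi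
  have hj' : (1 : ℤ) ≤ c.2.2.2 := by exact_mod_cast hj
  have hpos : D.nroots / 2 ≤ c.1 := (C.hC.key_pos_iff hlt).1 (by nlinarith)
  exact inQ_iff.2 ⟨hpos, hlt, by nlinarith⟩

theorem comm_top {r : ℕ} (hr : D.nroots / 2 ≤ r) (hr' : r < D.nroots) :
    D.commTerms r (D.nroots - 1) = [] := by
  have h2 := two_le_nroots h
  have hT : D.nroots - 1 < D.nroots := by omega
  refine List.eq_nil_iff_forall_not_mem.2 fun c hc => ?_
  obtain ⟨hi, hj, hco⟩ := C.hC.commTerms_co hr' hT c hc
  have hlt := C.hC.commTerms_lt c hc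
  obtain ⟨hl, hk⟩ := lvl_lin h C _ _ hlt hr' hT hco
  have hkr := (C.hC.key_pos_iff hr').2 hr
  have hkt := (C.hC.key_pos_iff hT).2 (by omega)
  have hr0 := (lvl_spec h hr hr').1
  rw [lvl_top h] at hl
  have hi' : (1 : ℤ) ≤ c.2.2.1 := by exact_mod_cast hi
  have hj' : (1 : ℤ) ≤ c.2.2.2 := by exact_mod_cast hj
  have hpos : D.nroots / 2 ≤ c.1 := (C.hC.key_pos_iff hlt).1 (by nlinarith)
  by_cases hn : c.1 = D.nroots - 1
  · rw [hn] at hk; nlinarith
  · have := (lvl_spec h hpos hlt).2 hn; nlinarith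

theorem lvl_zero_bot {r : ℕ} (hr : D.nroots / 2 ≤ r) (hr' : r < D.nroots) (h0 : lvl D r = 0) :
    D.chainEntry r 0 = [] ∧ D.commTerms r 0 = [] := by
  have h2 := two_le_nroots h
  have hT : D.nroots - 1 < D.nroots := by omega
  have hb : (0 : ℕ) < D.nroots := by omega
  have hneg : D.neg (D.nroots - 1) = 0 := by rw [C.hC.neg_eq hT]; omega
  have hl0 : lvl D 0 = -2 := by rw [← hneg, (lvl_neg_root h C hT).1, lvl_top h]
  have hkr := (C.hC.key_pos_iff hr').2 hr
  have key : ∀ x, x < D.nroots → lvl D x ≤ -2 → x = 0 := by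
    intro x hx hl
    by_cases hp : D.nroots / 2 ≤ x
    · have := (lvl_spec h hp hx).1; omega
    · by_contra hne
      have hnx := C.hC.neg_eq hx
      have hh := lvl_spec h (r := D.neg x) (by have := C.hC.nroots_eq; omega) (C.hC.neg_lt hx)
      have := hh.2 (by omega)
      rw [(lvl_neg_root h C hx).1] at this
      omega
  constructor
  · refine List.eq_nil_iff_forall_not_mem.2 fun e he => ?_
    obtain ⟨k, hk⟩ := List.mem_iff_getElem?.1 he
    have hlt := C.hC.target_lt he
    obtain ⟨hl, hkey⟩ := lvl_lin h C 1 ((k + 1 : ℕ) : ℤ) hlt hb hr' fun m hm => by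
      rw [C.hC.co_chain hr' hk hm]; ring
    rw [h0, hl0] at hl
    have he0 := key e.1 hlt (by omega)
    rw [he0] at hkey
    push_cast at hkey
    nlinarith
  · refine List.eq_nil_iff_forall_not_mem.2 fun c hc => ?_
    obtain ⟨hi, hj, hco⟩ := C.hC.commTerms_co hr' hb c hc
    have hlt := C.hC.commTerms_lt c hc
    obtain ⟨hl, hk⟩ := lvl_lin h C _ _ hlt hr' hb hco
    rw [h0, hl0] at hl
    have hi' : (1 : ℤ) ≤ c.2.2.1 := by exact_mod_cast hi
    have hj' : (1 : ℤ) ≤ c.2.2.2 := by exact_mod_cast hj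
    have hc0 := key c.1 hlt (by omega)
    rw [hc0, hl0] at hl
    rw [hc0] at hk
    have hj1 : (c.2.2.2 : ℤ) = 1 := by omega
    rw [hj1] at hk
    nlinarith

theorem levU_le_normalizer : levU D K ≤ Subgroup.normalizer (radQ D K : Set (GL D.Idx K)) := by
  have key : ∀ r, D.nroots / 2 ≤ r → r < D.nroots → lvl D r = 0 → ∀ (t : K) (x : GL D.Idx K), x ∈ radQ D K →
      (rt D r t)⁻¹ * x * rt D r t ∈ radQ D K := by
    intro r hr hr' h0 t x hx
    induction hx using Subgroup.closure_induction with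
    | mem y hy =>
      obtain ⟨q, u, hq, rfl⟩ := hy
      have hq' := inQ_iff.1 hq
      have hne : q ≠ r := by rintro rfl; omega
      have hneg : q ≠ D.neg r := by
        have := C.hC.neg_eq hr'
        have := C.hC.nroots_eq
        omega
      rw [mul_assoc, C.hC.comm_rt hr' hq'.2.1 hne hneg (F := K) t u, ← mul_assoc, inv_mul_cancel_left]
      refine mul_mem (rt_mem_radQ hq u) (H52.Checked.wordRt_mem _ _ fun p hp => ?_)
      simp only [ChevalleyDatum.commWord, List.mem_map] at hp
      obtain ⟨c, hc', rfl⟩ := hp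
      exact rt_mem_radQ (inQ_comm h C hr hr' q hq c hc') _
    | one => simp
    | mul a b _ _ iha ihb =>
      rw [show (rt D r t)⁻¹ * (a * b) * rt D r t = (rt D r t)⁻¹ * a * rt D r t * ((rt D r t)⁻¹ * b * rt D r t) by
        group]
      exact mul_mem iha ihb
    | inv a _ iha =>
      rw [show (rt D r t)⁻¹ * a⁻¹ * rt D r t = ((rt D r t)⁻¹ * a * rt D r t)⁻¹ by group]
      exact inv_mem iha
  rw [levU, Subgroup.closure_le]
  rintro g ⟨r, t, hr, hr', h0, rfl⟩
  rw [SetLike.mem_coe, Subgroup.mem_normalizer_iff]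
  intro x
  constructor
  · intro hx
    have := key r hr hr' h0 (-t) _ hx
    rwa [← C.hC.rt_inv, inv_inv] at this
  · intro hx
    have := key r hr hr' h0 t _ hx
    rwa [show (rt D r t)⁻¹ * (rt D r t * x * (rt D r t)⁻¹) * rt D r t = x by group] at this

theorem pos_le_levU_sup : D.posUnipotent K ≤ levU D K ⊔ radQ D K := by
  unfold ChevalleyDatum.posUnipotent
  rw [Subgroup.closure_le]
  rintro g ⟨r, t, hr, hg⟩
  obtain ⟨hr1, hr2⟩ := (C.hC.isPosRoot_iff r).1 hr
  rw [C.hC.eq_rt hg]
  by_cases h0 : lvl D r = 0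
  · exact Subgroup.mem_sup_left (Subgroup.subset_closure ⟨r, t, hr1, hr2, h0, rfl⟩)
  · exact Subgroup.mem_sup_right (rt_mem_radQ (inQ_iff.2 ⟨hr1, hr2, by have := (lvl_spec h hr1 hr2).1; omega⟩) t)

theorem pos_split {u : GL D.Idx K} (hu : u ∈ D.posUnipotent K) :
    ∃ q ∈ radQ D K, ∃ l ∈ levU D K, u = q * l := by
  have := pos_le_levU_sup h C (inv_mem hu)
  rw [← SetLike.mem_coe, Subgroup.coe_mul_of_left_le_normalizer_right _ _ (levU_le_normalizer h C)] at this
  obtain ⟨l, hl, q, hq, e⟩ := this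
  refine ⟨q⁻¹, inv_mem hq, l⁻¹, inv_mem hl, ?_⟩
  rw [← mul_inv_rev, show l * q = u⁻¹ from e, inv_inv]

theorem radQ_le_pos : radQ D K ≤ D.posUnipotent K := by
  rw [radQ, Subgroup.closure_le]
  rintro g ⟨r, t, hr, rfl⟩
  exact C.hC.rt_mem_pos (inQ_iff.1 hr).1 (inQ_iff.1 hr).2.1 t

theorem levU_fix {l : GL D.Idx K} (hl : l ∈ levU D K) :
    (l : Matrix D.Idx D.Idx K).mulVec (bv D K 0) = bv D K 0 ∧
      ∀ t : K, l * rt D 0 t * l⁻¹ = rt D 0 t := by
  have h2 := two_le_nroots h
  induction hl using Subgroup.closure_induction with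
  | mem y hy =>
    obtain ⟨r, u, hr1, hr2, h0, rfl⟩ := hy
    have hn : (0 : ℕ) ≠ D.neg r := by
      have := C.hC.neg_eq hr2
      have := lvl_zero_ne h h0
      omega
    have hr0 : (0 : ℕ) ≠ r := by omega
    obtain ⟨hc1, hc2⟩ := lvl_zero_bot h C hr1 hr2 h0
    refine ⟨?_, fun t => ?_⟩
    · rw [C.hC.coe_rt, C.hC.x_bv_other hr2 u (by omega) hr0 hn, hc1]
      simp [chainVec]
    · have hc := C.hC.comm_rt hr2 (show 0 < D.nroots by omega) hr0 hn u t
      rw [show D.commWord K r 0 u t = [] by simp [ChevalleyDatum.commWord, hc2]] at hc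
      simp only [wordRt, List.map_nil, List.prod_nil, mul_one] at hc
      rw [← hc, mul_inv_cancel_right]
  | one => exact ⟨by simp, fun t => by group⟩
  | mul a b _ _ iha ihb =>
    refine ⟨?_, fun t => ?_⟩
    · rw [Units.val_mul, ← Matrix.mulVec_mulVec, ihb.1, iha.1]
    · rw [show a * b * rt D 0 t * (a * b)⁻¹ = a * (b * rt D 0 t * b⁻¹) * a⁻¹ by group, ihb.2, iha.2]
  | inv a _ iha =>
    refine ⟨?_, fun t => ?_⟩
    · conv_lhs => rw [← iha.1]
      rw [Matrix.mulVec_mulVec, ← Units.val_mul, inv_mul_cancel, Units.val_one, Matrix.one_mulVec]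
    · conv_lhs => rw [← iha.2 t]
      group

theorem pos_top {u : GL D.Idx K} (hu : u ∈ D.posUnipotent K) :
    (u : Matrix D.Idx D.Idx K).mulVec (eTop D K) = eTop D K ∧
      ∀ t : K, u * rt D (D.nroots - 1) t * u⁻¹ = rt D (D.nroots - 1) t := by
  classical
  have h2 := two_le_nroots h
  have hN := C.hC.nroots_eq
  have hT : D.nroots - 1 < D.nroots := by omega
  refine ⟨?_, fun t => ?_⟩
  · have hU := (C.hC.posUnipotent_le_uni hu).1
    let top : D.Idx := Sum.inr ⟨D.nroots - 1, hT⟩
    have he : eTop D K = Pi.single top 1 := by rw [eTop, bv, ← basisVec_code top]; rfl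
    rw [he, Matrix.mulVec_single_one]
    funext x
    have hlt : lev D x < lev D top + 1 := by
      have := C.hC.lev_le x
      have htop : lev D top = D.nroots := by
        show (if D.nroots - 1 < D.nroots / 2 then D.nroots - 1 else D.nroots - 1 + 1) = _
        rw [if_neg (by omega)]; omega
      omega
    have h1 := hU x top hlt
    rw [Matrix.sub_apply, sub_eq_zero] at h1
    rw [Matrix.col_apply, h1, Matrix.one_apply, Pi.single_apply]
  · have key : D.posUnipotent K ≤ Subgroup.centralizer {rt D (D.nroots - 1) t} := by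
      unfold ChevalleyDatum.posUnipotent
      rw [Subgroup.closure_le]
      rintro g ⟨r, a, hr, hg⟩
      obtain ⟨hr1, hr2⟩ := (C.hC.isPosRoot_iff r).1 hr
      rw [C.hC.eq_rt hg, SetLike.mem_coe, Subgroup.mem_centralizer_singleton_iff]
      by_cases hn : r = D.nroots - 1
      · subst hn; rw [C.hC.rt_mul, C.hC.rt_mul, add_comm]
      · have hneg : D.nroots - 1 ≠ D.neg r := by
          have := C.hC.neg_eq hr2
          omega
        have hc := C.hC.comm_rt hr2 hT (Ne.symm hn) hneg a t
        rw [show D.commWord K r (D.nroots - 1) a t = [] by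
          simp [ChevalleyDatum.commWord, comm_top h C hr1 hr2]] at hc
        simp only [wordRt, List.map_nil, List.prod_nil, mul_one] at hc
        exact hc.symm
    have := Subgroup.mem_centralizer_singleton_iff.1 (key hu)
    rw [this, mul_inv_cancel_right]

end lvlfacts

/-- A Weyl representative moves root vectors and root elements by the same sign. -/
theorem nw_act (C : H54.Ctx D) (L : List (Fin D.rank)) (r : Fin D.nroots) :
    ∃ e : K, e * e = 1 ∧
      (H54.Ctx.nw D K L : Matrix D.Idx D.Idx K).mulVec (bv D K r.val) = e • bv D K (C.wperm L r).val ∧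
      ∀ t : K, H54.Ctx.nw D K L * rt D r.val t * (H54.Ctx.nw D K L)⁻¹ = rt D (C.wperm L r).val (e * t) := by
  induction L with
  | nil => exact ⟨1, by simp, by simp [H54.Ctx.nw_nil, H54.Ctx.wperm_nil],
      fun t => by simp [H54.Ctx.nw_nil, H54.Ctx.wperm_nil]⟩
  | cons i L ih =>
    obtain ⟨e, he, h1, h2⟩ := ih
    set s := C.wperm L r
    refine ⟨(C.T.eps i.val s.val : K) * e, ?_, ?_, fun t => ?_⟩
    · linear_combination (e * e) * H52.Checked.eps_cast_mul_self (T := C.T) (F := K) i.val s.val + he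
    · rw [H54.Ctx.nw_cons, Units.val_mul, ← Matrix.mulVec_mulVec, h1, Matrix.mulVec_smul,
        H53.coe_nGL C.hC, C.hC.sig_bv_root i.isLt s.isLt, smul_smul, C.wperm_cons, Equiv.Perm.mul_apply,
        C.sigma_val, mul_comm e]
    · rw [H54.Ctx.nw_cons, show H53.nGL D (D.simple i.val) (1 : K) * H54.Ctx.nw D K L * rt D r.val t *
          (H53.nGL D (D.simple i.val) (1 : K) * H54.Ctx.nw D K L)⁻¹ = H53.nGL D (D.simple i.val) (1 : K) *
          (H54.Ctx.nw D K L * rt D r.val t * (H54.Ctx.nw D K L)⁻¹) * (H53.nGL D (D.simple i.val) (1 : K))⁻¹ by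
          group, h2, C.wperm_cons, Equiv.Perm.mul_apply, C.sigma_val, mul_assoc _ e t, mul_inv_eq_iff_eq_mul]
      apply Units.ext
      simp only [Units.val_mul, C.hC.coe_rt, H53.coe_nGL C.hC]
      exact C.hC.sig_mul_x i.isLt s.isLt _

/-- A torus element scales root vectors and root elements by the same factor. -/
theorem diag_act (C : H54.Ctx D) {d : GL D.Idx K} (hd : d ∈ D.diagonalSubgroup K) {s : ℕ} (hs : s < D.nroots) :
    ∃ χ : K, χ ≠ 0 ∧ (d : Matrix D.Idx D.Idx K).mulVec (bv D K s) = χ • bv D K s ∧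
      ∀ t : K, d * rt D s t * d⁻¹ = rt D s (χ * t) := by
  rw [C.hC.diagonalSubgroup_eq] at hd
  obtain ⟨c, rfl⟩ := hd
  refine ⟨((∏ i : Fin D.rank, c i ^ D.cartan i.val s : Kˣ) : K), Units.ne_zero _, ?_,
    fun t => C.hC.torus_conj_rt c hs t⟩
  rw [torus_apply]
  exact H52.dgR_bv_root _ hs

/-- The frame of the image of the highest root vector. -/
theorem exists_frame (h : lvlChk D = true) (C : H54.Ctx D) {g : GL D.Idx K} (hg : g ∈ D.group K)
    (hc : vc D (vec g) 0 ≠ 0) :
    ∃ u ∈ radQ D K, vec g = vc D (vec g) 0 • (u : Matrix D.Idx D.Idx K).mulVec (bv D K 0) ∧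
      ∀ t : K, g * rt D (D.nroots - 1) t * g⁻¹ = u * rt D 0 (vc D (vec g) 0 * t) * u⁻¹ := by
  classical
  have h2 := two_le_nroots h
  obtain ⟨u, hu, d, hd, L, v, hv, rfl⟩ := C.exists_nf hg
  set a : Fin D.nroots := ⟨D.nroots - 1, by omega⟩
  set s := C.wperm L a
  obtain ⟨e, he, hn1, hn2⟩ := nw_act (K := K) C L a
  obtain ⟨χ, hχ, hd1, hd2⟩ := diag_act C hd s.isLt
  obtain ⟨hv1, hv2⟩ := pos_top h C (C.uinv_le _ hv)
  have hvec : vec (u * d * H54.Ctx.nw D K L * v) = (e * χ) • (u : Matrix D.Idx D.Idx K).mulVec (bv D K s.val) := by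
    simp only [vec, Units.val_mul, ← Matrix.mulVec_mulVec]
    rw [hv1]
    show _ = _
    rw [show eTop D K = bv D K a.val from rfl, hn1, Matrix.mulVec_smul, hd1, smul_smul, Matrix.mulVec_smul]
  have hU := (C.hC.posUnipotent_le_uni hu).1
  have hentry : ∀ x : D.Idx, ((u : Matrix D.Idx D.Idx K).mulVec (bv D K s.val)) x =
      (u : Matrix D.Idx D.Idx K) x (Sum.inr s) := by
    intro x
    rw [bv, show basisVec D K s.val = Pi.single (Sum.inr s : D.Idx) 1 from basisVec_code (Sum.inr s : D.Idx),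
      Matrix.mulVec_single_one, Matrix.col_apply]
  have hz : D.nroots / 2 ≠ 0 := by have := C.hC.nroots_eq; omega
  let bot : D.Idx := Sum.inr ⟨0, by omega⟩
  have hbot : vc D (vec (u * d * H54.Ctx.nw D K L * v)) 0 = (e * χ) * (u : Matrix D.Idx D.Idx K) bot (Sum.inr s) := by
    rw [show (0 : ℕ) = H52.code D bot from rfl, vc_code, hvec, Pi.smul_apply, smul_eq_mul, hentry]
  have hlb : lev D bot = 0 := by
    show (if 0 < D.nroots / 2 then 0 else 0 + 1) = 0
    rw [if_pos (by omega)]
  have h1 := hU bot (Sum.inr s) (by omega)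
  rw [Matrix.sub_apply, sub_eq_zero] at h1
  have hs0 : s.val = 0 := by
    by_contra hne
    rw [hbot, h1, Matrix.one_apply_ne (fun e' => hne (by
      have := congrArg Fin.val (Sum.inr_injective e'); simpa using this.symm)), mul_zero] at hc
    exact hc rfl
  have hsb : (Sum.inr s : D.Idx) = bot := by simp [bot, Fin.ext_iff, hs0]
  rw [hbot, h1, hsb, Matrix.one_apply_eq, mul_one] at *
  obtain ⟨q, hq, l, hl, rfl⟩ := pos_split h C hu
  obtain ⟨hl1, hl2⟩ := levU_fix h C hl
  refine ⟨q, hq, ?_, fun t => ?_⟩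
  · rw [hvec, hs0, Units.val_mul, ← Matrix.mulVec_mulVec, hl1]
  · rw [show q * l * d * H54.Ctx.nw D K L * v * rt D (D.nroots - 1) t * (q * l * d * H54.Ctx.nw D K L * v)⁻¹ =
        q * (l * (d * (H54.Ctx.nw D K L * (v * rt D (D.nroots - 1) t * v⁻¹) * (H54.Ctx.nw D K L)⁻¹) * d⁻¹) * l⁻¹) *
          q⁻¹ by group, hv2]
    have := hn2 t
    rw [show a.val = D.nroots - 1 from rfl] at this
    rw [this, hd2, hs0, hl2, show χ * (e * t) = e * χ * t by ring]

end H66.Subfield
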