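import Cfsg.Agent.H54.WordRefl
import Cfsg.Agent.H52.TableG2

/-!
The action of root elements of `G₂` in characteristic two on coordinate vectors, and a certificate over the field
with four elements.
-/

set_option autoImplicit false
set_option maxRecDepth 20000

open Cfsg.Lie

namespace H66.Subfield.GTwo

/-- The coordinates in the order of their codes. -/
def idx14 : List chevG2.Idx :=
  (List.finRange chevG2.nroots).map Sum.inr ++ (List.finRange chevG2.rank).map Sum.inl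

/-- The odd entries (coordinate, exponent) of the rows of the twelve root elements. -/
def oddTab : List (List (List (ℕ × ℕ))) :=
[[[(0, 0), (11, 2), (13, 1)], [(1, 0), (6, 1)], [(2, 0), (8, 1)], [(3, 0), (9, 1)], [(4, 0)], [(5, 0), (10, 1)],
    [(6, 0)], [(7, 0)], [(8, 0)], [(9, 0)], [(10, 0)], [(11, 0)], [(11, 1), (12, 0)], [(13, 0)]],
  [[(0, 0), (5, 1)], [(1, 0), (10, 2), (12, 1), (13, 1)], [(2, 0), (7, 1)], [(3, 0)], [(4, 0), (9, 1)], [(5, 0)],
    [(6, 0), (11, 1)], [(7, 0)], [(8, 0)], [(9, 0)], [(10, 0)], [(11, 0)], [(10, 1), (12, 0)], [(10, 1), (13, 0)]],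
  [[(0, 0), (3, 1), (7, 2), (10, 3)], [(1, 0), (4, 1), (8, 2), (11, 3)], [(2, 0), (9, 2), (12, 1)], [(3, 0), (10, 2)],
    [(4, 0), (11, 2)], [(5, 0)], [(6, 0)], [(7, 0), (10, 1)], [(8, 0), (11, 1)], [(9, 0)], [(10, 0)], [(11, 0)],
    [(12, 0)], [(9, 1), (13, 0)]],
  [[(0, 0), (2, 1), (4, 2), (6, 3)], [(1, 0)], [(2, 0), (6, 2)], [(3, 0), (8, 2), (12, 1), (13, 1)], [(4, 0), (6, 1)],
    [(5, 0), (7, 1), (9, 2), (11, 3)], [(6, 0)], [(7, 0), (11, 2)], [(8, 0)], [(9, 0), (11, 1)], [(10, 0)], [(11, 0)],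
    [(8, 1), (12, 0)], [(8, 1), (13, 0)]],
  [[(0, 0)], [(1, 0), (2, 1), (3, 2), (5, 3)], [(2, 0), (5, 2)], [(3, 0), (5, 1)], [(4, 0), (7, 2), (13, 1)], [(5, 0)],
    [(6, 0), (8, 1), (9, 2), (10, 3)], [(7, 0)], [(8, 0), (10, 2)], [(9, 0), (10, 1)], [(10, 0)], [(11, 0)],
    [(7, 1), (12, 0)], [(13, 0)]],
  [[(0, 0), (1, 1)], [(1, 0)], [(2, 0)], [(3, 0), (4, 1)], [(4, 0)], [(5, 0), (6, 2), (12, 1)], [(6, 0)],
    [(7, 0), (8, 1)], [(8, 0)], [(9, 0)], [(10, 0), (11, 1)], [(11, 0)], [(12, 0)], [(6, 1), (13, 0)]],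
  [[(0, 0)], [(0, 1), (1, 0)], [(2, 0)], [(3, 0)], [(3, 1), (4, 0)], [(5, 0)], [(5, 2), (6, 0), (12, 1)], [(7, 0)],
    [(7, 1), (8, 0)], [(9, 0)], [(10, 0)], [(10, 1), (11, 0)], [(12, 0)], [(5, 1), (13, 0)]],
  [[(0, 0)], [(1, 0)], [(1, 1), (2, 0)], [(1, 2), (3, 0)], [(4, 0)], [(1, 3), (2, 2), (3, 1), (5, 0)], [(6, 0)],
    [(4, 2), (7, 0), (13, 1)], [(6, 1), (8, 0)], [(6, 2), (9, 0)], [(6, 3), (8, 2), (9, 1), (10, 0)], [(11, 0)],
    [(4, 1), (12, 0)], [(13, 0)]],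
  [[(0, 0)], [(1, 0)], [(0, 1), (2, 0)], [(3, 0)], [(0, 2), (4, 0)], [(5, 0)], [(0, 3), (2, 2), (4, 1), (6, 0)],
    [(5, 1), (7, 0)], [(3, 2), (8, 0), (12, 1), (13, 1)], [(5, 2), (9, 0)], [(10, 0)],
    [(5, 3), (7, 2), (9, 1), (11, 0)], [(3, 1), (12, 0)], [(3, 1), (13, 0)]],
  [[(0, 0)], [(1, 0)], [(2, 0)], [(0, 1), (3, 0)], [(1, 1), (4, 0)], [(5, 0)], [(6, 0)], [(0, 2), (7, 0)],
    [(1, 2), (8, 0)], [(2, 2), (9, 0), (12, 1)], [(0, 3), (3, 2), (7, 1), (10, 0)], [(1, 3), (4, 2), (8, 1), (11, 0)],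
    [(12, 0)], [(2, 1), (13, 0)]],
  [[(0, 0)], [(1, 0)], [(2, 0)], [(3, 0)], [(4, 0)], [(0, 1), (5, 0)], [(6, 0)], [(2, 1), (7, 0)], [(8, 0)],
    [(4, 1), (9, 0)], [(1, 2), (10, 0), (12, 1), (13, 1)], [(6, 1), (11, 0)], [(1, 1), (12, 0)], [(1, 1), (13, 0)]],
  [[(0, 0)], [(1, 0)], [(2, 0)], [(3, 0)], [(4, 0)], [(5, 0)], [(1, 1), (6, 0)], [(7, 0)], [(2, 1), (8, 0)],
    [(3, 1), (9, 0)], [(5, 1), (10, 0)], [(0, 2), (11, 0), (13, 1)], [(0, 1), (12, 0)], [(13, 0)]]]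

/-- The rows of a root element. -/
def rowsOf (r : ℕ) : List (List (ℕ × ℕ)) := oddTab.getD r []

theorem oddTab_spec : ∀ r : Fin chevG2.nroots, rowsOf r.val = idx14.map fun row => idx14.flatMap fun col =>
    ((H54.WR.xEnt chevG2 r row col).filter fun km => km.2 % 2 != 0).map fun km => (H52.code chevG2 col, km.1) := by
  decide +kernel

/-- Addition in the field with four elements. -/
def fadd (a b : ℕ) : ℕ := (a % 4) ^^^ (b % 4)

/-- Multiplication in the field with four elements. -/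
def fmul (a b : ℕ) : ℕ :=
  [0, 0, 0, 0, 0, 1, 2, 3, 0, 2, 3, 1, 0, 3, 1, 2].getD (4 * (a % 4) + b % 4) 0

/-- Powers in the field with four elements. -/
def fpow (a : ℕ) : ℕ → ℕ
  | 0 => 1
  | k + 1 => fmul (fpow a k) a

/-- Inverses in the field with four elements. -/
def finv (a : ℕ) : ℕ := [0, 1, 3, 2].getD a 0

/-- One root element applied to a vector. -/
def appF (r t : ℕ) (v : List ℕ) : List ℕ :=
  (rowsOf r).map fun row => row.foldr (fun e acc => fadd (fmul (fpow t e.2) (v.getD e.1 0)) acc) 0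

/-- A word applied to a vector. -/
def runF (w : List (ℕ × ℕ)) (v : List ℕ) : List ℕ := w.foldr (fun q acc => appF q.1 q.2 acc) v

/-- A word with parameters one. -/
def ones (w : List ℕ) : List (ℕ × ℕ) := w.map fun r => (r, 1)

/-- The word of the parameters of an element of the radical. -/
def uWord (p : List ℕ) : List (ℕ × ℕ) := [6, 8, 9, 10, 11].zip p

/-- The bottom vector. -/
def e0F : List ℕ := 1 :: List.replicate 13 0

/-- The coordinate at `-α` is non-zero and a neighbouring ratio is zero or one. -/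
def crit (v : List ℕ) : Bool :=
  v.getD 0 0 != 0 &&
    ((v.getD 1 0 == 0 || v.getD 1 0 == v.getD 0 0) || (v.getD 5 0 == 0 || v.getD 5 0 == v.getD 0 0))

/-- The translations tried. -/
def tryL : List (List ℕ) := [[], [7, 1], [4], [1, 10]]

/-- The translations tried around the conjugated root element. -/
def tryP : List (List ℕ × List ℕ) := [([2, 3], [2]), ([3, 4], [2]), ([3, 11], [2]), ([2, 7], [8]), ([3], [3]), ([4], [7]), ([3], [4])]

/-- The contradiction found for the parameters `p`. -/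
def refute (p : List ℕ) : Bool :=
  let V := runF (uWord p) e0F
  (tryL.any fun w => let W := runF (ones w) V; crit W && W.getD 0 0 == 1) ||
  (tryL.any fun w => tryL.any fun w' =>
    let W := runF (ones w) V; let W' := runF (ones w') V
    crit W && crit W' && W.getD 0 0 != W'.getD 0 0) ||
  (tryL.any fun w => let W := runF (ones w) V; crit W &&
    tryP.any fun q =>
      let c := finv (W.getD 0 0)
      let Q := runF (ones q.1 ++ (uWord p ++ [(0, c)] ++ (uWord p).reverse) ++ ones q.2) (V.map (fmul c))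
      crit Q && Q.getD 0 0 != 1)

theorem refute_all : ([2, 3].all fun a => [0, 1, 2, 3].all fun b => [0, 1, 2, 3].all fun s => [2, 3].all fun m =>
    [0, 1, 2, 3].all fun z => refute [a, b, s, m, z]) = true := by decide +kernel

end H66.Subfield.GTwo
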