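import Cfsg.Agent.H66.Subfield.LongRoot
import Cfsg.Agent.H66.Subfield.G2Table
import Cfsg.Agent.H66.Subfield.Checks

/-!
`c ∈ F` for type `G₂`.
-/

set_option autoImplicit false
set_option linter.unusedSectionVars false

open Cfsg.Lie H52
open scoped MatrixGroups

namespace H66.Subfield

variable {K : Type*} [Field K]

namespace GTwo

/-- Evaluation of the codes at a root of `X² + X + 1`. -/
def ev4 (w : K) (n : ℕ) : K :=
  if n % 4 = 0 then 0 else if n % 4 = 1 then 1 else if n % 4 = 2 then w else w + 1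

theorem ev4_mod (w : K) (n : ℕ) : ev4 w (n % 4) = ev4 w n := by simp [ev4]

/-- Membership in the small field. -/
def I4 (w x : K) : Prop := ∃ n : ℕ, ev4 w n = x

theorem cast_parity (h2 : (2 : K) = 0) (M : ℤ) : (M : K) = if M % 2 = 0 then 0 else 1 := by
  conv_lhs => rw [← Int.emod_add_mul_ediv M 2]
  push_cast
  rw [h2, zero_mul, add_zero]
  rcases Int.emod_two_eq_zero_or_one M with h | h <;> simp [h]

section arith

variable {w : K} (h2 : (2 : K) = 0) (hw : w ^ 2 + w + 1 = 0)
include h2 hw

theorem ev4_add (a b : ℕ) : ev4 w (fadd a b) = ev4 w a + ev4 w b := by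
  rw [← ev4_mod w a, ← ev4_mod w b, fadd]
  have ha : a % 4 < 4 := Nat.mod_lt _ (by decide)
  have hb : b % 4 < 4 := Nat.mod_lt _ (by decide)
  generalize a % 4 = i at *
  generalize b % 4 = j at *
  interval_cases i <;> interval_cases j <;> simp [ev4] <;>
    first
      | linear_combination h2
      | linear_combination (-1 : K) * h2
      | linear_combination w * h2
      | linear_combination (-w) * h2
      | linear_combination (w + 1) * h2
      | linear_combination (-(w + 1)) * h2
      | ring1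

theorem ev4_mul (a b : ℕ) : ev4 w (fmul a b) = ev4 w a * ev4 w b := by
  rw [← ev4_mod w a, ← ev4_mod w b, fmul]
  have ha : a % 4 < 4 := Nat.mod_lt _ (by decide)
  have hb : b % 4 < 4 := Nat.mod_lt _ (by decide)
  generalize a % 4 = i at *
  generalize b % 4 = j at *
  interval_cases i <;> interval_cases j <;> simp [ev4] <;>
    first
      | linear_combination -hw + (w + 1) * h2
      | linear_combination -hw + (0 : K) * h2
      | linear_combination -hw + w * h2
      | linear_combination -hw + (1 : K) * h2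
      | linear_combination hw + (0 : K) * h2
      | linear_combination hw - (w + 1) * h2
      | linear_combination hw - w * h2
      | linear_combination hw - h2

theorem ev4_pow (a : ℕ) : ∀ k : ℕ, ev4 w (fpow a k) = ev4 w a ^ k
  | 0 => by simp [fpow, ev4]
  | k + 1 => by rw [fpow, ev4_mul h2 hw, ev4_pow a k, pow_succ]

theorem w_ne : w ≠ 0 ∧ w + 1 ≠ 0 := by
  constructor <;> intro e
  · exact one_ne_zero (α := K) (by linear_combination hw - (w + 1) * e)
  · exact one_ne_zero (α := K) (by linear_combination hw - w * e)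

theorem ev4_inj {a b : ℕ} (ha : a < 4) (hb : b < 4) (h : ev4 w a = ev4 w b) : a = b := by
  obtain ⟨hw0, hw1⟩ := w_ne h2 hw
  have hw2 : w ≠ 1 := fun e => one_ne_zero (α := K) (by linear_combination hw - (w + 2) * e - h2)
  interval_cases a <;> interval_cases b <;> simp [ev4] at h <;>
    first
      | rfl
      | exact absurd h hw0
      | exact absurd h.symm hw0
      | exact absurd h hw1
      | exact absurd h.symm hw1
      | exact absurd h hw2
      | exact absurd h.symm hw2
      | exact absurd h one_ne_zero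
      | exact absurd h zero_ne_one

theorem I4.add {x y : K} (hx : I4 w x) (hy : I4 w y) : I4 w (x + y) := by
  obtain ⟨a, rfl⟩ := hx; obtain ⟨b, rfl⟩ := hy; exact ⟨fadd a b, ev4_add h2 hw a b⟩

theorem I4.mul {x y : K} (hx : I4 w x) (hy : I4 w y) : I4 w (x * y) := by
  obtain ⟨a, rfl⟩ := hx; obtain ⟨b, rfl⟩ := hy; exact ⟨fmul a b, ev4_mul h2 hw a b⟩

theorem I4.inv {x : K} (hx : I4 w x) : I4 w x⁻¹ := by
  obtain ⟨a, rfl⟩ := hx
  refine ⟨finv (a % 4), ?_⟩
  rw [← ev4_mod w a]
  have ha : a % 4 < 4 := Nat.mod_lt _ (by decide)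
  generalize a % 4 = i at *
  interval_cases i <;> simp [ev4, finv]
  · exact eq_inv_of_mul_eq_one_right (by linear_combination hw + (-1 : K) * h2)
  · exact eq_inv_of_mul_eq_one_right (by linear_combination hw + (-1 : K) * h2)

/-- A vector represented by codes. -/
def Rep (w : K) (v : chevG2.Idx → K) (V : List ℕ) : Prop := ∀ n < 14, vc chevG2 v n = ev4 w (V.getD n 0)

end arith

theorem idx_code : ∀ i < 14, (idx14.map (H52.code chevG2)).getD i 0 = i := by decide

/-- A row of a root element in characteristic two. -/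
theorem row_odd (C : H54.Ctx chevG2) (h2 : (2 : K) = 0) {r : ℕ} (hr : r < 12) (t : K) (v : chevG2.Idx → K)
    {n : ℕ} (hn : n < 14) :
    vc chevG2 ((rt chevG2 r t : GL chevG2.Idx K).1.mulVec v) n =
      (((rowsOf r).getD n []).map fun e => t ^ e.2 * vc chevG2 v e.1).sum := by
  classical
  have hN : chevG2.nroots = 12 := by decide
  have hr' : r < chevG2.nroots := by omega
  have hlen : idx14.length = 14 := by decide
  set row := idx14[n]'(by omega) with hrow
  have hcode : H52.code chevG2 row = n := by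
    have := idx_code n hn
    rw [List.getD_eq_getElem?_getD, List.getElem?_map, List.getElem?_eq_getElem (by omega)] at this
    simpa [hrow] using this
  conv_lhs => rw [← hcode]
  rw [vc_code, C.hC.coe_rt, ChevalleyDatum.x, dif_pos hr', Matrix.mulVec, dotProduct]
  rw [show rowsOf r = _ from oddTab_spec ⟨r, hr'⟩, List.getD_eq_getElem?_getD, List.getElem?_map,
    List.getElem?_eq_getElem (by omega)]
  simp only [Option.map_some, Option.getD_some, ← hrow, List.map_flatMap]
  rw [List.flatMap, List.sum_flatten, List.map_map]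
  have hall : ∀ f : chevG2.Idx → K, (idx14.map f).sum = ∑ x, f x := by
    intro f
    simp only [idx14, List.map_append, List.sum_append, List.map_map, Fintype.sum_sum_type]
    rw [add_comm]
    congr 1 <;> rw [← List.ofFn_eq_map, List.sum_ofFn] <;> rfl
  rw [hall]
  refine Finset.sum_congr rfl fun x _ => ?_
  simp only [Function.comp_apply, H54.WR.xEnt_spec, List.map_map]
  induction (H54.WR.xEnt chevG2 ⟨r, hr'⟩ row x) with
  | nil => simp
  | cons a l ih =>
    simp only [List.map_cons, List.sum_cons, add_mul, List.filter_cons]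
    rw [ih, cast_parity h2]
    by_cases ha : a.2 % 2 = 0
    · simp [ha]
    · simp [ha, vc_code]

theorem appF_rep (C : H54.Ctx chevG2) {w : K} (h2 : (2 : K) = 0) (hw : w ^ 2 + w + 1 = 0) {r t : ℕ}
    (hr : r < 12) {v : chevG2.Idx → K} {V : List ℕ} (hlt : ∀ e ∈ (rowsOf r).flatten, e.1 < 14)
    (h : Rep w v V) : Rep w ((rt chevG2 r (ev4 w t) : GL chevG2.Idx K).1.mulVec v) (appF r t V) := by
  intro n hn
  rw [row_odd C h2 hr _ _ hn, appF, List.getD_eq_getElem?_getD (l := List.map _ _), List.getElem?_map]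
  cases hh : (rowsOf r)[n]? with
  | none =>
    rw [List.getD_eq_getElem?_getD, hh]
    simp [ev4]
  | some row =>
    rw [List.getD_eq_getElem?_getD, hh]
    simp only [Option.map_some, Option.getD_some]
    have hrow : ∀ e ∈ row, e.1 < 14 := fun e he =>
      hlt e (List.mem_flatten.2 ⟨row, List.mem_of_getElem? hh, he⟩)
    clear hh
    induction row with
    | nil => simp [ev4]
    | cons a l ih =>
      rw [List.map_cons, List.sum_cons, List.foldr_cons, ev4_add h2 hw, ev4_mul h2 hw, ev4_pow h2 hw,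
        ← h _ (hrow a List.mem_cons_self), ih fun e he => hrow e (List.mem_cons_of_mem _ he)]

theorem runF_rep (C : H54.Ctx chevG2) {w : K} (h2 : (2 : K) = 0) (hw : w ^ 2 + w + 1 = 0)
    (W : List (ℕ × ℕ)) (hW : ∀ q ∈ W, q.1 < 12) {v : chevG2.Idx → K} {V : List ℕ} (h : Rep w v V) :
    Rep w ((wordRt chevG2 (W.map fun q => (q.1, ev4 w q.2))).1.mulVec v) (runF W V) := by
  have htab : ∀ r < 12, ∀ e ∈ (rowsOf r).flatten, e.1 < 14 := by decide +kernel
  induction W with
  | nil => simpa [wordRt, runF] using h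
  | cons q W ih =>
    have : wordRt chevG2 ((q :: W).map fun q => (q.1, ev4 w q.2)) =
        rt chevG2 q.1 (ev4 w q.2) * wordRt chevG2 (W.map fun q => (q.1, ev4 w q.2)) := by
      simp [wordRt]
    rw [this, Units.val_mul, ← Matrix.mulVec_mulVec]
    exact appF_rep C h2 hw (hW q List.mem_cons_self) (htab _ (hW q List.mem_cons_self))
      (ih fun p hp => hW p (List.mem_cons_of_mem _ hp))

end GTwo

open GTwo

variable [Fintype K] (O : Ov chevG2 K)

namespace Ov

include O

theorem card_two_mem (hF : Nat.card O.F = 2) : ∀ z ∈ O.F, z = 0 ∨ z = 1 := by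
  classical
  intro z hz
  have h3 : Fintype.card O.F = 2 := by rw [← Nat.card_eq_fintype_card]; exact hF
  have h4 := FiniteField.pow_card (⟨z, hz⟩ : O.F)
  rw [h3] at h4
  have h5 : z ^ 2 = z := congrArg Subtype.val h4
  rcases mul_eq_zero.1 (show z * (z - 1) = 0 by linear_combination h5) with h6 | h6
  exacts [Or.inl h6, Or.inr (sub_eq_zero.1 h6)]

/-- The neighbouring long ratios lie in the small field. -/
theorem g2_ratio (h2 : (2 : K) = 0) (hF : Nat.card O.F = 2) {w : K} (hw : w ^ 2 + w + 1 = 0)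
    {g : GL chevG2.Idx K} (hg : g ∈ O.H) (hc : vc chevG2 (vec g) 0 ≠ 0) {j : ℕ} (hj : j = 1 ∨ j = 5) :
    I4 w (vc chevG2 (vec g) j / vc chevG2 (vec g) 0) := by
  have hpo : pairOK chevG2 6 10 = true := by decide +kernel
  have key : ∀ {β γ : ℕ}, pairOK chevG2 β γ = true → low chevG2 γ = j →
      I4 w (vc chevG2 (vec g) j / vc chevG2 (vec g) 0) := by
    intro β γ hp hl
    have h := O.param_quad (pairData hp) lowChk_G2 h2 hF hg hc
    rw [hl] at h
    set T := vc chevG2 (vec g) j / vc chevG2 (vec g) 0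
    rcases h with h | h
    · rcases O.card_two_mem hF T h with h | h
      · exact ⟨0, by rw [h]; rfl⟩
      · exact ⟨1, by rw [h]; rfl⟩
    · rcases mul_eq_zero.1 (show (T - w) * (T + w + 1) = 0 by linear_combination h - hw) with e | e
      · exact ⟨2, by rw [sub_eq_zero.1 e]; rfl⟩
      · exact ⟨3, by show w + 1 = T; linear_combination -e + (w + 1) * h2⟩
  rcases hj with rfl | rfl
  · exact key pair_G2 (by decide)
  · exact key hpo (by decide)

/-- A neighbour of a neighbour. -/
theorem g2_next (h2 : (2 : K) = 0) (hF : Nat.card O.F = 2) {w : K} (hw : w ^ 2 + w + 1 = 0)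
    {g : GL chevG2.Idx K} (hg : g ∈ O.H) {y z : ℕ} (L : List (Fin chevG2.rank)) (hy : y < 12) (hz : z < 12)
    (hL : (L.map (fun i : Fin chevG2.rank => i.val)).foldr chevG2.reflectRoot y = 0)
    (hL' : (L.map (fun i : Fin chevG2.rank => i.val)).foldr chevG2.reflectRoot z = 1 ∨
      (L.map (fun i : Fin chevG2.rank => i.val)).foldr chevG2.reflectRoot z = 5)
    (hv : vc chevG2 (vec g) y ≠ 0) : I4 w (vc chevG2 (vec g) z / vc chevG2 (vec g) y) := by
  have hN : chevG2.nroots = 12 := by decide
  have hperm : ∀ (L : List (Fin chevG2.rank)) (r : Fin chevG2.nroots),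
      (O.C.wperm L r).val = (L.map (fun i : Fin chevG2.rank => i.val)).foldr chevG2.reflectRoot r.val := by
    intro L r
    induction L with
    | nil => rfl
    | cons i L ih => rw [O.C.wperm_cons, Equiv.Perm.mul_apply, O.C.sigma_val, ih]; rfl
  have hone : ∀ {e : K}, e * e = 1 → e = 1 := fun {e} he => by
    rcases mul_self_eq_one_iff.1 he with rfl | rfl
    exacts [rfl, two_neg h2 1]
  have hval : ∀ x (hx : x < 12), vc chevG2 (vec (H54.Ctx.nw chevG2 K L * g))
      ((L.map (fun i : Fin chevG2.rank => i.val)).foldr chevG2.reflectRoot x) = vc chevG2 (vec g) x := by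
    intro x hx
    obtain ⟨e, he, hv⟩ := vc_nw (K := K) O.C L ⟨x, by omega⟩
    have := hv (vec g)
    rw [hperm, hone he, one_mul] at this
    rw [vec_mul]
    exact this
  have h0 := hval y hy
  rw [hL] at h0
  have h1 := hval z hz
  have := O.g2_ratio h2 hF hw (mul_mem (O.nw_mem L) hg) (by rw [h0]; exact hv) hL'
  rwa [h0, h1] at this

/-- Case of two elements. -/
theorem g2_two (h2 : (2 : K) = 0) (hF : Nat.card O.F = 2) {g : GL chevG2.Idx K} (hg : g ∈ O.H)
    (hc : vc chevG2 (vec g) 0 ≠ 0) : vc chevG2 (vec g) 0 ∈ O.F := by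
  classical
  have hN : chevG2.nroots = 12 := by decide
  have hpo : pairOK chevG2 6 10 = true := by decide +kernel
  by_contra hcF
  set c := vc chevG2 (vec g) 0 with hcdef
  -- the parameters of long roots
  have hOm : ∀ g' ∈ O.H, vc chevG2 (vec g') 0 = c → ∀ j, (j = 1 ∨ j = 5) →
      (vc chevG2 (vec g') j / c) ^ 2 + vc chevG2 (vec g') j / c + 1 = 0 := by
    intro g' hg' he j hj
    have key : ∀ {β γ : ℕ}, pairOK chevG2 β γ = true → low chevG2 γ = j →
        (vc chevG2 (vec g') j / c) ^ 2 + vc chevG2 (vec g') j / c + 1 = 0 := by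
      intro β γ hp hl
      have h := O.param_quad (pairData hp) lowChk_G2 h2 hF hg' (by rw [he]; exact hc)
      have h' := O.c_mem_of_param (pairData hp) lowChk_G2 hg' (by rw [he]; exact hc)
      rw [hl, he] at h h'
      exact h.resolve_left fun hh => hcF (h' hh)
    rcases hj with rfl | rfl
    · exact key pair_G2 (by decide)
    · exact key hpo (by decide)
  set w := vc chevG2 (vec g) 1 / c with hwdef
  have hw : w ^ 2 + w + 1 = 0 := hOm g hg rfl 1 (Or.inl rfl)
  have h14 : ∀ {a b : K}, I4 w a → I4 w b → I4 w (a + b) := fun ha hb => I4.add h2 hw ha hb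
  let J : K → Prop := fun x => I4 w (x / c)
  have hJadd : ∀ {a b : K}, J a → J b → J (a + b) := fun {a b} ha hb => by
    show I4 w ((a + b) / c)
    rw [add_div]; exact h14 ha hb
  have hJc : J c := ⟨1, by rw [div_self hc]; rfl⟩
  have hJcancel : ∀ {a b : K}, J (a + b) → J b → J a := fun {a b} hab hb => by
    have := hJadd hab hb
    rwa [show a + b + b = a by linear_combination b * h2] at this
  have hrow : ∀ θ L : ℕ, θ < 12 → L < 12 → L ≠ θ → ∀ (g' : GL chevG2.Idx K),
      vc chevG2 (vec (rt chevG2 θ 1 * g')) L =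
        vc chevG2 (vec g') L + rowVal chevG2 (rowS chevG2 θ L) 1 (vec g') := by
    intro θ L a b h g'
    rw [vec_mul, row_apply O.C.hC (by omega) (by omega), if_neg h, add_zero]
  have hm : ∀ θ < 12, ∀ g' ∈ O.H, rt chevG2 θ (1 : K) * g' ∈ O.H := fun θ h g' hg' =>
    mul_mem (O.hone θ (by omega)) hg'
  have h3K : ((3 : ℤ) : K) = 1 := by push_cast; linear_combination h2
  have hm3K : ((-3 : ℤ) : K) = 1 := by push_cast; linear_combination (-2 : K) * h2
  have hm1K : ((-1 : ℤ) : K) = 1 := by push_cast; linear_combination -h2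
  have h1K : ((1 : ℤ) : K) = 1 := Int.cast_one
  -- long coordinates at distance two
  have hnext : ∀ g' ∈ O.H, vc chevG2 (vec g') 0 = c →
      J (vc chevG2 (vec g') 6) ∧ J (vc chevG2 (vec g') 10) := by
    intro g' hg' he
    have main : ∀ (y z : ℕ) (L : List (Fin chevG2.rank)), (y = 1 ∨ y = 5) → z < 12 →
        (L.map (fun i : Fin chevG2.rank => i.val)).foldr chevG2.reflectRoot y = 0 →
        ((L.map (fun i : Fin chevG2.rank => i.val)).foldr chevG2.reflectRoot z = 1 ∨
          (L.map (fun i : Fin chevG2.rank => i.val)).foldr chevG2.reflectRoot z = 5) →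
        J (vc chevG2 (vec g') z) := by
      intro y z L hy hz hL hL'
      have hq := hOm g' hg' he y hy
      have hne : vc chevG2 (vec g') y ≠ 0 := by
        intro e; rw [e, zero_div] at hq; simp at hq
      have hy4 : I4 w (vc chevG2 (vec g') y / c) := by
        have := O.g2_ratio h2 hF hw hg' (by rw [he]; exact hc) hy
        rwa [he] at this
      have := I4.mul h2 hw (O.g2_next h2 hF hw hg' L (by omega) hz hL hL' hne) hy4
      show I4 w _
      rwa [div_mul_div_cancel₀ hne] at this
    exact ⟨main 1 6 [⟨1, by decide⟩] (Or.inl rfl) (by decide) (by decide) (by decide),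
      main 5 10 [⟨1, by decide⟩, ⟨0, by decide⟩] (Or.inr rfl) (by decide) (by decide) (by decide)⟩
  -- sums of adjacent short coordinates
  have hsum : ∀ g' ∈ O.H, vc chevG2 (vec g') 0 = c →
      J (vc chevG2 (vec g') 4 + vc chevG2 (vec g') 2) ∧ J (vc chevG2 (vec g') 7 + vc chevG2 (vec g') 3) := by
    intro g' hg' he
    obtain ⟨j6, j10⟩ := hnext g' hg' he
    have e80 : vc chevG2 (vec (rt chevG2 8 (1 : K) * g')) 0 = c := by
      rw [hrow 8 0 (by decide) (by decide) (by decide), show rowS chevG2 8 0 = [] by decide]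
      simp [rowVal, he]
    have e90 : vc chevG2 (vec (rt chevG2 9 (1 : K) * g')) 0 = c := by
      rw [hrow 9 0 (by decide) (by decide) (by decide), show rowS chevG2 9 0 = [] by decide]
      simp [rowVal, he]
    have a := (hnext _ (hm 8 (by decide) g' hg') e80).1
    have b := (hnext _ (hm 9 (by decide) g' hg') e90).2
    rw [hrow 8 6 (by decide) (by decide) (by decide),
      show rowS chevG2 8 6 = [(0, 3, 1), (2, 2, -3), (4, 1, 3)] by decide] at a
    rw [hrow 9 10 (by decide) (by decide) (by decide),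
      show rowS chevG2 9 10 = [(0, 3, 1), (3, 2, 3), (7, 1, -3)] by decide] at b
    simp only [rowVal, List.map_cons, List.map_nil, List.sum_cons, List.sum_nil, h3K, hm3K, h1K, one_pow,
      one_mul, add_zero, he] at a b
    constructor
    · refine hJcancel ?_ (hJadd j6 hJc)
      rwa [show vc chevG2 (vec g') 4 + vc chevG2 (vec g') 2 + (vc chevG2 (vec g') 6 + c) =
        vc chevG2 (vec g') 6 + (c + (vc chevG2 (vec g') 2 + vc chevG2 (vec g') 4)) by ring]
    · refine hJcancel ?_ (hJadd j10 hJc)
      rwa [show vc chevG2 (vec g') 7 + vc chevG2 (vec g') 3 + (vc chevG2 (vec g') 10 + c) =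
        vc chevG2 (vec g') 10 + (c + (vc chevG2 (vec g') 3 + vc chevG2 (vec g') 7)) by ring]
  -- short coordinates
  obtain ⟨p1, p2⟩ := hsum g hg rfl
  have hJ3 : J (vc chevG2 (vec g) 3) := by
    have e0 : vc chevG2 (vec (rt chevG2 6 (1 : K) * g)) 0 = c := by
      rw [hrow 6 0 (by decide) (by decide) (by decide), show rowS chevG2 6 0 = [] by decide]
      simp [rowVal, hcdef]
    have a := (hsum _ (hm 6 (by decide) g hg) e0).1
    rw [hrow 6 4 (by decide) (by decide) (by decide), show rowS chevG2 6 4 = [(3, 1, -1)] by decide,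
      hrow 6 2 (by decide) (by decide) (by decide), show rowS chevG2 6 2 = [] by decide] at a
    simp only [rowVal, List.map_cons, List.map_nil, List.sum_cons, List.sum_nil, hm1K, one_pow, one_mul,
      add_zero] at a
    refine hJcancel ?_ p1
    rwa [show vc chevG2 (vec g) 3 + (vc chevG2 (vec g) 4 + vc chevG2 (vec g) 2) =
      vc chevG2 (vec g) 4 + vc chevG2 (vec g) 3 + vc chevG2 (vec g) 2 by ring]
  have hJ2 : J (vc chevG2 (vec g) 2) := by
    have e0 : vc chevG2 (vec (rt chevG2 10 (1 : K) * g)) 0 = c := by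
      rw [hrow 10 0 (by decide) (by decide) (by decide), show rowS chevG2 10 0 = [] by decide]
      simp [rowVal, hcdef]
    have a := (hsum _ (hm 10 (by decide) g hg) e0).2
    rw [hrow 10 7 (by decide) (by decide) (by decide), show rowS chevG2 10 7 = [(2, 1, 1)] by decide,
      hrow 10 3 (by decide) (by decide) (by decide), show rowS chevG2 10 3 = [] by decide] at a
    simp only [rowVal, List.map_cons, List.map_nil, List.sum_cons, List.sum_nil, h1K, one_pow, one_mul,
      add_zero] at a
    refine hJcancel ?_ p2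
    rwa [show vc chevG2 (vec g) 2 + (vc chevG2 (vec g) 7 + vc chevG2 (vec g) 3) =
      vc chevG2 (vec g) 7 + vc chevG2 (vec g) 2 + vc chevG2 (vec g) 3 by ring]
  obtain ⟨j6, -⟩ := hnext g hg rfl
  -- the frame
  obtain ⟨u, hu, hvec, hconj⟩ := exists_frame O.hl O.C (O.hH hg) hc
  have hinQ : ∀ r < 12, inQ chevG2 r = true → r = 6 ∨ (8 ≤ r) := by decide
  have hsplit : ∃ (A B S M Z : K), u = rt chevG2 6 A * (rt chevG2 8 B * (rt chevG2 9 S *
      (rt chevG2 10 M * rt chevG2 11 Z))) := by
    let U8 : Subgroup (GL chevG2.Idx K) := upper chevG2 K 8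
    let X6 : Subgroup (GL chevG2.Idx K) := chevG2.rootSubgroup K 6
    have hnorm : X6 ≤ Subgroup.normalizer (U8 : Set (GL chevG2.Idx K)) := by
      have key : ∀ (t : K) (x : GL chevG2.Idx K), x ∈ U8 → (rt chevG2 6 t)⁻¹ * x * rt chevG2 6 t ∈ U8 := by
        intro t x hx
        induction hx using Subgroup.closure_induction with
        | mem y hy =>
          obtain ⟨q, z, hq1, hq2, rfl⟩ := hy
          have hterms : ∀ q < 12, 8 ≤ q → ∀ e ∈ chevG2.commTerms 6 q, 8 ≤ e.1 := by decide
          rw [mul_assoc, O.C.hC.comm_rt (show 6 < chevG2.nroots by omega) hq2 (show q ≠ 6 by omega)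
            (show q ≠ chevG2.neg 6 by rw [show chevG2.neg 6 = 5 by decide]; omega) (F := K) t z, ← mul_assoc,
            inv_mul_cancel_left]
          refine mul_mem (H52.Checked.rt_mem_upper hq1 hq2 z) (H52.Checked.wordRt_mem _ _ fun p hp => ?_)
          simp only [ChevalleyDatum.commWord, List.mem_map] at hp
          obtain ⟨e, he, rfl⟩ := hp
          exact H52.Checked.rt_mem_upper (hterms q (by omega) hq1 e he) (O.C.hC.commTerms_lt e he) _
        | one => simp
        | mul a b _ _ iha ihb =>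
          rw [show (rt chevG2 6 t)⁻¹ * (a * b) * rt chevG2 6 t =
            (rt chevG2 6 t)⁻¹ * a * rt chevG2 6 t * ((rt chevG2 6 t)⁻¹ * b * rt chevG2 6 t) by group]
          exact mul_mem iha ihb
        | inv a _ iha =>
          rw [show (rt chevG2 6 t)⁻¹ * a⁻¹ * rt chevG2 6 t = ((rt chevG2 6 t)⁻¹ * a * rt chevG2 6 t)⁻¹ by group]
          exact inv_mem iha
      show chevG2.rootSubgroup K 6 ≤ _
      rw [ChevalleyDatum.rootSubgroup, Subgroup.closure_le]
      rintro a ⟨t, ht⟩
      rw [O.C.hC.eq_rt ht, SetLike.mem_coe, Subgroup.mem_normalizer_iff]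
      intro x
      constructor
      · intro hx
        have := key (-t) _ hx
        rwa [← O.C.hC.rt_inv, inv_inv] at this
      · intro hx
        have := key t _ hx
        rwa [show (rt chevG2 6 t)⁻¹ * (rt chevG2 6 t * x * (rt chevG2 6 t)⁻¹) * rt chevG2 6 t = x by group] at this
    have hle : radQ chevG2 K ≤ X6 ⊔ U8 := by
      rw [radQ, Subgroup.closure_le]
      rintro a ⟨r, t, hr, rfl⟩
      rcases hinQ r (by simpa [hN] using (inQ_iff.1 hr).2.1) hr with rfl | h8
      · exact Subgroup.mem_sup_left (Subgroup.subset_closure ⟨t, O.C.hC.coe_rt _ _⟩)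
      · exact Subgroup.mem_sup_right (H52.Checked.rt_mem_upper h8 (inQ_iff.1 hr).2.1 t)
    have h1 := hle hu
    rw [← SetLike.mem_coe, Subgroup.coe_mul_of_left_le_normalizer_right _ _ hnorm] at h1
    obtain ⟨a, ha, b, hb, rfl⟩ := h1
    have ha' : ∃ A : K, a = rt chevG2 6 A := by
      refine Subgroup.closure_induction (p := fun x _ => ∃ A : K, x = rt chevG2 6 A) ?_ ?_ ?_ ?_ ha
      · rintro x ⟨t, ht⟩; exact ⟨t, O.C.hC.eq_rt ht⟩
      · exact ⟨0, (O.C.hC.rt_zero 6).symm⟩
      · rintro x y - - ⟨p, rfl⟩ ⟨q, rfl⟩; exact ⟨p + q, O.C.hC.rt_mul 6 p q⟩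
      · rintro x - ⟨p, rfl⟩; exact ⟨-p, O.C.hC.rt_inv 6 p⟩
    obtain ⟨A, rfl⟩ := ha'
    obtain ⟨t, rfl⟩ := O.C.hC.exists_upProd (k := 8) (by decide) hb
    refine ⟨A, t 8, t 9, t 10, t 11, ?_⟩
    rw [H52.Checked.upProd_step (k := 8) (by decide), H52.Checked.upProd_step (k := 9) (by decide),
      H52.Checked.upProd_step (k := 10) (by decide), H52.Checked.upProd_step (k := 11) (by decide)]
    simp [H52.upProd, H52.wordRt, hN]
  obtain ⟨A, B, S, M, Z, rfl⟩ := hsplit
  set u := rt chevG2 6 A * (rt chevG2 8 B * (rt chevG2 9 S * (rt chevG2 10 M * rt chevG2 11 Z))) with hudef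
  have hv : ∀ n < 14, vc chevG2 (vec g) n = c * vc chevG2 ((u : Matrix _ _ K).mulVec (bv chevG2 K 0)) n :=
    fun n _ => by rw [hvec, vc_smul]
  have hpt : ∀ n < 14, vc chevG2 (bv chevG2 K 0) n = if n = 0 then 1 else 0 := by
    intro n hn
    by_cases h12 : n < chevG2.nroots
    · exact vc_bv n h12
    · rw [vc, dif_neg h12, dif_pos (show n - chevG2.nroots < chevG2.rank by
        rw [hN, show chevG2.rank = 2 by decide]; omega), if_neg (by omega)]
      show (if chevG2.nroots + (n - chevG2.nroots) = 0 then (1 : K) else 0) = 0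
      rw [if_neg (by omega)]
  have coord : ∀ n < 14, vc chevG2 (vec g) n = c *
      ([1, A, B, S, A * S + B ^ 2, M, A ^ 2 * M + A * B * S + A * Z + B ^ 3].getD n
        (vc chevG2 ((u : Matrix _ _ K).mulVec (bv chevG2 K 0)) n)) := by
    intro n hn
    rw [hv n hn]
    congr 1
    rw [hudef, Units.val_mul, ← Matrix.mulVec_mulVec, Units.val_mul, ← Matrix.mulVec_mulVec, Units.val_mul,
      ← Matrix.mulVec_mulVec, Units.val_mul, ← Matrix.mulVec_mulVec]
    have h7 : n < 7 ∨ 7 ≤ n := Nat.lt_or_ge n 7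
    rcases h7 with h7 | h7
    · interval_cases n <;>
        simp (disch := decide) [row_odd O.C h2, rowsOf, oddTab, hpt, -Matrix.mulVec_mulVec] <;>
        first
          | rfl
          | (simp only [List.getElem?_cons_zero, Option.getD_some] <;> ring)
          | ring
          | linear_combination (A * B * S + A ^ 2 * M + A * Z + B ^ 3) * h2
          | linear_combination (0 : K) * h2
    · rw [List.getD_eq_getElem?_getD, List.getElem?_eq_none (by simp; omega)]
      rfl
  have hdiv : ∀ n < 14, ∀ x, vc chevG2 (vec g) n = c * x → x = vc chevG2 (vec g) n / c := fun n _ x h => by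
    rw [h, mul_div_cancel_left₀ _ hc]
  have eA : A = w := (hdiv 1 (by omega) A (by simpa using coord 1 (by omega))).trans hwdef.symm
  have IA : I4 w A := ⟨2, eA.symm⟩
  have IB : I4 w B := by rw [hdiv 2 (by omega) B (by simpa using coord 2 (by omega))]; exact hJ2
  have IS : I4 w S := by rw [hdiv 3 (by omega) S (by simpa using coord 3 (by omega))]; exact hJ3
  have eM := hdiv 5 (by omega) M (by simpa using coord 5 (by omega))
  have hMq : M ^ 2 + M + 1 = 0 := by rw [eM]; exact hOm g hg rfl 5 (Or.inr rfl)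
  have hAne : A ≠ 0 := by rw [eA]; exact (w_ne h2 hw).1
  have IM : I4 w M := by
    rw [eM]; exact O.g2_ratio h2 hF hw hg hc (Or.inr rfl)
  have IZ : I4 w Z := by
    have e6 := hdiv 6 (by omega) _ (by simpa using coord 6 (by omega))
    have : A * Z = vc chevG2 (vec g) 6 / c + (A * A * M + A * B * S + B * (B * B)) := by
      rw [← e6]; linear_combination (-(A * A * M + A * B * S + B ^ 3)) * h2
    have hi : Z = A⁻¹ * (A * Z) := by rw [inv_mul_cancel_left₀ hAne]
    rw [hi, this]
    exact I4.mul h2 hw (I4.inv h2 hw IA) (h14 j6 (h14 (h14 (I4.mul h2 hw (I4.mul h2 hw IA IA) IM)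
      (I4.mul h2 hw (I4.mul h2 hw IA IB) IS)) (I4.mul h2 hw IB (I4.mul h2 hw IB IB))))
  obtain ⟨b, rfl⟩ := IB
  obtain ⟨s, rfl⟩ := IS
  obtain ⟨m, hm'⟩ := IM
  obtain ⟨z, rfl⟩ := IZ
  rw [← ev4_mod w b, ← ev4_mod w s, ← ev4_mod w z] at hudef
  rw [← ev4_mod w m] at hm'
  set b' := b % 4
  set s' := s % 4
  set m' := m % 4
  set z' := z % 4
  have hb4 : b' < 4 := Nat.mod_lt _ (by decide)
  have hs4 : s' < 4 := Nat.mod_lt _ (by decide)
  have hm4 : m' < 4 := Nat.mod_lt _ (by decide)
  have hz4 : z' < 4 := Nat.mod_lt _ (by decide)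
  have hm23 : m' ∈ [2, 3] := by
    have h0 : m' ≠ 0 := by
      intro e; rw [e] at hm'; rw [← hm'] at hMq; simp [ev4] at hMq
    have h1 : m' ≠ 1 := by
      intro e
      rw [e] at hm'
      rw [← hm'] at hMq
      exact one_ne_zero (α := K) (by simp [ev4] at hMq; linear_combination hMq - h2)
    simp only [List.mem_cons, List.not_mem_nil, or_false]
    omega
  have hmem4 : ∀ n < 4, n ∈ [0, 1, 2, 3] := by decide
  have href := refute_all
  simp only [List.all_eq_true] at href
  have href' := href 2 (by simp) b' (hmem4 _ hb4) s' (hmem4 _ hs4) m' hm23 z' (hmem4 _ hz4)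
  set p := [2, b', s', m', z'] with hp
  have huW : u = wordRt chevG2 ((uWord p).map fun q => (q.1, ev4 w q.2)) := by
    rw [hudef, eA, ← hm']
    simp [hp, uWord, wordRt, show ev4 w 2 = w from rfl, mul_assoc]
  have hp12 : ∀ q ∈ uWord p, q.1 < 12 := by
    intro q hq
    simp [hp, uWord] at hq
    rcases hq with rfl | rfl | rfl | rfl | rfl <;> simp
  set V := runF (uWord p) e0F
  have hrep0 : Rep w (bv chevG2 K 0) e0F := by
    intro n hn
    rw [hpt n hn]
    interval_cases n <;> simp [e0F, ev4]
  have hrepV : Rep w ((u : Matrix _ _ K).mulVec (bv chevG2 K 0)) V := by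
    rw [huW]; exact runF_rep O.C h2 hw _ hp12 hrep0
  -- elements of `H`
  have hones : ∀ l ∈ tryL, ∀ q ∈ ones l, q.1 < 12 ∧ q.2 = 1 := by decide +kernel
  have honesP : ∀ l ∈ tryP, ∀ q ∈ ones l.1 ++ ones l.2, q.1 < 12 ∧ q.2 = 1 := by decide +kernel
  have hwH : ∀ W : List (ℕ × ℕ), (∀ q ∈ W, q.1 < 12 ∧ q.2 = 1) →
      wordRt chevG2 (W.map fun q => (q.1, ev4 w q.2)) ∈ O.H := by
    intro W hW
    refine H52.Checked.wordRt_mem _ _ fun q hq => ?_
    obtain ⟨q', hq', rfl⟩ := List.mem_map.1 hq
    obtain ⟨h1, h1'⟩ := hW q' hq'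
    rw [show ev4 w q'.2 = 1 by rw [h1']; rfl]
    exact O.hone _ (by omega)
  -- a critical translate has coordinate one
  have hcrit : ∀ g' ∈ O.H, ∀ (d : K) (W : List ℕ), d ≠ 0 → W.getD 0 0 < 4 →
      (∀ n < 14, vc chevG2 (vec g') n = d * ev4 w (W.getD n 0)) → crit W = true → d * ev4 w (W.getD 0 0) = 1 := by
    intro g' hg' d W hd hlt hW hcr
    simp only [crit, Bool.and_eq_true, bne_iff_ne, Bool.or_eq_true, beq_iff_eq] at hcr
    obtain ⟨h0, hcases⟩ := hcr
    have hx : vc chevG2 (vec g') 0 = d * ev4 w (W.getD 0 0) := hW 0 (by omega)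
    have hxz : vc chevG2 (vec g') 0 ≠ 0 := by
      rw [hx]
      refine mul_ne_zero hd fun e => h0 ?_
      exact ev4_inj h2 hw hlt (by omega) (e.trans rfl)
    have key : ∀ (j β γ : ℕ), pairOK chevG2 β γ = true → low chevG2 γ = j → j < 14 →
        (W.getD j 0 = 0 ∨ W.getD j 0 = W.getD 0 0) → vc chevG2 (vec g') 0 ∈ O.F := by
      intro j β γ hp hl hj14 hj
      refine O.c_mem_of_param (pairData hp) lowChk_G2 hg' hxz ?_
      rw [hl, hW j hj14, hx]
      rcases hj with e | e
      · rw [e, show ev4 w 0 = (0 : K) from rfl, mul_zero, zero_div]; exact zero_mem _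
      · rw [e, div_self (by rw [← hx]; exact hxz)]; exact one_mem _
    have hmemF : vc chevG2 (vec g') 0 ∈ O.F := by
      rcases hcases with h | h
      · exact key 1 10 6 pair_G2 (by decide) (by omega) h
      · exact key 5 6 10 hpo (by decide) (by omega) h
    rw [← hx]
    exact (O.card_two_mem hF _ hmemF).resolve_left hxz
  have hlt4 : ∀ (W : List (ℕ × ℕ)) (V : List ℕ), (∀ n, V.getD n 0 < 4) → ∀ n, (runF W V).getD n 0 < 4 := by
    intro W V hV
    induction W with
    | nil => exact hV
    | cons q W ih =>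
      intro n
      show (appF q.1 q.2 (runF W V)).getD n 0 < 4
      rw [appF, List.getD_eq_getElem?_getD, List.getElem?_map]
      cases (rowsOf q.1)[n]? with
      | none => simp
      | some row =>
        cases row with
        | nil => simp
        | cons e l =>
          simp only [Option.map_some, Option.getD_some, List.foldr_cons, fadd]
          exact Nat.xor_lt_two_pow (n := 2) (Nat.mod_lt _ (by decide)) (Nat.mod_lt _ (by decide))
  have hV4 : ∀ n, V.getD n 0 < 4 := hlt4 _ _ (by
    intro n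
    by_cases hn : n < 14
    · interval_cases n <;> simp [e0F]
    · rw [List.getD_eq_getElem?_getD, List.getElem?_eq_none (by simp [e0F]; omega)]
      simp)
  have hrepg : ∀ n < 14, vc chevG2 (vec g) n = c * ev4 w (V.getD n 0) := fun n hn => by
    rw [hv n hn, hrepV n hn]
  -- translates
  have htrans : ∀ l ∈ tryL, ∃ g' ∈ O.H, ∀ n < 14,
      vc chevG2 (vec g') n = c * ev4 w ((runF (ones l) V).getD n 0) := by
    intro l hl
    refine ⟨_, mul_mem (hwH _ (hones l hl)) hg, fun n hn => ?_⟩
    rw [vec_mul, hvec, Matrix.mulVec_smul, vc_smul]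
    congr 1
    exact runF_rep O.C h2 hw _ (fun q hq => (hones l hl q hq).1) hrepV n hn
  have hone' : ∀ l ∈ tryL, crit (runF (ones l) V) = true → c * ev4 w ((runF (ones l) V).getD 0 0) = 1 := by
    intro l hl hcr
    obtain ⟨g', hg', hW⟩ := htrans l hl
    exact hcrit g' hg' c _ hc (hlt4 _ _ hV4 0) hW hcr
  simp only [refute, Bool.or_eq_true, List.any_eq_true, Bool.and_eq_true, beq_iff_eq, bne_iff_ne] at href'
  rcases href' with (⟨l, hl, hcr, h1⟩ | ⟨l, hl, l', hl', ⟨hcr, hcr'⟩, hne⟩) | ⟨l, hl, hcr, q, hq, hcrq, hq1⟩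
  · have := hone' l hl hcr
    rw [h1, show ev4 w 1 = (1 : K) from rfl, mul_one] at this
    exact hcF (by rw [this]; exact one_mem _)
  · have e1 := hone' l hl hcr
    have e2 := hone' l' hl' hcr'
    exact hne (ev4_inj h2 hw (hlt4 _ _ hV4 0) (hlt4 _ _ hV4 0) (mul_left_cancel₀ hc (e1.trans e2.symm)))
  · set x0 := (runF (ones l) V).getD 0 0
    have hx4 : x0 < 4 := hlt4 _ _ hV4 0
    have e1 := hone' l hl hcr
    have hkey : ∀ x < 4, c * ev4 w x = 1 → ev4 w (finv x) = c := by
      intro x hx e
      interval_cases x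
      · simp [ev4] at e
      · simp [ev4] at e; simp [finv, ev4, e]
      · simp [ev4] at e; simp [finv, ev4]
        exact mul_right_cancel₀ (w_ne h2 hw).1 (by linear_combination hw - e - h2)
      · simp [ev4] at e; simp [finv, ev4]
        exact mul_right_cancel₀ (w_ne h2 hw).2 (by linear_combination hw - e - h2)
    have hce : ev4 w (finv x0) = c := hkey _ hx4 e1
    set cc := finv x0
    set Yw := uWord p ++ [(0, cc)] ++ (uWord p).reverse
    have hY : wordRt chevG2 (Yw.map fun q => (q.1, ev4 w q.2)) = g * rt chevG2 (chevG2.nroots - 1) 1 * g⁻¹ := by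
      rw [hconj 1, mul_one, ← hcdef, ← hce]
      have hrev : ∀ l : List (ℕ × ℕ), wordRt chevG2 (l.reverse.map fun q => (q.1, ev4 w q.2)) =
          (wordRt chevG2 (l.map fun q => (q.1, ev4 w q.2)))⁻¹ := by
        intro l
        induction l with
        | nil => simp [wordRt]
        | cons a l ih =>
          simp only [List.reverse_cons, List.map_append, List.map_cons, List.map_nil, wordRt, List.prod_append,
            List.prod_cons, List.prod_nil, mul_one, mul_inv_rev, O.C.hC.rt_inv, two_neg h2] at ih ⊢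
          rw [ih]
      have happ : ∀ a b : List (ℕ × ℕ), wordRt chevG2 ((a ++ b).map fun q => (q.1, ev4 w q.2)) =
          wordRt chevG2 (a.map fun q => (q.1, ev4 w q.2)) * wordRt chevG2 (b.map fun q => (q.1, ev4 w q.2)) :=
        fun a b => by simp [wordRt]
      simp only [Yw, happ, hrev, ← huW]
      congr 2
      simp [wordRt]
    have hYH : wordRt chevG2 (Yw.map fun q => (q.1, ev4 w q.2)) ∈ O.H := by
      rw [hY]; exact mul_mem (mul_mem hg (O.hone _ O.top_lt)) (inv_mem hg)
    have hq' := honesP q hq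
    have hall : ∀ x ∈ ones q.1 ++ Yw ++ ones q.2, x.1 < 12 := by
      intro x hx
      simp only [List.mem_append] at hx
      rcases hx with (hx | hx) | hx
      · exact (hq' x (List.mem_append_left _ hx)).1
      · simp only [Yw, List.mem_append, List.mem_reverse, List.mem_singleton] at hx
        rcases hx with (hx | rfl) | hx
        exacts [hp12 x hx, by simp, hp12 x hx]
      · exact (hq' x (List.mem_append_right _ hx)).1
    have hrepc : Rep w (vec g) (V.map (fmul cc)) := by
      intro n hn
      rw [hrepg n hn, List.getD_eq_getElem?_getD (l := List.map _ _), List.getElem?_map]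
      cases hh : V[n]? with
      | none => simp [List.getD_eq_getElem?_getD, hh, ev4]
      | some a => simp [List.getD_eq_getElem?_getD, hh, ev4_mul h2 hw, hce]
    have hwd : wordRt chevG2 ((ones q.1 ++ Yw ++ ones q.2).map fun q => (q.1, ev4 w q.2)) ∈ O.H := by
      simp only [List.map_append, wordRt, List.prod_append]
      exact mul_mem (mul_mem (hwH _ fun x hx => hq' x (List.mem_append_left _ hx)) hYH)
        (hwH _ fun x hx => hq' x (List.mem_append_right _ hx))
    have hmap4 : ∀ n, (V.map (fmul cc)).getD n 0 < 4 := by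
      intro n
      rw [List.getD_eq_getElem?_getD, List.getElem?_map]
      cases V[n]? with
      | none => simp
      | some a =>
        have : ∀ i < 4, ∀ j < 4, [0, 0, 0, 0, 0, 1, 2, 3, 0, 2, 3, 1, 0, 3, 1, 2].getD (4 * i + j) 0 < 4 := by
          decide
        exact this _ (Nat.mod_lt _ (by decide)) _ (Nat.mod_lt _ (by decide))
    have := hcrit _ (mul_mem hwd hg) 1 _ one_ne_zero (hlt4 _ _ hmap4 0) (fun n hn => by
      rw [vec_mul, one_mul]
      exact runF_rep O.C h2 hw _ hall hrepc n hn) hcrq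
    rw [one_mul] at this
    exact hq1 (ev4_inj h2 hw (hlt4 _ _ hmap4 0) (by omega) (this.trans rfl))

/-- `c ∈ F` in type `G₂`. -/
theorem c_mem_g2 {g : GL chevG2.Idx K} (hg : g ∈ O.H) : vc chevG2 (vec g) 0 ∈ O.F := by
  by_cases hc : vc chevG2 (vec g) 0 = 0
  · rw [hc]; exact zero_mem _
  rcases O.c_cases hg hc with h | ⟨h2, hF⟩ | ⟨hF, hsq⟩
  exacts [h, O.g2_two h2 hF hg hc, O.c_mem_three (pairData pair_G2) lowChk_G2 hg hc hF hsq]

end Ov

end H66.Subfield
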