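import Cfsg.Agent.H66.Subfield.Coord

/-!
`c ∈ F` for the types with long roots of level one and a long fundamental root of level zero moving them.
-/

set_option autoImplicit false
set_option linter.unusedSectionVars false

open Cfsg.Lie H52
open scoped MatrixGroups

namespace H66.Subfield

/-- The list of commutator terms is one term with a unit coefficient. -/
def oneTerm (D : ChevalleyDatum) (r s k : ℕ) : Bool :=
  match D.commTerms r s with
  | [(k', m, 1, 1)] => k' == k && decide (m.natAbs = 1)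
  | _ => false

/-- The coefficient of a single commutator term. -/
def termCoef (D : ChevalleyDatum) (r s : ℕ) : ℤ := ((D.commTerms r s).headD (0, 0, 0, 0)).2.1

/-- Long roots `β`, `γ` of level one with `β + γ = α`. -/
def pairOK (D : ChevalleyDatum) (β γ : ℕ) : Bool :=
  inQ1 D β && inQ1 D γ && isLong D β && isLong D γ && β != γ &&
    oneTerm D γ β (D.nroots - 1) && oneTerm D 0 β (D.neg γ) && oneTerm D (D.nroots - 1) (D.neg γ) β &&
    (D.commTerms 0 (D.neg γ)).isEmpty && (D.commTerms β (D.neg γ)).isEmpty &&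
    (D.commTerms (D.nroots - 1) β).isEmpty &&
    ((List.range' (D.nroots / 2) (D.nroots - D.nroots / 2)).all fun s =>
      !inQ D s || s == β || s == γ || (D.commTerms s β).isEmpty) &&
    (match rowS D (D.neg γ) 0 with
     | [(j, 1, m)] => j == low D γ && decide (m.natAbs = 1)
     | _ => false)

/-- A fundamental root moving one long root of level one to another. -/
def triOK (D : ChevalleyDatum) (γ γ1 θ : ℕ) : Bool :=
  decide (D.nroots / 2 ≤ θ) && decide (θ < D.nroots) &&
    (match rowS D θ (low D γ) with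
     | [(j, 1, m)] => j == low D γ1 && decide (m.natAbs = 1)
     | _ => false)

variable {D : ChevalleyDatum} {K : Type*} [Field K]

theorem cast_unit {m : ℤ} (h : m.natAbs = 1) : (m : K) * (m : K) = 1 := by
  rcases Int.natAbs_eq_iff.1 h with rfl | rfl <;> simp

theorem oneTerm_word {r s k : ℕ} (h : oneTerm D r s k = true) (t u : K) :
    (termCoef D r s).natAbs = 1 ∧ wordRt D (D.commWord K r s t u) = rt D k ((termCoef D r s : K) * (-t) * u) := by
  unfold oneTerm at h
  split at h
  · rename_i k' m heq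
    simp only [Bool.and_eq_true, beq_iff_eq, decide_eq_true_eq] at h
    obtain ⟨rfl, hm⟩ := h
    refine ⟨by simp [termCoef, heq, hm], ?_⟩
    simp [wordRt, ChevalleyDatum.commWord, heq, termCoef]
  · exact absurd h (by decide)

theorem empty_word {r s : ℕ} (h : (D.commTerms r s).isEmpty = true) (t u : K) :
    wordRt D (D.commWord K r s t u) = 1 := by
  simp [wordRt, ChevalleyDatum.commWord, List.isEmpty_iff.1 h]

structure PairData (D : ChevalleyDatum) (β γ : ℕ) : Prop where
  hβ : inQ1 D β = true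
  hγ : inQ1 D γ = true
  lβ : isLong D β = true
  lγ : isLong D γ = true
  ne : β ≠ γ
  gb : oneTerm D γ β (D.nroots - 1) = true
  bb : oneTerm D 0 β (D.neg γ) = true
  tg : oneTerm D (D.nroots - 1) (D.neg γ) β = true
  bg : (D.commTerms 0 (D.neg γ)).isEmpty = true
  βg : (D.commTerms β (D.neg γ)).isEmpty = true
  tb : (D.commTerms (D.nroots - 1) β).isEmpty = true
  other : ∀ s, inQ D s = true → s ≠ β → s ≠ γ → (D.commTerms s β).isEmpty = true
  row : ∃ m : ℤ, m.natAbs = 1 ∧ rowS D (D.neg γ) 0 = [(low D γ, 1, m)]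

theorem pairData {β γ : ℕ} (h : pairOK D β γ = true) : PairData D β γ := by
  simp only [pairOK, Bool.and_eq_true, List.all_eq_true, List.mem_range'_1, Bool.or_eq_true,
    Bool.not_eq_true', beq_iff_eq, bne_iff_ne] at h
  obtain ⟨⟨⟨⟨⟨⟨⟨⟨⟨⟨⟨⟨h1, h2⟩, h3⟩, h4⟩, h5⟩, h6⟩, h7⟩, h8⟩, h9⟩, h10⟩, h11⟩, h12⟩, h13⟩ := h
  refine ⟨h1, h2, h3, h4, h5, h6, h7, h8, h9, h10, h11, fun s hs hne hne' => ?_, ?_⟩
  · obtain ⟨s1, s2, -⟩ := inQ_iff.1 hs
    rcases h12 s ⟨s1, by omega⟩ with ((h | h) | h) | h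
    · rw [hs] at h; exact absurd h (by decide)
    · exact absurd h hne
    · exact absurd h hne'
    · exact h
  · split at h13
    · rename_i j m heq
      simp only [Bool.and_eq_true, beq_iff_eq, decide_eq_true_eq] at h13
      exact ⟨m, h13.2, by rw [heq, h13.1]⟩
    · exact absurd h13 (by decide)

namespace Ov

variable [Fintype K] (O : Ov D K)
include O

theorem bot_mem : rt D 0 (1 : K) ∈ O.H := O.hone 0 (by have := O.hN; omega)

/-- Conjugation of `x_β` by the radical. -/
theorem radQ_conj_of {β γ : ℕ} (hk : lowChk D = true) (hβ : inQ1 D β = true) (hγ : inQ1 D γ = true)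
    (hne : β ≠ γ) {C' : ℤ} (hterm : D.commTerms γ β = [(D.nroots - 1, C', 1, 1)])
    (hother : ∀ s, inQ D s = true → s ≠ β → s ≠ γ → (D.commTerms s β).isEmpty = true) {u : GL D.Idx K} (hu : u ∈ radQ D K) :
    ∃ T : K, (∀ w : D.Idx → K, vc D ((u : Matrix D.Idx D.Idx K).mulVec w) (low D γ) =
        vc D w (low D γ) + T * vc D w 0) ∧
      ∀ b : K, u * rt D β b * u⁻¹ =
        rt D β b * rt D (D.nroots - 1) ((C' : K) * (mlow D γ : K) * T * b) := by
  obtain ⟨hj, hM, -, hrow⟩ := low_spec hk hγ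
  obtain ⟨p3, p1, q3⟩ := inQ1_iff.1 hβ
  obtain ⟨p4, p2, -⟩ := inQ1_iff.1 hγ
  have p6 : β ≠ D.nroots - 1 := by rintro rfl; rw [lvl_top O.hl] at q3; omega
  have hT := O.top_lt
  have hfix : ∀ {v : GL D.Idx K}, v ∈ radQ D K → ∀ z : K,
      v * rt D (D.nroots - 1) z * v⁻¹ = rt D (D.nroots - 1) z := fun hv =>
    (pos_top O.hl O.C (radQ_le_pos O.hl O.C hv)).2
  induction hu using Subgroup.closure_induction with
  | mem y hy =>
    obtain ⟨s, t, hs, rfl⟩ := hy
    obtain ⟨s1, s2, -⟩ := inQ_iff.1 hs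
    refine ⟨if s == γ then (mlow D γ : K) * t else 0, fun w => ?_, fun b => ?_⟩
    · rw [row_apply O.C.hC s2 (by omega), hrow s hs, if_neg (show ¬ low D γ = s by omega), add_zero]
      split_ifs <;> simp [rowVal]
    · have hfs := hfix (rt_mem_radQ hs t)
      have hneg : β ≠ D.neg s := by
        have := O.C.hC.neg_eq s2
        have := O.C.hC.nroots_eq
        omega
      by_cases e1 : s = β
      · subst e1
        have : (s == γ) = false := by simpa using hne
        rw [this]
        simp only [Bool.false_eq_true, if_false, mul_zero, zero_mul, O.C.hC.rt_zero, mul_one]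
        rw [O.C.hC.rt_mul, add_comm t b, ← O.C.hC.rt_mul, mul_inv_cancel_right]
      have hc := O.C.hC.comm_rt s2 p1 (Ne.symm e1) hneg (F := K) t b
      by_cases e2 : s = γ
      · subst e2
        have hw : wordRt D (D.commWord K s β t b) = rt D (D.nroots - 1) ((C' : K) * (-t) * b) := by
          simp [wordRt, ChevalleyDatum.commWord, hterm]
        rw [hw] at hc
        have h1 : rt D s t * rt D β b = rt D β b * rt D s t *
            rt D (D.nroots - 1) ((C' : K) * t * b) := by
          rw [hc, mul_assoc, O.C.hC.rt_mul]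
          simp [O.C.hC.rt_zero]
        rw [h1, beq_self_eq_true]
        simp only [if_true]
        rw [show (C' : K) * (mlow D s : K) * ((mlow D s : K) * t) * b =
          (C' : K) * t * b * ((mlow D s : K) * (mlow D s : K)) by ring, cast_unit hM, mul_one]
        set z := (C' : K) * t * b
        rw [show rt D β b * rt D s t * rt D (D.nroots - 1) z * (rt D s t)⁻¹ =
          rt D β b * (rt D s t * rt D (D.nroots - 1) z * (rt D s t)⁻¹) by group, hfs]
      · rw [empty_word (hother s hs e1 e2), mul_one] at hc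
        have : (s == γ) = false := by simpa using e2
        rw [this, ← hc]
        simp [O.C.hC.rt_zero]
  | one => exact ⟨0, fun w => by simp, fun b => by simp [O.C.hC.rt_zero]⟩
  | mul a b ha hb iha ihb =>
    obtain ⟨A, hA, hA'⟩ := iha
    obtain ⟨B, hB, hB'⟩ := ihb
    refine ⟨A + B, fun w => ?_, fun x => ?_⟩
    · rw [Units.val_mul, ← Matrix.mulVec_mulVec, hA, hB, radQ_bot hk O.C hb]; ring
    · rw [show a * b * rt D β x * (a * b)⁻¹ = a * (b * rt D β x * b⁻¹) * a⁻¹ by group, hB']
      rw [show ∀ p q : GL D.Idx K, a * (p * q) * a⁻¹ = a * p * a⁻¹ * (a * q * a⁻¹) from fun p q => by group,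
        hA', hfix ha, mul_assoc, O.C.hC.rt_mul]
      congr 2; ring
  | inv a ha iha =>
    obtain ⟨A, hA, hA'⟩ := iha
    refine ⟨-A, fun w => ?_, fun x => ?_⟩
    · have h1 := hA ((a⁻¹ : GL D.Idx K).1.mulVec w)
      rw [Matrix.mulVec_mulVec, ← Units.val_mul, mul_inv_cancel, Units.val_one, Matrix.one_mulVec,
        radQ_bot hk O.C (inv_mem ha)] at h1
      rw [h1]; ring
    · have h1 := hA' x
      have h2 : rt D β x = a⁻¹ * (a * rt D β x * a⁻¹) * a := by group
      rw [inv_inv]
      rw [h1] at h2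
      have h3 : ∀ z, a⁻¹ * rt D (D.nroots - 1) z * a = rt D (D.nroots - 1) z := fun z => by
        have := hfix (inv_mem ha) z
        rwa [inv_inv] at this
      rw [show ∀ p q : GL D.Idx K, a⁻¹ * (p * q) * a = a⁻¹ * p * a * (a⁻¹ * q * a) from fun p q => by group,
        h3, ← mul_inv_eq_iff_eq_mul, O.C.hC.rt_inv] at h2
      rw [← h2]
      congr 2
      ring

variable {β γ : ℕ} (P : PairData D β γ) (hk : lowChk D = true)
include P hk

theorem pair_lt : β < D.nroots ∧ γ < D.nroots ∧ D.nroots / 2 ≤ β ∧ D.nroots / 2 ≤ γ ∧ D.neg γ < D.nroots / 2 ∧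
    β ≠ D.nroots - 1 ∧ γ ≠ D.nroots - 1 ∧ D.neg γ ≠ 0 := by
  obtain ⟨a1, a2, a3⟩ := inQ1_iff.1 P.hβ
  obtain ⟨b1, b2, b3⟩ := inQ1_iff.1 P.hγ
  have := O.C.hC.neg_eq b2
  have := O.C.hC.nroots_eq
  have hb : γ ≠ D.nroots - 1 := by rintro rfl; rw [lvl_top O.hl] at b3; omega
  have ha : β ≠ D.nroots - 1 := by rintro rfl; rw [lvl_top O.hl] at a3; omega
  omega

/-- Conjugation of `x_β` by the radical. -/
theorem radQ_conj {u : GL D.Idx K} (hu : u ∈ radQ D K) :
    ∃ T : K, (∀ w : D.Idx → K, vc D ((u : Matrix D.Idx D.Idx K).mulVec w) (low D γ) =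
        vc D w (low D γ) + T * vc D w 0) ∧
      ∀ b : K, u * rt D β b * u⁻¹ =
        rt D β b * rt D (D.nroots - 1) ((termCoef D γ β : K) * (mlow D γ : K) * T * b) := by
  have h := P.gb
  unfold oneTerm at h
  split at h
  · rename_i k' m heq
    simp only [Bool.and_eq_true, beq_iff_eq] at h
    obtain ⟨rfl, -⟩ := h
    have := O.radQ_conj_of hk P.hβ P.hγ P.ne heq P.other hu
    rwa [show termCoef D γ β = m by simp [termCoef, heq]]
  · exact absurd h (by decide)

/-- The elements of `X_β X_α` in `H` have parameters in `F`. -/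
theorem plane_mem {a b : K} (h : rt D β b * rt D (D.nroots - 1) a ∈ O.H) : b ∈ O.F ∧ a ∈ O.F := by
  obtain ⟨p1, p2, p3, p4, p5, p6, p7, p8⟩ := O.pair_lt P hk
  have hneg : β ≠ D.neg γ := by omega
  obtain ⟨hu1, hw⟩ := oneTerm_word (K := K) P.gb (1 : K) b
  have hc := O.C.hC.comm_rt p2 p1 P.ne hneg (F := K) 1 b
  rw [hw] at hc
  have hg := O.hone γ p2
  have hfs : ∀ z, rt D γ (1 : K) * rt D (D.nroots - 1) z * (rt D γ 1)⁻¹ = rt D (D.nroots - 1) z :=
    (pos_top O.hl O.C (O.C.hC.rt_mem_pos p4 p2 1)).2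
  set z := (termCoef D γ β : K) * -1 * b
  have key : (rt D β b * rt D (D.nroots - 1) a) * rt D γ 1 =
      rt D γ 1 * (rt D β b * rt D (D.nroots - 1) a) * rt D (D.nroots - 1) z := by
    have h1 : rt D (D.nroots - 1) a * rt D γ 1 = rt D γ (1 : K) * rt D (D.nroots - 1) a := by
      rw [eq_comm, ← mul_inv_eq_iff_eq_mul]; exact hfs a
    rw [mul_assoc, h1, ← mul_assoc, hc]
    simp only [mul_assoc, O.C.hC.rt_mul, add_comm z a]
  have hz : rt D (D.nroots - 1) z ∈ O.H := by
    rw [← inv_mul_eq_iff_eq_mul] at key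
    rw [← key]
    exact mul_mem (inv_mem (mul_mem hg h)) (mul_mem h hg)
  have hb : b ∈ O.F := by
    have h1 : z * (-(termCoef D γ β : K)) ∈ O.F :=
      mul_mem (O.mem_F.2 hz) (neg_mem (intCast_mem _ _))
    rwa [show z * (-(termCoef D γ β : K)) = b * ((termCoef D γ β : K) * (termCoef D γ β : K)) by ring,
      cast_unit hu1, mul_one] at h1
  refine ⟨hb, O.mem_F.2 ?_⟩
  have h2 := mul_mem (inv_mem (O.rt_mem p1 hb)) h
  rwa [inv_mul_cancel_left] at h2

/-- If one long parameter of level one lies in `F` then so does `c`. -/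
theorem c_mem_of_param {g : GL D.Idx K} (hg : g ∈ O.H) (hc : vc D (vec g) 0 ≠ 0)
    (hT : vc D (vec g) (low D γ) / vc D (vec g) 0 ∈ O.F) : vc D (vec g) 0 ∈ O.F := by
  obtain ⟨p1, p2, p3, p4, p5, p6, p7, p8⟩ := O.pair_lt P hk
  obtain ⟨u, hu, hvec, hconj⟩ := exists_frame O.hl O.C (O.hH hg) hc
  obtain ⟨T, hT1, hT2⟩ := O.radQ_conj P hk hu
  obtain ⟨hj, -, -, -⟩ := low_spec hk P.hγ
  obtain ⟨m, hm, hrow⟩ := P.row
  set c := vc D (vec g) 0 with hcdef
  have hlow : low D γ ≠ 0 := by
    intro e0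
    have h1 := (low_spec hk P.hγ).2.2.2 γ (inQ_iff.2 ⟨p4, p2, by rw [(inQ1_iff.1 P.hγ).2.2]⟩)
    rw [e0, rowS_bot hk p4 p2, beq_self_eq_true] at h1
    simp at h1
  have hTF : T ∈ O.F := by
    rw [hvec, vc_smul, hT1, vc_bv _ (by omega), vc_bv _ (by omega), if_neg hlow, if_pos rfl, zero_add, mul_one,
      mul_div_cancel_left₀ _ hc] at hT
    exact hT
  have hN2 := O.hN
  have hT' := O.top_lt
  let H' : Subgroup (GL D.Idx K) := O.H.comap (MulAut.conj u).toMonoidHom
  have hmem : ∀ x, x ∈ H' ↔ u * x * u⁻¹ ∈ O.H := fun x => Iff.rfl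
  have hα : rt D (D.nroots - 1) (1 : K) ∈ H' := by
    rw [hmem, (pos_top O.hl O.C (radQ_le_pos O.hl O.C hu)).2]; exact O.hone _ hT'
  have hy : rt D 0 c ∈ H' := by
    rw [hmem]
    have := hconj 1
    rw [mul_one] at this
    rw [← this]
    exact mul_mem (mul_mem hg (O.hone _ hT')) (inv_mem hg)
  have hβ1 : rt D β (1 : K) ∈ H' := by
    rw [hmem, hT2]
    exact mul_mem (O.hone _ p1) (O.mem_F.1 (mul_mem (mul_mem (mul_mem (intCast_mem _ _) (intCast_mem _ _)) hTF)
      (one_mem _)))
  have hn0 : D.neg 0 = D.nroots - 1 := by rw [O.C.hC.neg_eq (by omega)]; omega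
  obtain ⟨hu1, hw1⟩ := oneTerm_word (K := K) P.bb c (1 : K)
  have hc1 := O.C.hC.comm_rt (show 0 < D.nroots by omega) p1 (show β ≠ 0 by omega) (by rw [hn0]; exact p6)
    (F := K) c 1
  rw [hw1] at hc1
  set z := (termCoef D 0 β : K) * -c * 1
  have hz : rt D (D.neg γ) z ∈ H' := by
    rw [← inv_mul_eq_iff_eq_mul] at hc1
    rw [← hc1]
    exact mul_mem (inv_mem (mul_mem hy hβ1)) (mul_mem hβ1 hy)
  obtain ⟨hu2, hw2⟩ := oneTerm_word (K := K) P.tg (1 : K) z
  have hc2 := O.C.hC.comm_rt hT' (show D.neg γ < D.nroots by omega) (show D.neg γ ≠ D.nroots - 1 by omega)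
    (by rw [O.neg_top]; exact p8) (F := K) 1 z
  rw [hw2] at hc2
  set w := (termCoef D (D.nroots - 1) (D.neg γ) : K) * -1 * z
  have hw : rt D β w ∈ H' := by
    rw [← inv_mul_eq_iff_eq_mul] at hc2
    rw [← hc2]
    exact mul_mem (inv_mem (mul_mem hα hz)) (mul_mem hz hα)
  rw [hmem, hT2] at hw
  have hwF := (O.plane_mem P hk hw).1
  have h3 : w * ((termCoef D (D.nroots - 1) (D.neg γ) : K) * (termCoef D 0 β : K)) ∈ O.F :=
    mul_mem hwF (mul_mem (intCast_mem _ _) (intCast_mem _ _))
  rwa [show w * ((termCoef D (D.nroots - 1) (D.neg γ) : K) * (termCoef D 0 β : K)) =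
    c * (((termCoef D (D.nroots - 1) (D.neg γ) : K) * (termCoef D (D.nroots - 1) (D.neg γ) : K)) *
      ((termCoef D 0 β : K) * (termCoef D 0 β : K))) by simp only [w, z]; ring, cast_unit hu2, cast_unit hu1,
    mul_one, mul_one] at h3

/-- Over two elements, a long parameter of level one has degree at most two. -/
theorem param_quad (h2 : (2 : K) = 0) (hF : Nat.card O.F = 2) {g : GL D.Idx K} (hg : g ∈ O.H)
    (hc : vc D (vec g) 0 ≠ 0) :
    vc D (vec g) (low D γ) / vc D (vec g) 0 ∈ O.F ∨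
      (vc D (vec g) (low D γ) / vc D (vec g) 0) ^ 2 + vc D (vec g) (low D γ) / vc D (vec g) 0 + 1 = 0 := by
  classical
  obtain ⟨p1, p2, p3, p4, p5, p6, p7, p8⟩ := O.pair_lt P hk
  have hN2 := O.hN
  have hT' := O.top_lt
  have hb0 : (0 : ℕ) < D.nroots := by omega
  have hn0 : D.neg 0 = D.nroots - 1 := by rw [O.C.hC.neg_eq hb0]; omega
  obtain ⟨u, hu, hvec, hconj⟩ := exists_frame O.hl O.C (O.hH hg) hc
  obtain ⟨T, hT1, hT2⟩ := O.radQ_conj P hk hu
  obtain ⟨hj, hM, -, -⟩ := low_spec hk P.hγ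
  set c := vc D (vec g) 0 with hcdef
  have hlow : low D γ ≠ 0 := by
    intro e0
    have h1 := (low_spec hk P.hγ).2.2.2 γ (inQ_iff.2 ⟨p4, p2, by rw [(inQ1_iff.1 P.hγ).2.2]⟩)
    rw [e0, rowS_bot hk p4 p2, beq_self_eq_true] at h1
    simp at h1
  rw [show vc D (vec g) (low D γ) / c = T by
    rw [hvec, vc_smul, hT1, vc_bv _ (by omega), vc_bv _ (by omega), if_neg hlow, if_pos rfl, zero_add, mul_one,
      mul_div_cancel_left₀ _ hc]]
  by_cases hTF : T ∈ O.F
  · exact Or.inl hTF
  right
  have hone : ∀ {m : ℤ}, m.natAbs = 1 → (m : K) = 1 := by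
    intro m hm
    rcases Int.natAbs_eq_iff.1 hm with rfl | rfl
    · simp
    · simpa using two_neg h2 (1 : K)
  have hgb := (oneTerm_word (K := K) P.gb (1 : K) 1).1
  have hbb := (oneTerm_word (K := K) P.bb (1 : K) 1).1
  have htg := (oneTerm_word (K := K) P.tg (1 : K) 1).1
  have hT2' : ∀ b : K, u * rt D β b * u⁻¹ = rt D β b * rt D (D.nroots - 1) (T * b) := by
    intro b; rw [hT2 b, hone hgb, hone hM, one_mul, one_mul]
  have htop : ∀ z : K, u * rt D (D.nroots - 1) z * u⁻¹ = rt D (D.nroots - 1) z :=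
    (pos_top O.hl O.C (radQ_le_pos O.hl O.C hu)).2
  -- the module
  have hβg : ∀ x y : K, rt D (D.neg γ) y * rt D β x = rt D β x * rt D (D.neg γ) y := by
    intro x y
    have := O.C.hC.comm_rt p1 (show D.neg γ < D.nroots by omega) (show D.neg γ ≠ β by omega)
      (fun e => P.ne (by
        have := congrArg D.neg e
        rwa [O.C.hC.neg_neg p2, O.C.hC.neg_neg p1, eq_comm] at this)) (F := K) x y
    rwa [empty_word P.βg, mul_one] at this
  have hta : ∀ t x : K, rt D β x * rt D (D.nroots - 1) t = rt D (D.nroots - 1) t * rt D β x := by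
    intro t x
    have := O.C.hC.comm_rt hT' p1 p6 (show β ≠ D.neg (D.nroots - 1) by rw [O.neg_top]; omega) (F := K) t x
    rwa [empty_word P.tb, mul_one] at this
  have htb : ∀ t y : K, rt D (D.neg γ) y * rt D (D.nroots - 1) t =
      rt D (D.nroots - 1) t * rt D (D.neg γ) y * rt D β (t * y) := by
    intro t y
    have := O.C.hC.comm_rt hT' (show D.neg γ < D.nroots by omega) (show D.neg γ ≠ D.nroots - 1 by omega)
      (by rw [O.neg_top]; exact p8) (F := K) t y
    rwa [(oneTerm_word (K := K) P.tg t y).2, hone htg, one_mul, two_neg h2 t] at this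
  have hba : ∀ t x : K, rt D β x * rt D 0 t = rt D 0 t * rt D β x * rt D (D.neg γ) (t * x) := by
    intro t x
    have := O.C.hC.comm_rt hb0 p1 (show β ≠ 0 by omega) (show β ≠ D.neg 0 by rw [hn0]; exact p6) (F := K) t x
    rwa [(oneTerm_word (K := K) P.bb t x).2, hone hbb, one_mul, two_neg h2 t] at this
  have hbb' : ∀ t y : K, rt D (D.neg γ) y * rt D 0 t = rt D 0 t * rt D (D.neg γ) y := by
    intro t y
    have := O.C.hC.comm_rt hb0 (show D.neg γ < D.nroots by omega) p8 (show D.neg γ ≠ D.neg 0 by omega)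
      (F := K) t y
    rwa [empty_word P.bg, mul_one] at this
  let N : Subgroup (GL D.Idx K) :=
    { carrier := {n | ∃ x y : K, n = rt D β x * rt D (D.neg γ) y}
      one_mem' := ⟨0, 0, by rw [O.C.hC.rt_zero, O.C.hC.rt_zero, mul_one]⟩
      mul_mem' := by
        rintro _ _ ⟨x, y, rfl⟩ ⟨x', y', rfl⟩
        refine ⟨x + x', y + y', ?_⟩
        rw [← O.C.hC.rt_mul, ← O.C.hC.rt_mul, mul_assoc, ← mul_assoc (rt D (D.neg γ) y), hβg]
        simp only [mul_assoc]
      inv_mem' := by
        rintro _ ⟨x, y, rfl⟩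
        refine ⟨-x, -y, ?_⟩
        rw [mul_inv_rev, O.C.hC.rt_inv, O.C.hC.rt_inv, hβg] }
  have hN' : ∀ n, n ∈ N ↔ ∃ x y : K, n = rt D β x * rt D (D.neg γ) y := fun n => Iff.rfl
  have hnorm : ∀ s : SL(2, K), ∀ n ∈ N, (O.phi s)⁻¹ * n * O.phi s ∈ N := by
    have hgen : ∀ t : K, ∀ n ∈ N, (rt D (D.nroots - 1) t)⁻¹ * n * rt D (D.nroots - 1) t ∈ N ∧
        (rt D 0 t)⁻¹ * n * rt D 0 t ∈ N := by
      rintro t _ ⟨x, y, rfl⟩
      refine ⟨(hN' _).2 ⟨x + t * y, y, ?_⟩, (hN' _).2 ⟨x, t * x + y, ?_⟩⟩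
      · rw [mul_assoc, mul_assoc (rt D β x), htb, ← mul_assoc (rt D β x), ← mul_assoc (rt D β x), hta]
        simp only [mul_assoc, inv_mul_cancel_left]
        rw [← O.C.hC.rt_mul, hβg]
        simp only [mul_assoc]
      · rw [mul_assoc, mul_assoc (rt D β x), hbb', ← mul_assoc (rt D β x), hba, mul_assoc,
          mul_assoc, inv_mul_cancel_left, O.C.hC.rt_mul]
    intro s
    have hs : O.phi s ∈ D.rootSubgroup K (D.nroots - 1) ⊔ D.rootSubgroup K 0 := by
      rw [← O.phi_range]; exact ⟨s, rfl⟩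
    have hle : D.rootSubgroup K (D.nroots - 1) ⊔ D.rootSubgroup K 0 ≤
        Subgroup.normalizer (N : Set (GL D.Idx K)) := by
      refine sup_le ?_ ?_ <;> rw [ChevalleyDatum.rootSubgroup, Subgroup.closure_le] <;>
        rintro a ⟨t, ht⟩ <;> rw [SetLike.mem_coe, O.C.hC.eq_rt ht, Subgroup.mem_normalizer_iff] <;>
        intro n <;> constructor <;> intro hn
      · have := (hgen (-t) n hn).1
        rwa [← O.C.hC.rt_inv, inv_inv] at this
      · have := (hgen t _ hn).1
        rwa [show ∀ a : GL D.Idx K, a⁻¹ * (a * n * a⁻¹) * a = n from fun a => by group] at this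
      · have := (hgen (-t) n hn).2
        rwa [← O.C.hC.rt_inv, inv_inv] at this
      · have := (hgen t _ hn).2
        rwa [show ∀ a : GL D.Idx K, a⁻¹ * (a * n * a⁻¹) * a = n from fun a => by group] at this
    intro n hn
    have := (Subgroup.mem_normalizer_iff.1 (inv_mem (hle hs)) n).1 hn
    rwa [inv_inv] at this
  let H' : Subgroup (GL D.Idx K) := O.H.comap (MulAut.conj u).toMonoidHom
  have hmem : ∀ x, x ∈ H' ↔ u * x * u⁻¹ ∈ O.H := fun x => Iff.rfl
  let S : Subgroup SL(2, K) :=
    { carrier := {s | ∃ n ∈ N, O.phi s * n ∈ H'}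
      one_mem' := ⟨1, one_mem _, by simp⟩
      mul_mem' := by
        rintro s s' ⟨n, hn, hs⟩ ⟨n', hn', hs'⟩
        refine ⟨(O.phi s')⁻¹ * n * O.phi s' * n', mul_mem (hnorm s' n hn) hn', ?_⟩
        have := mul_mem hs hs'
        rwa [map_mul, show O.phi s * O.phi s' * ((O.phi s')⁻¹ * n * O.phi s' * n') =
          O.phi s * n * (O.phi s' * n') by group]
      inv_mem' := by
        rintro s ⟨n, hn, hs⟩
        have h3 := hnorm s⁻¹ _ (inv_mem hn)
        rw [map_inv, inv_inv] at h3
        refine ⟨O.phi s * n⁻¹ * (O.phi s)⁻¹, h3, ?_⟩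
        rw [map_inv, show (O.phi s)⁻¹ * (O.phi s * n⁻¹ * (O.phi s)⁻¹) = (O.phi s * n)⁻¹ by group]
        exact inv_mem hs }
  have hS : ∀ a : K, a ∈ upPart S ↔ ∃ n ∈ N, rt D (D.nroots - 1) a * n ∈ H' := by
    intro a
    show (∃ n ∈ N, O.phi (H37.upper2 a) * n ∈ H') ↔ _
    rw [O.phi_up]
  have hα : rt D (D.nroots - 1) (1 : K) ∈ H' := by rw [hmem, htop]; exact O.hone _ hT'
  have h1 : H37.upper2 (1 : K) ∈ S := (hS 1).2 ⟨1, one_mem _, by simpa using hα⟩
  have hy : H37.lower2 c ∈ S := by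
    refine ⟨1, one_mem _, ?_⟩
    rw [mul_one, O.phi_lo, hmem]
    have := hconj 1
    rw [mul_one] at this
    rw [← this]
    exact mul_mem (mul_mem hg (O.hone _ hT')) (inv_mem hg)
  have hTS : T ∈ upPart S := by
    refine (hS T).2 ⟨rt D β 1, (hN' _).2 ⟨1, 0, by rw [O.C.hC.rt_zero, mul_one]⟩, ?_⟩
    rw [hmem, show u * (rt D (D.nroots - 1) T * rt D β 1) * u⁻¹ =
      u * rt D (D.nroots - 1) T * u⁻¹ * (u * rt D β 1 * u⁻¹) by group, htop, hT2', mul_one, ← mul_assoc,
      ← hta, mul_assoc, O.C.hC.rt_mul, show T + T = 0 by linear_combination T * h2, O.C.hC.rt_zero, mul_one]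
    exact O.hone _ p1
  have hA : ∀ a ∈ upPart S, ∃ b ∈ O.F, a + T * b ∈ O.F := by
    intro a ha
    obtain ⟨n, hn, hh⟩ := (hS a).1 ha
    obtain ⟨x, y, rfl⟩ := (hN' _).1 hn
    have h3 : rt D β y ∈ H' := by
      have e : rt D (D.nroots - 1) a * (rt D β x * rt D (D.neg γ) y) * rt D (D.nroots - 1) 1 =
          rt D (D.nroots - 1) 1 * (rt D (D.nroots - 1) a * (rt D β x * rt D (D.neg γ) y)) * rt D β y := by
        calc rt D (D.nroots - 1) a * (rt D β x * rt D (D.neg γ) y) * rt D (D.nroots - 1) 1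
            = rt D (D.nroots - 1) a * rt D β x * (rt D (D.neg γ) y * rt D (D.nroots - 1) 1) := by
              simp only [mul_assoc]
          _ = rt D (D.nroots - 1) a * (rt D β x * rt D (D.nroots - 1) 1) * rt D (D.neg γ) y * rt D β y := by
              rw [htb, one_mul]; simp only [mul_assoc]
          _ = _ := by
              rw [hta, ← mul_assoc (rt D (D.nroots - 1) a), O.C.hC.rt_mul, add_comm a, ← O.C.hC.rt_mul]
              simp only [mul_assoc]
      rw [← inv_mul_eq_iff_eq_mul] at e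
      rw [← e]
      exact mul_mem (inv_mem (mul_mem hα hh)) (mul_mem hh hα)
    rw [hmem, hT2'] at h3
    obtain ⟨hyF, hTy⟩ := O.plane_mem P hk h3
    by_cases hy0 : y = 0
    · subst hy0
      rw [O.C.hC.rt_zero, mul_one, hmem, show u * (rt D (D.nroots - 1) a * rt D β x) * u⁻¹ =
        u * rt D (D.nroots - 1) a * u⁻¹ * (u * rt D β x * u⁻¹) by group, htop, hT2', ← mul_assoc, ← hta,
        mul_assoc, O.C.hC.rt_mul] at hh
      obtain ⟨hxF, haF⟩ := O.plane_mem P hk hh
      exact ⟨x, hxF, haF⟩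
    · refine absurd ?_ hTF
      have := mul_mem hTy (inv_mem hyF)
      rwa [mul_inv_cancel_right₀ hy0] at this
  have hcard : ∀ z ∈ O.F, z = 0 ∨ z = 1 := by
    intro z hz
    have : Fintype.card O.F = 2 := by rw [← Nat.card_eq_fintype_card]; exact hF
    by_contra hne
    push Not at hne
    have h3 : ({0, 1, ⟨z, hz⟩} : Finset O.F).card = 3 := by
      rw [Finset.card_insert_of_notMem, Finset.card_insert_of_notMem, Finset.card_singleton]
      · simp only [Finset.mem_singleton]
        exact fun e => hne.2 (congrArg Subtype.val e).symm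
      · simp only [Finset.mem_insert, Finset.mem_singleton, zero_ne_one, false_or]
        exact fun e => hne.1 (congrArg Subtype.val e).symm
    have := Finset.card_le_univ ({0, 1, ⟨z, hz⟩} : Finset O.F)
    omega
  obtain ⟨b, hb, hab⟩ := hA (T * T) (even_mul_mem h2 hc h1 hy hTS hTS)
  rcases hcard b hb with rfl | rfl
  · rw [mul_zero, add_zero] at hab
    rcases hcard _ hab with e | e
    · exact absurd (by rw [mul_self_eq_zero.1 e]; exact zero_mem _) hTF
    · rcases mul_self_eq_one_iff.1 e with e' | e'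
      · exact absurd (by rw [e']; exact one_mem _) hTF
      · exact absurd (by rw [e']; exact neg_mem (one_mem _)) hTF
  · rw [mul_one] at hab
    rcases hcard _ hab with e | e
    · rcases mul_eq_zero.1 (show T * (T + 1) = 0 by linear_combination e) with e' | e'
      · exact absurd (by rw [e']; exact zero_mem _) hTF
      · exact absurd (by rw [eq_neg_of_add_eq_zero_left e']; exact neg_mem (one_mem _)) hTF
    · linear_combination e + h2

/-- The case of three elements. -/
theorem c_mem_three {g : GL D.Idx K} (hg : g ∈ O.H) (hc : vc D (vec g) 0 ≠ 0) (hF : Nat.card O.F = 3)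
    (hsq : vc D (vec g) 0 ^ 2 = -1) : vc D (vec g) 0 ∈ O.F := by
  classical
  obtain ⟨p1, p2, p3, p4, p5, p6, p7, p8⟩ := O.pair_lt P hk
  have hN2 := O.hN
  set c := vc D (vec g) 0 with hcdef
  obtain ⟨m, hm, hrow⟩ := P.row
  have hval : ∀ x : K, (∃ g' ∈ O.H, vc D (vec g') 0 = x) → x = 0 ∨ x ∈ O.F ∨ x ^ 2 = -1 := by
    rintro x ⟨g', hg', rfl⟩
    by_cases h0 : vc D (vec g') 0 = 0
    · exact Or.inl h0
    rcases O.c_cases hg' h0 with h | ⟨-, h⟩ | ⟨-, h⟩
    · exact Or.inr (Or.inl h)
    · omega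
    · exact Or.inr (Or.inr h)
  set y := vc D (vec g) (low D γ) with hy
  have hrt : ∀ s : K, (s = 1 ∨ s = -1) → c + (m : K) * s * y = 0 ∨ c + (m : K) * s * y ∈ O.F ∨
      (c + (m : K) * s * y) ^ 2 = -1 := by
    intro s hs
    refine hval _ ⟨rt D (D.neg γ) s * g, mul_mem ?_ hg, ?_⟩
    · rcases hs with rfl | rfl
      · exact O.hone _ (by omega)
      · exact O.rt_neg_one (by omega)
    · rw [vec_mul, row_apply O.C.hC (show D.neg γ < D.nroots by omega) (by omega), hrow,
        if_neg (show ¬ 0 = D.neg γ by omega)]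
      simp [rowVal, hcdef, hy]
  by_contra hcF
  refine hcF (O.c_mem_of_param P hk hg hc ?_)
  set T := y / c
  have hyT : y = T * c := (div_mul_cancel₀ y hc).symm
  have hFc : ∀ z ∈ O.F, z = 0 ∨ z = 1 ∨ z = -1 := by
    intro z hz
    have h3 : Fintype.card O.F = 3 := by rw [← Nat.card_eq_fintype_card]; exact hF
    have h4 := FiniteField.pow_card (⟨z, hz⟩ : O.F)
    rw [h3] at h4
    have h5 : z ^ 3 = z := congrArg Subtype.val h4
    rcases mul_eq_zero.1 (show z * (z ^ 2 - 1) = 0 by linear_combination h5) with h6 | h6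
    · exact Or.inl h6
    · exact Or.inr (sq_eq_one_iff.1 (sub_eq_zero.1 h6))
  have h30 : (3 : K) = 0 := by
    have h3 : Fintype.card O.F = 3 := by rw [← Nat.card_eq_fintype_card]; exact hF
    have h4 := FiniteField.cast_card_eq_zero O.F
    rw [h3] at h4
    have := congrArg O.F.subtype h4
    rwa [map_natCast, map_zero, Nat.cast_ofNat] at this
  have hset : ∀ s : K, (s = 1 ∨ s = -1) →
      1 + (m : K) * s * T = 0 ∨ 1 + (m : K) * s * T = 1 ∨ 1 + (m : K) * s * T = -1 ∨
        1 + (m : K) * s * T = c ∨ 1 + (m : K) * s * T = -c := by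
    intro s hs
    have e : c + (m : K) * s * y = c * (1 + (m : K) * s * T) := by rw [hyT]; ring
    have hh := hrt s hs
    rw [e] at hh
    set w := 1 + (m : K) * s * T
    rcases hh with h | h | h
    · exact Or.inl ((mul_eq_zero.1 h).resolve_left hc)
    · rcases hFc _ h with h | h | h
      · exact Or.inl ((mul_eq_zero.1 h).resolve_left hc)
      · exact Or.inr (Or.inr (Or.inr (Or.inr (by linear_combination (-c) * h + w * hsq))))
      · exact Or.inr (Or.inr (Or.inr (Or.inl (by linear_combination (-c) * h + w * hsq))))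
    · have : w ^ 2 = 1 := by linear_combination -h + w ^ 2 * hsq
      rcases sq_eq_one_iff.1 this with h | h
      · exact Or.inr (Or.inl h)
      · exact Or.inr (Or.inr (Or.inl h))
  have hF0 := zero_mem O.F
  have hF1 := one_mem O.F
  have hmF : (m : K) ∈ O.F := intCast_mem _ _
  have hm2 : (m : K) * (m : K) = 1 := cast_unit hm
  have done' : ∀ z, (m : K) * T = z → z ∈ O.F → T ∈ O.F := by
    intro z hz hzF
    have := mul_mem hmF hzF
    rwa [← hz, ← mul_assoc, hm2, one_mul] at this
  have hsum : (1 + (m : K) * 1 * T) + (1 + (m : K) * (-1) * T) = -1 := by linear_combination h30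
  rcases hset 1 (Or.inl rfl) with a | a | a | a | a
  · exact done' (-1) (by linear_combination a) (neg_mem hF1)
  · exact done' 0 (by linear_combination a) hF0
  · exact done' (-2) (by linear_combination a) (neg_mem (by exact_mod_cast natCast_mem O.F 2))
  all_goals
    exfalso
    rcases hset (-1) (Or.inr rfl) with b | b | b | b | b <;> rw [a, b] at hsum <;>
      first
        | exact hcF (show c ∈ O.F by
            rw [show c = -1 by linear_combination hsum]; exact neg_mem hF1)
        | exact hcF (show c ∈ O.F by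
            rw [show c = 1 by linear_combination -hsum]; exact hF1)
        | exact hcF (show c ∈ O.F by
            rw [show c = 1 by linear_combination hsum + c * h30]; exact hF1)
        | exact hcF (show c ∈ O.F by
            rw [show c = -1 by linear_combination -hsum + c * h30]; exact neg_mem hF1)
        | exact hcF (show c ∈ O.F by
            rw [show c = -2 by linear_combination hsum]; exact neg_mem (by exact_mod_cast natCast_mem O.F 2))
        | exact hcF (show c ∈ O.F by
            rw [show c = 2 by linear_combination -hsum]; exact_mod_cast natCast_mem O.F 2)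
        | exact hcF (show c ∈ O.F by
            rw [show c = 0 by linear_combination hsum]; exact hF0)
        | exact hcF (show c ∈ O.F by
            rw [show c = 0 by linear_combination -hsum]; exact hF0)
        | exact one_ne_zero (α := K) (by linear_combination hsum)
        | exact hcF (show c ∈ O.F by
            rw [show c = 1 by linear_combination 2 * hsum - (c + 1) * h30]; exact hF1)
        | exact hcF (show c ∈ O.F by
            rw [show c = -1 by linear_combination -2 * hsum - (c - 1) * h30]; exact neg_mem hF1)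

omit P in
/-- `c ∈ F` for the types with a suitable triple of long roots. -/
theorem c_mem_long {β γ β1 γ1 θ : ℕ} (h1 : pairOK D β γ = true) (h1' : pairOK D β1 γ1 = true)
    (h2 : triOK D γ γ1 θ = true) {g : GL D.Idx K} (hg : g ∈ O.H) : vc D (vec g) 0 ∈ O.F := by
  classical
  set c := vc D (vec g) 0 with hcdef
  by_cases hc : c = 0
  · rw [hc]; exact zero_mem _
  have P := pairData h1
  obtain ⟨p1, p2, p3, p4, p5, p6, p7, p8⟩ := O.pair_lt P hk
  have hN2 := O.hN
  rcases O.c_cases hg hc with h | ⟨hk2, hF⟩ | ⟨hF, hsq⟩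
  · exact h
  · simp only [triOK, Bool.and_eq_true, decide_eq_true_eq] at h2
    obtain ⟨⟨t1, t2⟩, h2⟩ := h2
    split at h2
    swap
    · exact absurd h2 (by decide)
    rename_i j m heq
    simp only [Bool.and_eq_true, beq_iff_eq, decide_eq_true_eq] at h2
    obtain ⟨rfl, hm⟩ := h2
    obtain ⟨hjlt, -, -, -⟩ := low_spec hk P.hγ
    have hg2 : rt D θ (1 : K) * g ∈ O.H := mul_mem (O.hone θ t2) hg
    have e0 : vc D (vec (rt D θ (1 : K) * g)) 0 = c := by
      rw [vec_mul, row_apply O.C.hC t2 (by omega), rowS_bot hk t1 t2, if_neg (show ¬ 0 = θ by omega)]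
      simp [rowVal, hcdef]
    have e1 : vc D (vec (rt D θ (1 : K) * g)) (low D γ) = vc D (vec g) (low D γ) + (m : K) * vc D (vec g) (low D γ1) := by
      rw [vec_mul, row_apply O.C.hC t2 (by omega), heq, if_neg (show ¬ low D γ = θ by omega)]
      simp [rowVal]
    have hm1 : (m : K) = 1 := by
      rcases Int.natAbs_eq_iff.1 hm with rfl | rfl
      · simp
      · simpa using two_neg hk2 (1 : K)
    rw [hm1, one_mul] at e1
    set T := vc D (vec g) (low D γ) / c with hT
    set T1 := vc D (vec g) (low D γ1) / c with hT1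
    by_contra hcF
    have q1 := (O.param_quad P hk hk2 hF hg hc).resolve_left fun h => hcF (O.c_mem_of_param P hk hg hc h)
    have q2 := (O.param_quad (pairData h1') hk hk2 hF hg hc).resolve_left fun h =>
      hcF (O.c_mem_of_param (pairData h1') hk hg hc h)
    have q3 := (O.param_quad P hk hk2 hF hg2 (by rw [e0]; exact hc)).resolve_left fun h =>
      hcF (e0 ▸ O.c_mem_of_param P hk hg2 (by rw [e0]; exact hc) h)
    rw [e0, e1, add_div, ← hT, ← hT1] at q3
    rw [← hT] at q1
    rw [← hT1] at q2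
    exact one_ne_zero (α := K) (by linear_combination q1 + q2 - q3 + T * T1 * hk2)
  · exact O.c_mem_three P hk hg hc hF hsq

end Ov

end H66.Subfield
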