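import Cfsg.Agent.H66.Subfield.B2Core
import Cfsg.Agent.H66.Subfield.G2Core

/-!
The image of the highest root vector under an element of `H` has coordinates in `F`.
-/

set_option autoImplicit false
set_option linter.unusedSectionVars false

open Cfsg.Lie H52
open scoped MatrixGroups

namespace H66.Subfield

/-- The matrices with entries in a subfield, together with their inverses. -/
def ratGL {n : Type*} [Fintype n] [DecidableEq n] {K : Type*} [Field K] (F : Subfield K) : Subgroup (GL n K) where
  carrier := {g | (∀ i j, (g : Matrix n n K) i j ∈ F) ∧ ∀ i j, ((g⁻¹ : GL n K) : Matrix n n K) i j ∈ F}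
  one_mem' := by
    constructor <;> intro i j <;> simp only [inv_one, Units.val_one, Matrix.one_apply] <;> split_ifs <;>
      first | exact one_mem F | exact zero_mem F
  mul_mem' := by
    rintro a b ⟨ha, ha'⟩ ⟨hb, hb'⟩
    refine ⟨fun i j => ?_, fun i j => ?_⟩
    · rw [Units.val_mul, Matrix.mul_apply]
      exact sum_mem fun x _ => mul_mem (ha i x) (hb x j)
    · rw [mul_inv_rev, Units.val_mul, Matrix.mul_apply]
      exact sum_mem fun x _ => mul_mem (hb' i x) (ha' x j)
  inv_mem' := by
    rintro a ⟨ha, ha'⟩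
    exact ⟨ha', by rw [inv_inv]; exact ha⟩

variable {D : ChevalleyDatum} {K : Type*} [Field K]

theorem rt_ratGL (C : H54.Ctx D) (F : Subfield K) {r : ℕ} (hr : r < D.nroots) {t : K} (ht : t ∈ F) :
    rt D r t ∈ ratGL F := by
  have key : ∀ t ∈ F, ∀ i j, (rt D r t : GL D.Idx K).1 i j ∈ F := by
    intro t ht i j
    rw [C.hC.coe_rt, ChevalleyDatum.x, dif_pos hr, H54.WR.xEnt_spec]
    refine list_sum_mem fun x hx => ?_
    obtain ⟨km, -, rfl⟩ := List.mem_map.1 hx
    exact mul_mem (intCast_mem F _) (pow_mem ht _)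
  refine ⟨key t ht, ?_⟩
  rw [C.hC.rt_inv]
  exact key _ (neg_mem ht)

theorem nw_ratGL (C : H54.Ctx D) (F : Subfield K) (L : List (Fin D.rank)) :
    H54.Ctx.nw D K L ∈ ratGL F :=
  list_prod_mem fun g hg => by
    obtain ⟨i, -, rfl⟩ := List.mem_map.1 hg
    have hp := C.hC.simple_lt i.isLt
    have : H53.nGL D (D.simple i.val) (1 : K) = nElt D (D.simple i.val) (1 : K) :=
      Units.ext (by rw [H53.coe_nGL C.hC, C.hC.coe_nElt])
    rw [this, H52.Checked.nElt_eq, inv_one]
    exact mul_mem (mul_mem (rt_ratGL C F hp (one_mem F)) (rt_ratGL C F (C.hC.neg_lt hp) (neg_mem (one_mem F))))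
      (rt_ratGL C F hp (one_mem F))

theorem vc_mulVec_mem (F : Subfield K) {g : GL D.Idx K} (hg : g ∈ ratGL F) {v : D.Idx → K}
    (hv : ∀ x, v x ∈ F) (x : D.Idx) : (g : Matrix D.Idx D.Idx K).mulVec v x ∈ F := by
  rw [Matrix.mulVec, dotProduct]
  exact sum_mem fun y _ => mul_mem (hg.1 x y) (hv y)

/-- The long roots of level one, then the short ones. -/
def q1List (D : ChevalleyDatum) : List ℕ :=
  ((List.range D.nroots).filter fun r => inQ1 D r && isLong D r) ++
    ((List.range D.nroots).filter fun r => inQ1 D r && !isLong D r)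

theorem mem_q1List {r : ℕ} : r ∈ q1List D ↔ inQ1 D r = true := by
  simp only [q1List, List.mem_append, List.mem_filter, List.mem_range, Bool.and_eq_true, Bool.not_eq_true']
  constructor
  · rintro (⟨-, h, -⟩ | ⟨-, h, -⟩) <;> exact h
  · intro h
    have hlt := (inQ1_iff.1 h).2.1
    cases hl : isLong D r
    · exact Or.inr ⟨hlt, h, rfl⟩
    · exact Or.inl ⟨hlt, h, rfl⟩

theorem nodup_q1List : (q1List D).Nodup := by
  refine List.nodup_append'.2 ⟨List.Nodup.filter _ List.nodup_range, List.Nodup.filter _ List.nodup_range, ?_⟩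
  intro x hx hy
  simp only [List.mem_filter, Bool.and_eq_true, Bool.not_eq_true'] at hx hy
  rw [hx.2.2] at hy
  exact absurd hy.2.2 (by decide)

/-- A product of root elements. -/
noncomputable def plist (D : ChevalleyDatum) (l : List ℕ) (f : ℕ → K) : GL D.Idx K :=
  (l.map fun r => rt D r (f r)).prod

theorem plist_cons (a : ℕ) (l : List ℕ) (f : ℕ → K) : plist D (a :: l) f = rt D a (f a) * plist D l f := by
  simp [plist]

section product

variable (hl : lvlChk D = true) (C : H54.Ctx D)
include hl C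

theorem plist_mem {l : List ℕ} (hsub : ∀ r ∈ l, inQ1 D r = true) (f : ℕ → K) : plist D l f ∈ radQ D K :=
  list_prod_mem fun x hx => by
    obtain ⟨r, hr, rfl⟩ := List.mem_map.1 hx
    obtain ⟨h1, h2, h3⟩ := inQ1_iff.1 (hsub r hr)
    exact rt_mem_radQ (inQ_iff.2 ⟨h1, h2, by omega⟩) _

theorem comm_inQ1 {r s : ℕ} (hr : inQ1 D r = true) (hs : inQ1 D s = true) :
    ∀ t u : K, ∃ z : K, rt D s u * rt D r t = rt D r t * rt D s u * rt D (D.nroots - 1) z := by
  intro t u
  by_cases hrs : s = r
  · subst hrs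
    refine ⟨0, ?_⟩
    rw [C.hC.rt_zero, mul_one, C.hC.rt_mul, C.hC.rt_mul, add_comm]
  obtain ⟨r1, r2, r3⟩ := inQ1_iff.1 hr
  obtain ⟨s1, s2, s3⟩ := inQ1_iff.1 hs
  have hneg : s ≠ D.neg r := by
    have := C.hC.neg_eq r2
    have := C.hC.nroots_eq
    omega
  rw [C.hC.comm_rt r2 s2 hrs hneg t u]
  have hw : ∀ c ∈ D.commTerms r s, c.1 = D.nroots - 1 := by
    intro c hc
    obtain ⟨hi, hj, hco⟩ := C.hC.commTerms_co r2 s2 c hc
    have hlt := C.hC.commTerms_lt c hc
    obtain ⟨hlv, -⟩ := lvl_lin hl C _ _ hlt r2 s2 hco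
    have hQ := inQ_iff.1 (inQ_comm hl C r1 r2 s (inQ_iff.2 ⟨s1, s2, by omega⟩) c hc)
    by_contra hne
    have := (lvl_spec hl hQ.1 hQ.2.1).2 hne
    rw [r3, s3] at hlv
    omega
  suffices ∀ l : List (ℕ × ℤ × ℕ × ℕ), (∀ c ∈ l, c.1 = D.nroots - 1) → ∃ z : K,
      wordRt D (l.map fun c => (c.1, (c.2.1 : K) * (-t) ^ c.2.2.1 * u ^ c.2.2.2)) = rt D (D.nroots - 1) z by
    obtain ⟨z, hz⟩ := this _ hw
    exact ⟨z, congrArg _ hz⟩
  intro l
  induction l with
  | nil => exact fun _ => ⟨0, by simp [wordRt, C.hC.rt_zero]⟩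
  | cons c l ih =>
    intro hc
    obtain ⟨z, hz⟩ := ih fun d hd => hc d (List.mem_cons_of_mem _ hd)
    refine ⟨(c.2.1 : K) * (-t) ^ c.2.2.1 * u ^ c.2.2.2 + z, ?_⟩
    rw [← C.hC.rt_mul, ← hz]
    simp [wordRt, hc c List.mem_cons_self]

theorem top_comm {u : GL D.Idx K} (hu : u ∈ radQ D K) (z : K) :
    rt D (D.nroots - 1) z * u = u * rt D (D.nroots - 1) z := by
  have := (pos_top hl C (radQ_le_pos hl C hu)).2 z
  rw [mul_inv_eq_iff_eq_mul] at this
  exact this.symm

theorem plist_move {l : List ℕ} (hsub : ∀ r ∈ l, inQ1 D r = true) {s : ℕ} (hs : inQ1 D s = true) (f : ℕ → K)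
    (b : K) : ∃ z : K, plist D l f * rt D s b = rt D s b * plist D l f * rt D (D.nroots - 1) z := by
  induction l with
  | nil => exact ⟨0, by simp [plist, C.hC.rt_zero]⟩
  | cons a l ih =>
    have hsub' : ∀ r ∈ l, inQ1 D r = true := fun r hr => hsub r (List.mem_cons_of_mem _ hr)
    obtain ⟨z, hz⟩ := ih hsub'
    obtain ⟨z', hz'⟩ := comm_inQ1 hl C hs (hsub a List.mem_cons_self) b (f a)
    refine ⟨z' + z, ?_⟩
    rw [plist_cons, mul_assoc, hz, ← C.hC.rt_mul, ← mul_assoc, ← mul_assoc, hz',
      mul_assoc (rt D s b * rt D a (f a)) (rt D (D.nroots - 1) z'), top_comm hl C (plist_mem hl C hsub' f)]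
    simp only [mul_assoc]

theorem plist_add {l : List ℕ} (hsub : ∀ r ∈ l, inQ1 D r = true) (f g : ℕ → K) :
    ∃ z : K, plist D l f * plist D l g = plist D l (fun r => f r + g r) * rt D (D.nroots - 1) z := by
  induction l with
  | nil => exact ⟨0, by simp [plist, C.hC.rt_zero]⟩
  | cons a l ih =>
    have hsub' : ∀ r ∈ l, inQ1 D r = true := fun r hr => hsub r (List.mem_cons_of_mem _ hr)
    obtain ⟨z, hz⟩ := ih hsub'
    obtain ⟨z', hz'⟩ := plist_move hl C hsub' (hsub a List.mem_cons_self) f (g a)
    refine ⟨z' + z, ?_⟩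
    rw [plist_cons, plist_cons, plist_cons,
      show ∀ A P B Q : GL D.Idx K, A * P * (B * Q) = A * (P * B) * Q from fun A P B Q => by group, hz',
      ← C.hC.rt_mul a (f a) (g a), show rt D a (f a) * (rt D a (g a) * plist D l f * rt D (D.nroots - 1) z') *
        plist D l g = rt D a (f a) * rt D a (g a) * plist D l f * (rt D (D.nroots - 1) z' * plist D l g) by group,
      top_comm hl C (plist_mem hl C hsub' g),
      show rt D a (f a) * rt D a (g a) * plist D l f * (plist D l g * rt D (D.nroots - 1) z') =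
        rt D a (f a) * rt D a (g a) * (plist D l f * plist D l g) * rt D (D.nroots - 1) z' by group, hz,
      add_comm z' z, ← C.hC.rt_mul (D.nroots - 1) z z']
    simp only [mul_assoc]

theorem plist_zero (l : List ℕ) : plist D l (fun _ => (0 : K)) = 1 := by
  induction l with
  | nil => rfl
  | cons a l ih => rw [plist_cons, ih, C.hC.rt_zero, mul_one]

theorem plist_single {l : List ℕ} (hn : l.Nodup) {r : ℕ} (hr : r ∈ l) (t : K) :
    plist D l (fun s => if s = r then t else 0) = rt D r t := by
  induction l with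
  | nil => simp at hr
  | cons a l ih =>
    obtain ⟨ha, hn'⟩ := List.nodup_cons.1 hn
    rw [plist_cons]
    by_cases har : a = r
    · subst har
      rw [if_pos rfl]
      suffices plist D l (fun s => if s = a then t else 0) = 1 by rw [this, mul_one]
      rw [show plist D l (fun s => if s = a then t else 0) = plist D l (fun _ => (0 : K)) from
        congrArg List.prod (List.map_congr_left fun s hs => by
          simp only [if_neg (fun e : s = a => ha (e ▸ hs))]), plist_zero hl C]
    · rw [if_neg har, C.hC.rt_zero, one_mul, ih hn' (by rcases List.mem_cons.1 hr with h | h; exacts [absurd h.symm har, h])]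

/-- Every element of the radical is an ordered product. -/
theorem radQ_form {u : GL D.Idx K} (hu : u ∈ radQ D K) :
    ∃ (f : ℕ → K) (z : K), u = plist D (q1List D) f * rt D (D.nroots - 1) z := by
  have hsub : ∀ r ∈ q1List D, inQ1 D r = true := fun r hr => mem_q1List.1 hr
  induction hu using Subgroup.closure_induction with
  | mem y hy =>
    obtain ⟨r, t, hr, rfl⟩ := hy
    rcases inQ_cases hl hr with rfl | h1
    · exact ⟨fun _ => 0, t, by rw [plist_zero hl C, one_mul]⟩
    · exact ⟨fun s => if s = r then t else 0, 0, by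
        rw [plist_single hl C nodup_q1List (mem_q1List.2 h1), C.hC.rt_zero, mul_one]⟩
  | one => exact ⟨fun _ => 0, 0, by rw [plist_zero hl C, C.hC.rt_zero, one_mul]⟩
  | mul a b _ _ iha ihb =>
    obtain ⟨f, z, rfl⟩ := iha
    obtain ⟨g, z', rfl⟩ := ihb
    obtain ⟨z'', hz⟩ := plist_add hl C hsub f g
    refine ⟨fun r => f r + g r, z'' + (z + z'), ?_⟩
    rw [show plist D (q1List D) f * rt D (D.nroots - 1) z * (plist D (q1List D) g * rt D (D.nroots - 1) z') =
      plist D (q1List D) f * (rt D (D.nroots - 1) z * plist D (q1List D) g) * rt D (D.nroots - 1) z' by group,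
      top_comm hl C (plist_mem hl C hsub g), ← mul_assoc, hz]
    simp only [mul_assoc, C.hC.rt_mul, add_assoc]
  | inv a _ iha =>
    obtain ⟨f, z, rfl⟩ := iha
    obtain ⟨z', hz⟩ := plist_add hl C hsub f (fun r => -f r)
    simp only [add_neg_cancel] at hz
    rw [plist_zero hl C, one_mul] at hz
    refine ⟨fun r => -f r, -z' - z, ?_⟩
    refine inv_eq_of_mul_eq_one_right ?_
    rw [show plist D (q1List D) f * rt D (D.nroots - 1) z *
      (plist D (q1List D) (fun r => -f r) * rt D (D.nroots - 1) (-z' - z)) =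
      plist D (q1List D) f * (rt D (D.nroots - 1) z * plist D (q1List D) (fun r => -f r)) *
        rt D (D.nroots - 1) (-z' - z) by group, top_comm hl C (plist_mem hl C hsub _), ← mul_assoc, hz,
      C.hC.rt_mul, C.hC.rt_mul, show z' + z + (-z' - z) = 0 by ring, C.hC.rt_zero]

variable (hk : lowChk D = true)
include hk

theorem plist_low {l : List ℕ} (hsub : ∀ s ∈ l, inQ1 D s = true) (hn : l.Nodup) {r : ℕ} (hr : inQ1 D r = true)
    (f : ℕ → K) (w : D.Idx → K) :
    vc D ((plist D l f).1.mulVec w) (low D r) =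
      vc D w (low D r) + (if r ∈ l then (mlow D r : K) * f r else 0) * vc D w 0 := by
  induction l with
  | nil => simp [plist]
  | cons a l ih =>
    obtain ⟨ha, hn'⟩ := List.nodup_cons.1 hn
    have hsub' : ∀ s ∈ l, inQ1 D s = true := fun s hs => hsub s (List.mem_cons_of_mem _ hs)
    obtain ⟨a1, a2, a3⟩ := inQ1_iff.1 (hsub a List.mem_cons_self)
    obtain ⟨hj, -, -, hrow⟩ := low_spec hk hr
    rw [plist_cons, Units.val_mul, ← Matrix.mulVec_mulVec, row_apply C.hC a2 (by omega),
      hrow a (inQ_iff.2 ⟨a1, a2, by omega⟩), if_neg (show ¬ low D r = a by omega), ih hsub' hn', add_zero]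
    by_cases har : a = r
    · subst har
      rw [beq_self_eq_true]
      simp [rowVal, ha, radQ_bot hk C (plist_mem hl C hsub' f), mul_comm, mul_assoc, mul_left_comm]
    · have : (a == r) = false := by simpa using har
      have hne : ¬ r = a := fun e => har e.symm
      simp [this, rowVal, hne]

end product

/-- A translation giving a short parameter linearly. -/
def linOK (D : ChevalleyDatum) (r : ℕ) : Bool :=
  (List.range D.nroots).any fun θ =>
    θ != 0 && (match (rowS D θ 0).filter fun e => e.2.1 == 1 with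
      | [(j, _, m)] => j == low D r && decide (2 ≤ m.natAbs ∧ m.natAbs ≤ 3)
      | _ => false) &&
    (rowS D θ 0).all fun e => e.2.1 == 1 || e.2.1 == 2 || (e.2.1 == 3 && isLong D e.1)

/-- The short roots have the linear translations with coefficient `M`. -/
def linAll (D : ChevalleyDatum) (M : ℕ) : Bool :=
  (List.range D.nroots).all fun r => !inQ1 D r || isLong D r ||
    (linOK D r && (List.range D.nroots).all fun θ =>
      (rowS D θ 0).all fun e => e.2.1 != 1 || e.1 != low D r || e.2.2.natAbs == M)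

/-- The coordinates at `r - α` for long `r`. -/
def lowsLong (D : ChevalleyDatum) : List ℕ :=
  ((List.range D.nroots).filter fun r => inQ1 D r && isLong D r).map (low D)

/-- The entries which matter in characteristic `p`. -/
def mainRow (D : ChevalleyDatum) (p s L : ℕ) : List (ℕ × ℕ × ℤ) :=
  (rowS D s L).filter fun q => q.2.2 % (p : ℤ) != 0 && !((lowsLong D).contains q.1)

/-- A long coordinate which is a `p`-th power of a short parameter. -/
def powOK (D : ChevalleyDatum) (p r : ℕ) : Bool :=
  (List.range D.nroots).any fun L => L != 0 && isLong D L &&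
    (match mainRow D p r L with
     | [(0, k, m)] => k == p && decide (m.natAbs = 1)
     | _ => false) &&
    (List.range D.nroots).all fun s => !inQ D s || ((inQ1 D s && isLong D s) ||
      (L != s && (s == r || (mainRow D p s L).isEmpty)))

/-- The short roots have coordinates which are `p`-th powers. -/
def powAll (D : ChevalleyDatum) (p : ℕ) : Bool :=
  (List.range D.nroots).all fun r => !inQ1 D r || isLong D r || powOK D p r

namespace Ov

variable [Fintype K] (O : Ov D K)
include O

/-- The statement `c ∈ F`. -/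
def CF : Prop := ∀ g ∈ O.H, vc D (vec g) 0 ∈ O.F

variable (hk : lowChk D = true) (hcF : O.CF)
include hk hcF

theorem long_mem {g : GL D.Idx K} (hg : g ∈ O.H) {β : ℕ} (h : isLong D β = true) : vc D (vec g) β ∈ O.F := by
  obtain ⟨g', hg', e, he, hv⟩ := O.long_coord hg h
  have heF : e ∈ O.F := by
    rcases mul_self_eq_one_iff.1 he with rfl | rfl
    exacts [one_mem _, neg_mem (one_mem _)]
  have := mul_mem heF (hcF g' hg')
  rwa [hv, ← mul_assoc, he, one_mul] at this

theorem lin_mem (h2 : (2 : K) ≠ 0) {M : ℕ} (hM : (M : K) ≠ 0) (hlin : linAll D M = true)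
    {g : GL D.Idx K} (hg : g ∈ O.H) {r : ℕ} (hr : inQ1 D r = true) (hs : isLong D r = false) :
    vc D (vec g) (low D r) ∈ O.F := by
  have hN := O.hN
  simp only [linAll, List.all_eq_true, List.mem_range, Bool.or_eq_true, Bool.not_eq_true', Bool.and_eq_true,
    bne_iff_ne, beq_iff_eq] at hlin
  rcases hlin r (inQ1_iff.1 hr).2.1 with (h | h) | ⟨h, hM'⟩
  · rw [hr] at h; exact absurd h (by decide)
  · rw [hs] at h; exact absurd h (by decide)
  simp only [linOK, List.any_eq_true, List.mem_range, Bool.and_eq_true, List.all_eq_true, Bool.or_eq_true,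
    bne_iff_ne, beq_iff_eq] at h
  obtain ⟨θ, hθ, ⟨hne, hm⟩, hrest⟩ := h
  split at hm
  swap
  · exact absurd hm (by decide)
  rename_i j k m heq
  simp only [Bool.and_eq_true, beq_iff_eq, decide_eq_true_eq] at hm
  obtain ⟨rfl, -⟩ := hm
  have hmem : (low D r, k, m) ∈ (rowS D θ 0).filter fun e => e.2.1 == 1 := by rw [heq]; simp
  simp only [List.mem_filter, beq_iff_eq] at hmem
  obtain ⟨hmem, rfl⟩ := hmem
  have hmM : m.natAbs = M := by
    rcases hM' θ hθ _ hmem with (h | h) | h
    · exact absurd rfl h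
    · exact absurd rfl h
    · exact h
  have hm0 : (m : K) ≠ 0 := by
    rcases Int.natAbs_eq m with e | e <;> rw [e, hmM] <;> simpa using hM
  set y := vc D (vec g) (low D r)
  have hval : ∀ s : K, rt D θ s ∈ O.H → vc D (vec g) 0 + rowVal D (rowS D θ 0) s (vec g) ∈ O.F := by
    intro s hs
    have := hcF _ (mul_mem hs hg)
    rwa [vec_mul, row_apply O.C.hC hθ (by omega), if_neg (fun e : (0 : ℕ) = θ => hne e.symm), add_zero] at this
  have hd := sub_mem (hval 1 (O.hone θ hθ)) (hval (-1) (O.rt_neg_one hθ))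
  rw [add_sub_add_left_eq_sub] at hd
  have key : ∀ l : List (ℕ × ℕ × ℤ),
      (∀ e ∈ l, (e.2.1 = 1 ∨ e.2.1 = 2) ∨ (e.2.1 = 3 ∧ isLong D e.1 = true)) →
      rowVal D l (1 : K) (vec g) - rowVal D l (-1) (vec g) -
        2 * ((l.filter fun e => e.2.1 == 1).map fun e => (e.2.2 : K) * vc D (vec g) e.1).sum ∈ O.F := by
    intro l
    induction l with
    | nil => intro _; simp [rowVal]
    | cons e l ih =>
      intro he
      have ih' := ih fun x hx => he x (List.mem_cons_of_mem _ hx)
      obtain ⟨j, k, q⟩ := e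
      rcases he _ List.mem_cons_self with (hk | hk) | ⟨hk, hlong⟩ <;> simp only at hk <;> subst hk
      · convert ih' using 1
        simp [rowVal]
        ring
      · convert ih' using 1
        simp [rowVal]
      · have h1 : 2 * ((q : K) * vc D (vec g) j) ∈ O.F :=
          mul_mem (by exact_mod_cast natCast_mem O.F 2) (mul_mem (intCast_mem _ _) (O.long_mem hk hcF hg hlong))
        convert add_mem ih' h1 using 1
        simp [rowVal]
        ring
  have h1 := sub_mem hd (key _ hrest)
  rw [sub_sub_cancel, heq] at h1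
  simp only [List.map_cons, List.map_nil, List.sum_cons, List.sum_nil, add_zero] at h1
  have h3 : (2 * (m : K))⁻¹ ∈ O.F := inv_mem (mul_mem (by exact_mod_cast natCast_mem O.F 2) (intCast_mem _ _))
  have := mul_mem h3 h1
  rwa [← mul_assoc 2, inv_mul_cancel_left₀ (mul_ne_zero h2 hm0)] at this

/-- The radical parameters at long roots lie in `F`, and so a power of each short one. -/
theorem pow_mem' {p : ℕ} [Fact p.Prime] [CharP K p] (hpow : powAll D p = true) {g : GL D.Idx K} (hg : g ∈ O.H)
    (hc : vc D (vec g) 0 ≠ 0) {r : ℕ} (hr : inQ1 D r = true) (hs : isLong D r = false) :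
    vc D (vec g) (low D r) ∈ O.F := by
  classical
  have hN := O.hN
  set c := vc D (vec g) 0 with hcdef
  obtain ⟨u, hu, hvec, -⟩ := exists_frame O.hl O.C (O.hH hg) hc
  obtain ⟨f, z, rfl⟩ := radQ_form O.hl O.C hu
  set lL := (List.range D.nroots).filter fun r => inQ1 D r && isLong D r with hlL
  set lS := (List.range D.nroots).filter fun r => inQ1 D r && !isLong D r with hlS
  have hsubS : ∀ s ∈ lS, inQ1 D s = true := fun s hs => by simp [hlS] at hs; exact hs.2.1
  have hsubL : ∀ s ∈ lL, inQ1 D s = true := fun s hs => by simp [hlL] at hs; exact hs.2.1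
  have hnS : lS.Nodup := List.Nodup.filter _ List.nodup_range
  have hnL : lL.Nodup := List.Nodup.filter _ List.nodup_range
  have hnotS : ∀ s, isLong D s = true → s ∉ lS := fun s h1 h2 => by simp [hlS, h1] at h2
  have hsplit : plist D (q1List D) f = plist D lL f * plist D lS f := by
    simp [plist, q1List, hlL, hlS]
  have hbv0 : ∀ n < D.nroots, vc D (bv D K 0) n = if n = 0 then (1 : K) else 0 := fun n hn => vc_bv n hn
  have hfix : ∀ w : D.Idx → K, vc D ((rt D (D.nroots - 1) z).1.mulVec w) 0 = vc D w 0 :=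
    radQ_bot hk O.C (rt_mem_radQ (top_inQ O.hl) z)
  have htop_low : ∀ s, inQ1 D s = true → ∀ w : D.Idx → K,
      vc D ((rt D (D.nroots - 1) z).1.mulVec w) (low D s) = vc D w (low D s) := by
    intro s hs w
    obtain ⟨hj, -, -, hrow⟩ := low_spec hk hs
    obtain ⟨s1, s2, s3⟩ := inQ1_iff.1 hs
    rw [row_apply O.C.hC O.top_lt (by omega), hrow _ (top_inQ O.hl),
      if_neg (show ¬ low D s = D.nroots - 1 by omega),
      show (D.nroots - 1 == s) = false by simpa using fun e => by rw [← e, lvl_top O.hl] at s3; omega]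
    simp [rowVal]
  have hlow0 : ∀ s, inQ1 D s = true → low D s ≠ 0 := by
    intro s hs e0
    obtain ⟨s1, s2, s3⟩ := inQ1_iff.1 hs
    have h1 := (low_spec hk hs).2.2.2 s (inQ_iff.2 ⟨s1, s2, by omega⟩)
    rw [e0, rowS_bot hk s1 s2, beq_self_eq_true] at h1
    simp at h1
  -- long parameters
  have hfL : ∀ s ∈ lL, f s ∈ O.F := by
    intro s hs
    obtain ⟨hj, hM, hl, -⟩ := low_spec hk (hsubL s hs)
    have hlong : isLong D s = true := by simp [hlL] at hs; exact hs.2.2
    have h1 := O.long_mem hk hcF hg (hl.trans hlong)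
    rw [hvec, vc_smul, Units.val_mul, ← Matrix.mulVec_mulVec,
      plist_low O.hl O.C hk (fun x hx => mem_q1List.1 hx) nodup_q1List (hsubL s hs),
      if_pos (mem_q1List.2 (hsubL s hs)), hfix, htop_low s (hsubL s hs), hbv0 _ (by omega), hbv0 _ (by omega),
      if_neg (hlow0 s (hsubL s hs)), if_pos rfl, zero_add, mul_one] at h1
    have h2 := mul_mem (mul_mem (intCast_mem O.F (mlow D s)) (inv_mem (hcF g hg))) h1
    rwa [show (mlow D s : K) * c⁻¹ * (c * ((mlow D s : K) * f s)) =
      ((mlow D s : K) * (mlow D s : K)) * (c⁻¹ * c) * f s by ring, cast_unit hM, inv_mul_cancel₀ hc, one_mul,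
      one_mul] at h2
  have hl0 : plist D lL f ∈ O.H := list_prod_mem fun x hx => by
    obtain ⟨s, hs, rfl⟩ := List.mem_map.1 hx
    exact O.rt_mem (inQ1_iff.1 (hsubL s hs)).2.1 (hfL s hs)
  set w := (rt D (D.nroots - 1) z).1.mulVec (bv D K 0) with hwdef
  have hv' : vec ((plist D lL f)⁻¹ * g) = c • (plist D lS f).1.mulVec w := by
    rw [vec_mul, hvec, Matrix.mulVec_smul, hwdef, hsplit, Matrix.mulVec_mulVec, Matrix.mulVec_mulVec,
      ← Units.val_mul, ← Units.val_mul]
    congr 3
    group
  -- the long coordinate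
  simp only [powAll, List.all_eq_true, List.mem_range, Bool.or_eq_true, Bool.not_eq_true'] at hpow
  rcases hpow r (inQ1_iff.1 hr).2.1 with (h | h) | h
  · rw [hr] at h; exact absurd h (by decide)
  · rw [hs] at h; exact absurd h (by decide)
  simp only [powOK, List.any_eq_true, List.mem_range, Bool.and_eq_true, bne_iff_ne, List.all_eq_true,
    Bool.or_eq_true, Bool.not_eq_true', beq_iff_eq, List.isEmpty_iff] at h
  obtain ⟨L, hL, ⟨⟨hL0, hLl⟩, hm⟩, hall⟩ := h
  split at hm
  swap
  · exact absurd hm (by decide)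
  rename_i k m heq
  simp only [Bool.and_eq_true, beq_iff_eq, decide_eq_true_eq] at hm
  obtain ⟨rfl, hm1⟩ := hm
  have hp0 : (k : K) = 0 := CharP.cast_eq_zero K k
  have hnegl : ∀ (l : List (ℕ × ℕ × ℤ)) (t : K) (v : D.Idx → K), (∀ j ∈ lowsLong D, vc D v j = 0) →
      rowVal D l t v = rowVal D (l.filter fun q => q.2.2 % (k : ℤ) != 0 && !((lowsLong D).contains q.1)) t v := by
    intro l t v hv
    induction l with
    | nil => rfl
    | cons e l ih =>
      rw [List.filter_cons]
      split_ifs with he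
      · simp only [rowVal, List.map_cons, List.sum_cons] at ih ⊢; rw [ih]
      · simp only [rowVal, List.map_cons, List.sum_cons] at ih ⊢
        rw [ih]
        simp only [Bool.and_eq_true, bne_iff_ne, Bool.not_eq_true', List.contains_eq_mem, decide_eq_false_iff_not,
          not_and, not_not] at he
        by_cases h1 : e.2.2 % (k : ℤ) = 0
        · obtain ⟨q, hq⟩ := Int.dvd_of_emod_eq_zero h1
          rw [hq]
          push_cast
          rw [hp0]
          simp
        · rw [hv _ (he h1)]; simp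
  have hw0 : vc D w 0 = 1 := by rw [hwdef, hfix, hbv0 _ (by omega), if_pos rfl]
  have hlows : ∀ j ∈ lowsLong D, ∃ s ∈ lL, j = low D s := fun j hj => by
    simp only [lowsLong, List.mem_map] at hj
    obtain ⟨s, hs, rfl⟩ := hj
    exact ⟨s, hs, rfl⟩
  have hwL : vc D w L = 0 := by
    have hnot : inQ1 D (D.nroots - 1) = false := by
      rw [Bool.eq_false_iff]
      intro h; have := (inQ1_iff.1 h).2.2; rw [lvl_top O.hl] at this; omega
    obtain ⟨hne, hh⟩ := ((hall (D.nroots - 1) O.top_lt).resolve_left (by rw [top_inQ O.hl]; decide)).resolve_left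
      (by rw [hnot]; simp)
    have hnr : D.nroots - 1 ≠ r := fun e => by rw [← e, hnot] at hr; exact absurd hr (by decide)
    have hmain : mainRow D k (D.nroots - 1) L = [] := by
      rcases hh with h | h
      · exact absurd h hnr
      · exact h
    rw [hwdef, row_apply O.C.hC O.top_lt hL, if_neg (fun e : L = D.nroots - 1 => hne e),
      hnegl _ _ _ (fun j hj => by
        obtain ⟨s, hs, rfl⟩ := hlows j hj
        rw [hbv0 _ (by have := (low_spec hk (hsubL s hs)).1; omega), if_neg (hlow0 s (hsubL s hs))])]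
    rw [show (rowS D (D.nroots - 1) L).filter (fun q => q.2.2 % (k : ℤ) != 0 && !((lowsLong D).contains q.1)) =
      mainRow D k (D.nroots - 1) L from rfl, hmain, hbv0 _ hL, if_neg hL0]
    simp [rowVal]
  have hsuf : ∀ l : List ℕ, (∀ s ∈ l, s ∈ lS) → l.Nodup →
      vc D ((plist D l f).1.mulVec w) L = if r ∈ l then (m : K) * f r ^ k else 0 := by
    intro l
    induction l with
    | nil => intro _ _; simp [plist, hwL]
    | cons a l ih =>
      intro hsub hn
      obtain ⟨ha, hn'⟩ := List.nodup_cons.1 hn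
      have haS := hsub a List.mem_cons_self
      have hsub' : ∀ s ∈ l, s ∈ lS := fun s hs => hsub s (List.mem_cons_of_mem _ hs)
      obtain ⟨a1, a2, a3⟩ := inQ1_iff.1 (hsubS a haS)
      have haQ : inQ D a = true := inQ_iff.2 ⟨a1, a2, by omega⟩
      obtain ⟨hne, hh⟩ := ((hall a a2).resolve_left (by rw [haQ]; decide)).resolve_left
        (fun h => hnotS a h.2 haS)
      rw [plist_cons, Units.val_mul, ← Matrix.mulVec_mulVec, row_apply O.C.hC a2 hL,
        if_neg (fun e : L = a => hne e), add_zero, hnegl _ _ _ (fun j hj => by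
          obtain ⟨s, hs, rfl⟩ := hlows j hj
          rw [plist_low O.hl O.C hk (fun x hx => hsubS x (hsub' x hx)) hn' (hsubL s hs),
            if_neg (fun h => hnotS s (by simp [hlL] at hs; exact hs.2.2) (hsub' s h)), hwdef,
            htop_low s (hsubL s hs), hbv0 _ (by have := (low_spec hk (hsubL s hs)).1; omega),
            if_neg (hlow0 s (hsubL s hs))]
          simp), ih hsub' hn']
      rw [show (rowS D a L).filter (fun q => q.2.2 % (k : ℤ) != 0 && !((lowsLong D).contains q.1)) =
        mainRow D k a L from rfl]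
      by_cases har : a = r
      · subst har
        rw [heq, if_neg ha]
        simp [rowVal, radQ_bot hk O.C (plist_mem O.hl O.C (fun x hx => hsubS x (hsub' x hx)) f), hw0]
      · have hmain : mainRow D k a L = [] := by
          rcases hh with h | h
          · exact absurd h har
          · exact h
        have hne' : ¬ r = a := fun e => har e.symm
        rw [hmain]
        simp [rowVal, hne']
  have hrS : r ∈ lS := by simp [hlS, hr, hs, (inQ1_iff.1 hr).2.1]
  have hL' := O.long_mem hk hcF (mul_mem (inv_mem hl0) hg) hLl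
  rw [hv', vc_smul, hsuf lS (fun s hs => hs) hnS, if_pos hrS] at hL'
  have hcinv := inv_mem (hcF g hg)
  have h3 := mul_mem (mul_mem (intCast_mem O.F m) hcinv) hL'
  rw [show (m : K) * c⁻¹ * (c * ((m : K) * f r ^ k)) = ((m : K) * (m : K)) * (c⁻¹ * c) * f r ^ k by ring,
    cast_unit hm1, inv_mul_cancel₀ hc, one_mul, one_mul] at h3
  have hfr : f r ∈ O.F := by
    obtain ⟨n, hpp, hn⟩ := FiniteField.card K k
    have : f r = (f r ^ k) ^ (k ^ ((n : ℕ) - 1)) := by
      rw [← pow_mul, ← pow_succ', Nat.sub_add_cancel n.pos, ← hn, FiniteField.pow_card]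
    rw [this]
    exact pow_mem h3 _
  obtain ⟨hj, -, -, -⟩ := low_spec hk hr
  rw [hvec, vc_smul, Units.val_mul, ← Matrix.mulVec_mulVec,
    plist_low O.hl O.C hk (fun x hx => mem_q1List.1 hx) nodup_q1List hr, if_pos (mem_q1List.2 hr), hfix,
    htop_low r hr, hbv0 _ (by omega), hbv0 _ (by omega), if_neg (hlow0 r hr), if_pos rfl, zero_add, mul_one]
  exact mul_mem (hcF g hg) (mul_mem (intCast_mem _ _) hfr)

/-- The coordinates of the image of `e_α` lie in `F`. -/
theorem vec_rat (hshort : ∀ g ∈ O.H, vc D (vec g) 0 ≠ 0 → ∀ r, inQ1 D r = true → isLong D r = false →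
      vc D (vec g) (low D r) ∈ O.F) {g : GL D.Idx K} (hg : g ∈ O.H) : ∀ x, vec g x ∈ O.F := by
  classical
  have hN := O.hN
  have main : ∀ g ∈ O.H, vc D (vec g) 0 ≠ 0 → ∀ x, vec g x ∈ O.F := by
    intro g hg hc
    set c := vc D (vec g) 0 with hcdef
    obtain ⟨u, hu, hvec, -⟩ := exists_frame O.hl O.C (O.hH hg) hc
    obtain ⟨f, z, rfl⟩ := radQ_form O.hl O.C hu
    have hsub : ∀ r ∈ q1List D, inQ1 D r = true := fun r hr => mem_q1List.1 hr
    have hfF : ∀ s ∈ q1List D, f s ∈ O.F := by
      intro s hs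
      obtain ⟨s1, s2, s3⟩ := inQ1_iff.1 (hsub s hs)
      obtain ⟨hj, hM, hlq, hrow⟩ := low_spec hk (hsub s hs)
      have h1 : vc D (vec g) (low D s) ∈ O.F := by
        cases h : isLong D s
        · exact hshort g hg hc s (hsub s hs) h
        · exact O.long_mem hk hcF hg (hlq.trans h)
      have hne : low D s ≠ 0 := by
        intro e0
        have h2 := hrow s (inQ_iff.2 ⟨s1, s2, by omega⟩)
        rw [e0, rowS_bot hk s1 s2, beq_self_eq_true] at h2
        simp at h2
      rw [hvec, vc_smul, Units.val_mul, ← Matrix.mulVec_mulVec, plist_low O.hl O.C hk hsub nodup_q1List (hsub s hs),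
        if_pos hs, radQ_bot hk O.C (rt_mem_radQ (top_inQ O.hl) z), row_apply O.C.hC O.top_lt (by omega),
        hrow _ (top_inQ O.hl), if_neg (show ¬ low D s = D.nroots - 1 by omega),
        show (D.nroots - 1 == s) = false by simpa using fun e => by rw [← e, lvl_top O.hl] at s3; omega,
        vc_bv _ (by omega), vc_bv _ (by omega), if_neg hne, if_pos rfl] at h1
      simp [rowVal] at h1
      have h2 := mul_mem (mul_mem (intCast_mem O.F (mlow D s)) (inv_mem (hcF g hg))) h1
      rwa [show (mlow D s : K) * c⁻¹ * (c * ((mlow D s : K) * f s)) =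
        ((mlow D s : K) * (mlow D s : K)) * (c⁻¹ * c) * f s by ring, cast_unit hM, inv_mul_cancel₀ hc, one_mul,
        one_mul] at h2
    have hlmem : ∀ l : List ℕ, (∀ s ∈ l, s ∈ q1List D) → plist D l f ∈ O.H ∧ plist D l f ∈ ratGL O.F := by
      intro l hl
      refine ⟨list_prod_mem fun x hx => ?_, list_prod_mem fun x hx => ?_⟩ <;>
        obtain ⟨s, hs, rfl⟩ := List.mem_map.1 hx
      · exact O.rt_mem (inQ1_iff.1 (hsub s (hl s hs))).2.1 (hfF s (hl s hs))
      · exact rt_ratGL O.C O.F (inQ1_iff.1 (hsub s (hl s hs))).2.1 (hfF s (hl s hs))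
    obtain ⟨hlH, hlR⟩ := hlmem _ (fun s hs => hs)
    set l0 := plist D (q1List D) f
    set g' := l0⁻¹ * g with hg'def
    have hg' : g' ∈ O.H := mul_mem (inv_mem hlH) hg
    have hv' : vec g' = c • (rt D (D.nroots - 1) z).1.mulVec (bv D K 0) := by
      rw [hg'def, vec_mul, hvec, Matrix.mulVec_smul, Matrix.mulVec_mulVec, ← Units.val_mul, inv_mul_cancel_left]
    have hneg := O.neg_top
    have hbvn : vc D (bv D K 0) (D.nroots - 1) = 0 := by rw [vc_bv _ O.top_lt, if_neg (by omega)]
    have hxv : (rt D (D.nroots - 1) z).1.mulVec (bv D K 0) = bv D K 0 +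
        (∑ m ∈ Finset.range D.rank, ((crt D (D.nroots - 1) m : K) * z) • bv D K (D.nroots + m)) -
          (z ^ 2) • bv D K (D.nroots - 1) := by
      have := O.C.hC.x_bv_neg (F := K) O.top_lt z
      rw [hneg] at this
      rw [O.C.hC.coe_rt]
      exact this
    have hzF : z ∈ O.F := by
      have htl := long_top O.hl
      have hcinv := inv_mem (hcF g hg)
      have h1 := O.long_mem hk hcF hg' htl
      have e1 : vc D (vec g') (D.nroots - 1) = -(c * z ^ 2) := by
        rw [hv', vc_smul, hxv, vc, dif_pos O.top_lt]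
        have : ∀ m, D.nroots - 1 ≠ D.nroots + m := fun m => by omega
        simp [bv, basisVec, this, show D.nroots - 1 ≠ 0 by omega, Finset.sum_apply]
      rw [e1] at h1
      have hz2 : z ^ 2 ∈ O.F := by
        have := mul_mem hcinv (neg_mem h1)
        rwa [neg_neg, inv_mul_cancel_left₀ hc] at this
      by_cases h2 : (2 : K) = 0
      · obtain ⟨q, hq⟩ := CharP.exists K
        have hq2 : q = 2 := ((Nat.prime_dvd_prime_iff_eq ((CharP.char_is_prime_or_zero K q).resolve_right
          (CharP.char_ne_zero_of_finite K q)) Nat.prime_two).1 ((CharP.cast_eq_zero_iff K q 2).1 (by exact_mod_cast h2)))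
        subst hq2
        obtain ⟨n, -, hn⟩ := FiniteField.card K 2
        have : z = (z ^ 2) ^ (2 ^ ((n : ℕ) - 1)) := by
          rw [← pow_mul, ← pow_succ', Nat.sub_add_cancel n.pos, ← hn, FiniteField.pow_card]
        rw [this]
        exact pow_mem hz2 _
      · have h3 := O.long_mem hk hcF (mul_mem (O.hone _ O.top_lt) hg') htl
        have e2 : ∀ i : Fin D.rank, vc D (vec g') (D.nroots + i.val) = c * ((crt D (D.nroots - 1) i.val : K) * z) := by
          intro i
          rw [hv', vc_smul, hxv]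
          congr 1
          rw [show D.nroots + i.val = H52.code D (Sum.inl i : D.Idx) from rfl, vc_code]
          have e1 : D.nroots + i.val ≠ 0 := by omega
          have e2 : D.nroots + i.val ≠ D.nroots - 1 := by omega
          simp [bv, basisVec, e1, e2, Finset.sum_apply, show D.nroots ≠ 0 by omega]
        have e3 : vc D (vec g') 0 = c := by
          rw [hv', vc_smul, radQ_bot hk O.C (rt_mem_radQ (top_inQ O.hl) z), vc_bv _ (by omega), if_pos rfl, mul_one]
        rw [vec_mul, row_apply O.C.hC O.top_lt O.top_lt, if_pos rfl, hneg, e3,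
          Finset.sum_congr rfl fun (i : Fin D.rank) _ => by rw [e2 i]] at h3
        have hrow : rowVal D (rowS D (D.nroots - 1) (D.nroots - 1)) (1 : K) (vec g') = 0 := by
          have := rowS_top O.hl
          simp [this, rowVal]
        rw [hrow, e1, add_zero] at h3
        have hsum : (∑ i : Fin D.rank, (D.cartan i.val (D.nroots - 1) : K) * (c * ((crt D (D.nroots - 1) i.val : K) * z))) =
            c * z * 2 := by
          rw [show (2 : K) = ((pairInt D (D.nroots - 1) (D.nroots - 1) : ℤ) : K) by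
            rw [O.C.hC.pair_self O.top_lt]; norm_num, O.C.hC.pairInt_eq_sum, Finset.sum_range, Int.cast_sum,
            Finset.mul_sum]
          exact Finset.sum_congr rfl fun i _ => by push_cast; ring
        rw [hsum, one_pow, one_mul, mul_one] at h3
        have h4 : c * z * 2 ∈ O.F := by
          have := sub_mem (sub_mem (neg_mem (mul_mem (hcF g hg) hz2)) (hcF g hg)) h3
          rwa [show -(c * z ^ 2) - c - (-(c * z ^ 2) + (-(c * z * 2) - c)) = c * z * 2 by ring] at this
        have h5 := mul_mem (mul_mem hcinv h4) (inv_mem (by exact_mod_cast natCast_mem O.F 2 : (2 : K) ∈ O.F))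
        rwa [show c⁻¹ * (c * z * 2) * 2⁻¹ = c⁻¹ * c * z * (2 * 2⁻¹) by ring, inv_mul_cancel₀ hc, one_mul,
          mul_inv_cancel₀ h2, mul_one] at h5
    intro x
    rw [hvec, Pi.smul_apply, smul_eq_mul]
    refine mul_mem (hcF g hg) (vc_mulVec_mem O.F (mul_mem hlR (rt_ratGL O.C O.F O.top_lt hzF)) (fun y => ?_) x)
    rcases y with j | s <;> simp only [bv, basisVec, Sum.elim_inl, Sum.elim_inr] <;> split_ifs <;>
      first | exact one_mem _ | exact zero_mem _
  by_cases hc : vc D (vec g) 0 = 0
  · -- move a non-zero long coordinate to `-α`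
    obtain ⟨u, hu, d, hd, L, v, hv, he⟩ := O.C.exists_nf (O.hH hg)
    set a : Fin D.nroots := ⟨D.nroots - 1, O.top_lt⟩
    set s := O.C.wperm L a
    obtain ⟨e, hee, hn1, -⟩ := nw_act (K := K) O.C L a
    obtain ⟨χ, hχ, hd1, -⟩ := diag_act O.C hd s.isLt
    obtain ⟨hv1, -⟩ := pos_top O.hl O.C (O.C.uinv_le _ hv)
    have hvs : vc D (vec g) s.val = e * χ := by
      have hvec : vec g = (e * χ) • (u : Matrix D.Idx D.Idx K).mulVec (bv D K s.val) := by
        rw [he]
        simp only [vec, Units.val_mul, ← Matrix.mulVec_mulVec]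
        rw [hv1, show eTop D K = bv D K a.val from rfl, hn1, Matrix.mulVec_smul, hd1, smul_smul, Matrix.mulVec_smul]
      rw [hvec, vc_smul, vc, dif_pos s.isLt, bv,
        show basisVec D K s.val = Pi.single (Sum.inr s : D.Idx) 1 from basisVec_code (Sum.inr s : D.Idx),
        Matrix.mulVec_single_one, Matrix.col_apply]
      have := (O.C.hC.posUnipotent_le_uni hu).1 (Sum.inr s) (Sum.inr s) (by omega)
      rw [Matrix.sub_apply, sub_eq_zero, Matrix.one_apply_eq] at this
      show e * χ * (u : Matrix D.Idx D.Idx K) (Sum.inr ⟨s.val, _⟩) (Sum.inr s) = _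
      rw [Fin.eta, this, mul_one]
    obtain ⟨L0, hL0⟩ := O.exists_word_top O.bot_long
    obtain ⟨e', he', hnv⟩ := vc_nw (K := K) O.C (L0 ++ L.reverse) s
    have hw0 : (O.C.wperm (L0 ++ L.reverse) s).val = 0 := by
      rw [O.C.wperm_append, Equiv.Perm.mul_apply, O.C.wperm_reverse, Equiv.Perm.inv_def, Equiv.symm_apply_apply]
      exact hL0
    set n := H54.Ctx.nw D K (L0 ++ L.reverse) with hndef
    have hne : vc D (vec (n * g)) 0 ≠ 0 := by
      rw [vec_mul, ← hw0, hnv, hvs]
      have he0 : e ≠ 0 := fun h => by rw [h] at hee; simp at hee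
      have he0' : e' ≠ 0 := fun h => by rw [h] at he'; simp at he'
      exact mul_ne_zero he0' (mul_ne_zero he0 hχ)
    have h1 := main _ (mul_mem (O.nw_mem _) hg) hne
    intro x
    have : vec g = (n⁻¹ : GL D.Idx K).1.mulVec (vec (n * g)) := by
      rw [vec_mul n g, Matrix.mulVec_mulVec, ← Units.val_mul, inv_mul_cancel, Units.val_one, Matrix.one_mulVec]
    rw [this]
    exact vc_mulVec_mem O.F (inv_mem (nw_ratGL O.C O.F _)) h1 x
  · exact main g hg hc

end Ov

end H66.Subfield
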