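import Cfsg.Agent.H66.Subfield.Final
import Mathlib.RingTheory.Jacobson.Ring
import Mathlib.FieldTheory.Finite.GaloisField
import Mathlib.FieldTheory.IsAlgClosed.Basic
import Mathlib.RingTheory.LittleWedderburn

/-!
Specialisation of matrix groups over a finitely generated ring, and subfields of finite fields.
-/

set_option autoImplicit false
set_option linter.unusedSectionVars false

open Cfsg.Lie H52 Polynomial
open scoped MatrixGroups

namespace H66.Subfield

variable {D : ChevalleyDatum}

section finite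

variable {K : Type*} [Field K] [Fintype K]

/-- The overgroup data of a subgroup. -/
theorem exists_ov (hD : D ∈ [chevG2, chevB2, chevD4, chevF4, chevE6, chevE7, chevE8])
    {H : Subgroup (GL D.Idx K)} (hH : H ≤ D.group K) (hone : ∀ r < D.nroots, rt D r (1 : K) ∈ H) :
    ∃ O : Ov D K, O.H = H := by
  obtain ⟨C⟩ := H54.exists_ctx hD
  exact ⟨⟨C, (facts_of_mem hD).1, (facts_of_mem hD).2.1, H, hH, hone⟩, rfl⟩

theorem Ov.card_F_le (O : Ov D K) : Nat.card O.F ≤ Nat.card O.H :=
  Nat.card_le_card_of_injective (fun t => ⟨rt D (D.nroots - 1) t.1, O.mem_F.1 t.2⟩) fun a b h =>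
    Subtype.ext (O.C.hC.rt_injective O.top_lt (congrArg Subtype.val h))

/-- The fixed field of the `q`-th power map, `q = p ^ a`. -/
noncomputable def fixF (K : Type*) [Field K] (p : ℕ) [Fact p.Prime] [CharP K p] (a : ℕ) : Subfield K :=
  (iterateFrobenius K p a).eqLocusField (RingHom.id K)

theorem mem_fixF {K : Type*} [Field K] {p : ℕ} [Fact p.Prime] [CharP K p] {a : ℕ} {x : K} :
    x ∈ fixF K p a ↔ x ^ p ^ a = x := by
  simp [fixF, RingHom.mem_eqLocusField, iterateFrobenius_def]

theorem card_le_of_pow_eq {L : Type*} [Field L] {n : ℕ} (hn : 1 < n) (S : Set L) (hS : ∀ x ∈ S, x ^ n = x) :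
    S.Finite ∧ Nat.card S ≤ n := by
  classical
  have hne : (X ^ n - X : L[X]) ≠ 0 := FiniteField.X_pow_card_sub_X_ne_zero L hn
  have hsub : S ⊆ ↑(X ^ n - X : L[X]).roots.toFinset := fun x hx => by
    simp [mem_roots hne, hS x hx, sub_eq_zero]
  refine ⟨(Finset.finite_toSet _).subset hsub, ?_⟩
  refine le_trans (Nat.card_mono (Finset.finite_toSet _) hsub) ?_
  rw [Nat.card_eq_card_toFinset, Finset.toFinset_coe]
  exact le_trans (Multiset.toFinset_card_le _) (le_trans (card_roots' _)
    (le_of_eq (FiniteField.X_pow_card_sub_X_natDegree_eq L hn)))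

/-- The order of a subfield is a power of the order of a smaller one. -/
theorem card_pow_of_le {k F : Subfield K} (h : k ≤ F) :
    ∃ d, 1 ≤ d ∧ Nat.card F = Nat.card k ^ d := by
  letI : Algebra k F := (Subfield.inclusion h).toAlgebra
  exact ⟨Module.finrank k F, Module.finrank_pos, Module.natCard_eq_pow_finrank⟩

theorem eq_of_le_of_card {k F : Subfield K} (h : k ≤ F) (hc : Nat.card F ≤ Nat.card k) : k = F :=
  SetLike.coe_injective (Set.eq_of_subset_of_ncard_le h (by simpa [← Nat.card_coe_set_eq] using hc))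

end finite

section spec

variable {k : Type*} [Field k]

/-- The matrices with entries in a subring, together with their inverses. -/
def ratRing (R : Subring k) : Subgroup (GL D.Idx k) where
  carrier := {g | (∀ i j, (g : Matrix D.Idx D.Idx k) i j ∈ R) ∧
    ∀ i j, ((g⁻¹ : GL D.Idx k) : Matrix D.Idx D.Idx k) i j ∈ R}
  one_mem' := by
    constructor <;> intro i j <;> simp only [inv_one, Units.val_one, Matrix.one_apply] <;> split_ifs <;>
      first | exact one_mem R | exact zero_mem R
  mul_mem' := by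
    rintro a b ⟨ha, ha'⟩ ⟨hb, hb'⟩
    refine ⟨fun i j => ?_, fun i j => ?_⟩
    · rw [Units.val_mul, Matrix.mul_apply]
      exact sum_mem fun x _ => mul_mem (ha i x) (hb x j)
    · rw [mul_inv_rev, Units.val_mul, Matrix.mul_apply]
      exact sum_mem fun x _ => mul_mem (hb' i x) (ha' x j)
  inv_mem' := by
    rintro a ⟨ha, ha'⟩
    exact ⟨ha', by rw [inv_inv]; exact ha⟩

theorem rt_ratRing (C : H54.Ctx D) {R : Subring k} {r : ℕ} (hr : r < D.nroots) {t : k} (ht : t ∈ R) :
    rt D r t ∈ ratRing (D := D) R := by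
  have key : ∀ t ∈ R, ∀ i j, (rt D r t : GL D.Idx k).1 i j ∈ R := by
    intro t ht i j
    rw [C.hC.coe_rt, ChevalleyDatum.x, dif_pos hr, H54.WR.xEnt_spec]
    refine list_sum_mem fun x hx => ?_
    obtain ⟨km, -, rfl⟩ := List.mem_map.1 hx
    exact mul_mem (intCast_mem R _) (pow_mem ht _)
  refine ⟨key t ht, ?_⟩
  rw [C.hC.rt_inv]
  exact key _ (neg_mem ht)

/-- The group generated by the root elements with parameters in a subring. -/
noncomputable def groupR (D : ChevalleyDatum) (R : Subring k) : Subgroup (GL D.Idx k) :=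
  Subgroup.closure {g | ∃ (r : ℕ) (t : k), r < D.nroots ∧ t ∈ R ∧ g = rt D r t}

theorem groupR_le (C : H54.Ctx D) (R : Subring k) : groupR D R ≤ ratRing R := by
  rw [groupR, Subgroup.closure_le]
  rintro g ⟨r, t, hr, ht, rfl⟩
  exact rt_ratRing C hr ht

theorem exists_params (C : H54.Ctx D) {g : GL D.Idx k} (hg : g ∈ D.group k) :
    ∃ T : Set k, T.Finite ∧ ∀ R : Subring k, T ⊆ ↑R → g ∈ groupR D R := by
  rw [C.hC.group_eq] at hg
  induction hg using Subgroup.closure_induction with
  | mem y hy =>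
    obtain ⟨r, t, hr, rfl⟩ := hy
    exact ⟨{t}, Set.finite_singleton t, fun R hR =>
      Subgroup.subset_closure ⟨r, t, hr, hR rfl, rfl⟩⟩
  | one => exact ⟨∅, Set.finite_empty, fun R _ => one_mem _⟩
  | mul a b _ _ iha ihb =>
    obtain ⟨S, hS, hS'⟩ := iha
    obtain ⟨S', hS2, hS2'⟩ := ihb
    exact ⟨S ∪ S', hS.union hS2, fun R hR => mul_mem (hS' R (fun x hx => hR (Or.inl hx)))
      (hS2' R (fun x hx => hR (Or.inr hx)))⟩
  | inv a _ iha =>
    obtain ⟨S, hS, hS'⟩ := iha
    exact ⟨S, hS, fun R hR => inv_mem (hS' R hR)⟩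

/-- A matrix with entries in a subring as a matrix over that subring. -/
def resGL (R : Subring k) : ↥(ratRing (D := D) R) →* GL D.Idx R where
  toFun g :=
    ⟨Matrix.of fun i j => ⟨g.1.1 i j, g.2.1 i j⟩, Matrix.of fun i j => ⟨(g.1⁻¹).1 i j, g.2.2 i j⟩,
      by
        apply Matrix.map_injective (f := R.subtype) Subtype.val_injective
        beta_reduce
        rw [Matrix.map_mul, Matrix.map_one _ (map_zero _) (map_one _)]
        exact g.1.mul_inv,
      by
        apply Matrix.map_injective (f := R.subtype) Subtype.val_injective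
        beta_reduce
        rw [Matrix.map_mul, Matrix.map_one _ (map_zero _) (map_one _)]
        exact g.1.inv_mul⟩
  map_one' := by
    apply Units.ext
    ext i j
    simp only [Subgroup.coe_one, Units.val_one, Matrix.of_apply, Matrix.one_apply]
    split_ifs <;> rfl
  map_mul' g h := by
    apply Units.ext
    ext i j
    simp only [Subgroup.coe_mul, Units.val_mul, Matrix.of_apply, Matrix.mul_apply]
    push_cast
    rfl

variable {K : Type*} [Field K]

/-- Specialisation along a ring homomorphism. -/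
noncomputable def specGL (R : Subring k) (π : R →+* K) : ↥(ratRing (D := D) R) →* GL D.Idx K :=
  (Matrix.GeneralLinearGroup.map π).comp (resGL R)

theorem specGL_apply (R : Subring k) (π : R →+* K) (g : ↥(ratRing (D := D) R)) (i j : D.Idx) :
    (specGL R π g : Matrix D.Idx D.Idx K) i j = π ⟨g.1.1 i j, g.2.1 i j⟩ := rfl

theorem specGL_rt (C : H54.Ctx D) (R : Subring k) (π : R →+* K) {r : ℕ} (hr : r < D.nroots) {t : k} (ht : t ∈ R) :
    specGL R π ⟨rt D r t, rt_ratRing C hr ht⟩ = rt D r (π ⟨t, ht⟩) := by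
  apply Units.ext
  ext i j
  rw [specGL_apply]
  conv_rhs => rw [C.hC.coe_rt, ChevalleyDatum.x, dif_pos hr, H54.WR.xEnt_spec]
  have : (⟨(rt D r t : GL D.Idx k).1 i j, (rt_ratRing C hr ht).1 i j⟩ : R) =
      ((H54.WR.xEnt D ⟨r, hr⟩ i j).map fun km => (km.2 : R) * (⟨t, ht⟩ : R) ^ km.1).sum := by
    apply Subtype.ext
    simp only [AddSubmonoidClass.coe_list_sum, List.map_map]
    rw [C.hC.coe_rt, ChevalleyDatum.x, dif_pos hr, H54.WR.xEnt_spec]
    congr 1
  rw [this, map_list_sum, List.map_map]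
  congr 1
  refine List.map_congr_left fun km _ => ?_
  rw [Function.comp_apply, map_mul, map_intCast, map_pow]

theorem specGL_group (C : H54.Ctx D) (R : Subring k) (π : R →+* K) (g : ↥(ratRing (D := D) R))
    (hg : g.1 ∈ groupR D R) : specGL R π g ∈ D.group K := by
  suffices ∀ x (hx : x ∈ groupR D R), specGL R π ⟨x, groupR_le C R hx⟩ ∈ D.group K from this g.1 hg
  intro x hx
  induction hx using Subgroup.closure_induction with
  | mem y hy =>
    obtain ⟨r, t, hr, ht, rfl⟩ := hy
    exact (specGL_rt C R π hr ht).symm ▸ C.hC.rt_mem_group r _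
  | one =>
    exact (map_one (specGL R π)).symm ▸ one_mem (D.group K)
  | mul a b ha hb iha ihb =>
    exact (map_mul (specGL R π) ⟨a, groupR_le C R ha⟩ ⟨b, groupR_le C R hb⟩).symm ▸ mul_mem iha ihb
  | inv a ha iha =>
    exact (map_inv (specGL R π) ⟨a, groupR_le C R ha⟩).symm ▸ inv_mem iha

/-- An entry of a root element is a unit multiple of the parameter. -/
theorem exists_entry (C : H54.Ctx D) (hl : lvlChk D = true) :
    ∀ {L : Type*} [Field L], ∃ (i j : D.Idx) (c : ℤ), (c : L) ≠ 0 ∧
      ∀ t : L, (rt D (D.nroots - 1) t : GL D.Idx L).1 i j = (c : L) * t := by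
  intro L _
  have hN : 2 ≤ D.nroots := two_le_nroots hl
  have htop : D.nroots - 1 < D.nroots := by omega
  obtain ⟨m, hm, hne⟩ := C.hC.exists_crt_ne_zero L htop
  have hneg : D.neg (D.nroots - 1) = 0 := by rw [C.hC.neg_eq htop]; omega
  refine ⟨Sum.inl ⟨m, hm⟩, Sum.inr ⟨0, by omega⟩, crt D (D.nroots - 1) m, hne, fun t => ?_⟩
  have h1 := congrFun (C.hC.x_bv_neg (F := L) htop t) (Sum.inl ⟨m, hm⟩)
  rw [hneg, ← C.hC.coe_rt] at h1
  rw [show bv D L 0 = Pi.single (Sum.inr ⟨0, by omega⟩ : D.Idx) 1 from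
    basisVec_code (Sum.inr ⟨0, by omega⟩ : D.Idx), Matrix.mulVec_single_one, Matrix.col_apply] at h1
  rw [h1]
  have e1 : ∀ x, D.nroots - 1 ≠ D.nroots + x := fun x => by omega
  simp only [bv, basisVec, Pi.sub_apply, Pi.add_apply, Pi.smul_apply, Finset.sum_apply, smul_eq_mul]
  rw [Finset.sum_eq_single m]
  · simp; intro h; omega
  · intro b _ hb
    simp [Ne.symm hb]
  · intro h; exact absurd (Finset.mem_range.2 hm) h

end spec

end H66.Subfield
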